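import Mathlib

set_option autoImplicit false

namespace Groth.Agent.H5.CD

open IsLocalRing

section AL
variable {A κ V : Type*} [CommRing A] [IsLocalRing A] [Field κ] [AddCommGroup V] [Module κ V]
  (φ : A →+* κ) (δ : A →+ V) (hδ : ∀ a b, δ (a * b) = φ a • δ b + φ b • δ a)
  (hspan : Submodule.span κ (Set.range δ) = ⊤)

include hδ hspan in
/-- a proper subspace misses some `δ (u x)` with `u` a unit. -/
lemma exists_unit_notMem (W : Submodule κ V) (hW : W ≠ ⊤) (x : A) (hxm : x ∈ maximalIdeal A)
    (hx : φ x ≠ 0) : ∃ u : Aˣ, δ ((u : A) * x) ∉ W := by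
  by_contra hcon
  push_neg at hcon
  apply hW
  have h1 : δ 1 = 0 := by
    have h0 := hδ 1 1
    rw [mul_one, RingHom.map_one, one_smul] at h0
    have h2 : δ 1 + δ 1 = δ 1 + 0 := by rw [add_zero]; exact h0.symm
    exact add_left_cancel h2
  have hx' : δ x ∈ W := by
    have := hcon 1
    rwa [Units.val_one, one_mul] at this
  -- `δ u ∈ W` for units `u`
  have hu : ∀ u : Aˣ, δ (u : A) ∈ W := by
    intro u
    have h2 := hcon u
    rw [hδ] at h2
    have h3 : φ x • δ (u : A) ∈ W := by
      have := W.sub_mem h2 (W.smul_mem (φ (u : A)) hx')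
      rwa [add_sub_cancel_left] at this
    have := W.smul_mem (φ x)⁻¹ h3
    rwa [smul_smul, inv_mul_cancel₀ hx, one_smul] at this
  -- `δ t ∈ W` for `t ∈ m`
  have hm : ∀ t ∈ maximalIdeal A, δ t ∈ W := by
    intro t ht
    have hunit : IsUnit (1 + t) := by
      by_contra hnu
      have h4 : (1 + t) ∈ maximalIdeal A := (IsLocalRing.mem_maximalIdeal _).mpr hnu
      have h5 : (1 : A) ∈ maximalIdeal A := by
        have := (maximalIdeal A).sub_mem h4 ht
        rwa [add_sub_cancel_right] at this
      exact (Ideal.ne_top_iff_one _).mp (IsLocalRing.maximalIdeal.isMaximal A).ne_top h5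
    have h6 := hu hunit.unit
    rw [IsUnit.unit_spec, map_add, h1, zero_add] at h6
    exact h6
  -- `δ a ∈ W` for all `a`
  have hall : ∀ a : A, δ a ∈ W := by
    intro a
    have h7 := hm (x * a) (Ideal.mul_mem_right _ _ hxm)
    rw [hδ] at h7
    have h8 : φ x • δ a ∈ W := by
      have := W.sub_mem h7 (W.smul_mem (φ a) hx')
      rwa [add_sub_cancel_right] at this
    have := W.smul_mem (φ x)⁻¹ h8
    rwa [smul_smul, inv_mul_cancel₀ hx, one_smul] at this
  rw [eq_top_iff, ← hspan, Submodule.span_le]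
  rintro _ ⟨a, rfl⟩
  exact hall a

include hδ hspan in
theorem exists_units_linearIndependent [FiniteDimensional κ V] (M : ℕ)
    (hM : Module.finrank κ V = M) (x : Fin M → A)
    (hx : ∀ i, x i ∈ maximalIdeal A ∧ φ (x i) ≠ 0) :
    ∃ u : Fin M → Aˣ, LinearIndependent κ (fun i => δ ((u i : A) * x i)) := by
  have key : ∀ j (hj : j ≤ M), ∃ u : Fin j → Aˣ,
      LinearIndependent κ (fun i : Fin j => δ ((u i : A) * x (Fin.castLE hj i))) := by
    intro j
    induction j with
    | zero =>
      intro _
      exact ⟨fun i => i.elim0, linearIndependent_empty_type⟩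
    | succ j ih =>
      intro hj1
      have hj : j ≤ M := Nat.le_of_succ_le hj1
      obtain ⟨u, hu⟩ := ih hj
      set v : Fin j → V := fun i : Fin j => δ ((u i : A) * x (Fin.castLE hj i)) with hv
      have hW : Submodule.span κ (Set.range v) ≠ ⊤ := by
        intro htop
        have h1 : (Set.range v).finrank κ ≤ Fintype.card (Fin j) := finrank_range_le_card v
        have h2 : (Set.range v).finrank κ = Module.finrank κ V := by
          unfold Set.finrank
          rw [htop, finrank_top]
        rw [h2, hM, Fintype.card_fin] at h1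
        omega
      obtain ⟨u', hu'⟩ := exists_unit_notMem φ δ hδ hspan _ hW (x ⟨j, hj1⟩) (hx _).1 (hx _).2
      refine ⟨Fin.snoc u u', ?_⟩
      have heq : (fun i : Fin (j + 1) =>
          δ (((Fin.snoc u u' : Fin (j + 1) → Aˣ) i : A) * x (Fin.castLE hj1 i))) =
          Fin.snoc v (δ ((u' : A) * x ⟨j, hj1⟩)) := by
        funext i
        refine Fin.lastCases ?_ (fun i' => ?_) i
        · rw [Fin.snoc_last, Fin.snoc_last]
          rfl
        · rw [Fin.snoc_castSucc, Fin.snoc_castSucc]
          rfl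
      rw [heq]
      exact linearIndependent_finSnoc.mpr ⟨hu, hu'⟩
  obtain ⟨u, hu⟩ := key M le_rfl
  exact ⟨u, hu⟩

end AL

end Groth.Agent.H5.CD
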