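import Mathlib
import Groth.Agent.Lib.Helper5.Car.CF2
import Groth.Agent.Lib.Helper5.CD.A

set_option autoImplicit false
universe u

open TensorProduct IsLocalRing

namespace Groth.Agent.H5.CD

section
variable (k A : Type u) [Field k] [CommRing A] [IsLocalRing A] [IsNoetherianRing A] [Algebra k A]
  [IsAdicComplete (maximalIdeal A) A] [Module.Finite k (ResidueField A)]

/-- the canonical map to the completed module of differentials is surjective. -/
theorem of_surjective :
    Function.Surjective (AdicCompletion.of (maximalIdeal A) (Ω[A⁄k])) := by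
  haveI : Module.Finite k (A ⧸ maximalIdeal A) := ‹Module.Finite k (ResidueField A)›
  haveI : Module.Finite (A ⧸ maximalIdeal A) (Ω[A ⧸ maximalIdeal A⁄k]) := inferInstance
  haveI : Module.Finite A (maximalIdeal A).Cotangent :=
    Module.Finite.of_surjective (maximalIdeal A).toCotangent (maximalIdeal A).toCotangent_surjective
  haveI : Module.Finite (A ⧸ maximalIdeal A) (maximalIdeal A).Cotangent :=
    Module.Finite.of_restrictScalars_finite A (A ⧸ maximalIdeal A) _
  haveI := CF.finite_tensor_kaehler k (maximalIdeal A)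
  haveI : Module.Finite A (Ω[A⁄k] ⧸ (maximalIdeal A • ⊤ : Submodule A (Ω[A⁄k]))) :=
    Module.Finite.equiv (TensorProduct.quotTensorEquivQuotSMul (Ω[A⁄k]) (maximalIdeal A))
  obtain ⟨N, hN, h1⟩ := CF.exists_fg_sup_smul_top (maximalIdeal A) (Ω[A⁄k])
  obtain ⟨d, s, hs⟩ := Submodule.fg_iff_exists_fin_generating_family.mp hN
  have h1' : LinearMap.range (Fintype.linearCombination A s) ⊔
      maximalIdeal A • (⊤ : Submodule A (Ω[A⁄k])) = ⊤ := by
    rw [Fintype.range_linearCombination, hs]; exact h1
  have h2 := CF.of_comp_linearCombination_surjective (maximalIdeal A) s h1'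
  exact Function.Surjective.of_comp h2

end

section main
variable (k A : Type u) [Field k] [CommRing A] [IsLocalRing A] [IsNoetherianRing A] [Algebra k A]
  [IsAdicComplete (maximalIdeal A) A] [Module.Finite k (ResidueField A)]
  (p : Ideal A) [p.IsPrime]

local notation "Ωh" => AdicCompletion (maximalIdeal A) (Ω[A⁄k])
local notation "Rp" => Localization.AtPrime p
local notation "Lp" => LocalizedModule p.primeCompl (AdicCompletion (maximalIdeal A) (Ω[A⁄k]))
local notation "κp" => ResidueField (Localization.AtPrime p)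

lemma one_tmul_smul (a : A) (l : Lp) :
    (1 : κp) ⊗ₜ[Rp] (a • l) = algebraMap A κp a • ((1 : κp) ⊗ₜ[Rp] l) := by
  rw [← algebraMap_smul Rp a l, TensorProduct.tmul_smul, TensorProduct.smul_tmul',
    TensorProduct.smul_tmul']
  congr 1

/-- the derivation `a ↦ 1 ⊗ [d a]` into the fibre of the completed differentials at `p`. -/
noncomputable def del : A →+ κp ⊗[Rp] Lp where
  toFun a := (1 : κp) ⊗ₜ[Rp] (LocalizedModule.mkLinearMap p.primeCompl Ωh
    (AdicCompletion.of (maximalIdeal A) (Ω[A⁄k]) (KaehlerDifferential.D k A a)))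
  map_zero' := by rw [map_zero, map_zero, map_zero, TensorProduct.tmul_zero]
  map_add' a b := by rw [map_add, map_add, map_add, TensorProduct.tmul_add]

lemma del_mul (a b : A) :
    del k A p (a * b) = algebraMap A κp a • del k A p b + algebraMap A κp b • del k A p a := by
  show (1 : κp) ⊗ₜ[Rp] _ = _ • ((1 : κp) ⊗ₜ[Rp] _) + _ • ((1 : κp) ⊗ₜ[Rp] _)
  rw [Derivation.leibniz, map_add, map_add, map_smul, map_smul, map_smul, map_smul,
    TensorProduct.tmul_add, one_tmul_smul, one_tmul_smul]

lemma span_del :
    Submodule.span κp (Set.range (del k A p)) = ⊤ := by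
  have hof := of_surjective k A
  -- elements `1 ⊗ [of ω]`
  have h1 : ∀ ω : Ω[A⁄k], (1 : κp) ⊗ₜ[Rp] (LocalizedModule.mkLinearMap p.primeCompl Ωh
      (AdicCompletion.of (maximalIdeal A) (Ω[A⁄k]) ω)) ∈
      Submodule.span κp (Set.range (del k A p)) := by
    intro ω
    have hω : ω ∈ Submodule.span A (Set.range (KaehlerDifferential.D k A)) := by
      rw [KaehlerDifferential.span_range_derivation]; trivial
    induction hω using Submodule.span_induction with
    | mem ω hω =>
      obtain ⟨b, rfl⟩ := hω
      exact Submodule.subset_span ⟨b, rfl⟩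
    | zero => simp
    | add x y _ _ hx hy =>
      rw [map_add, map_add, TensorProduct.tmul_add]
      exact Submodule.add_mem _ hx hy
    | smul a x _ hx =>
      rw [map_smul, map_smul, one_tmul_smul]
      exact Submodule.smul_mem _ _ hx
  rw [eq_top_iff]
  rintro v -
  induction v using TensorProduct.induction_on with
  | zero => exact Submodule.zero_mem _
  | add x y hx hy => exact Submodule.add_mem _ hx hy
  | tmul c l =>
    induction l using LocalizedModule.induction_on with
    | h z s =>
      obtain ⟨ω, rfl⟩ := hof z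
      have h2 : LocalizedModule.mk (AdicCompletion.of (maximalIdeal A) (Ω[A⁄k]) ω) s =
          (Localization.mk (1 : A) s : Rp) •
            LocalizedModule.mkLinearMap p.primeCompl Ωh
              (AdicCompletion.of (maximalIdeal A) (Ω[A⁄k]) ω) := by
        rw [LocalizedModule.mkLinearMap_apply, LocalizedModule.mk_smul_mk, one_smul, mul_one]
      rw [h2, TensorProduct.tmul_smul, TensorProduct.smul_tmul']
      have h3 : ((Localization.mk (1 : A) s : Rp) • c) ⊗ₜ[Rp]
          (LocalizedModule.mkLinearMap p.primeCompl Ωh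
            (AdicCompletion.of (maximalIdeal A) (Ω[A⁄k]) ω)) =
          ((Localization.mk (1 : A) s : Rp) • c) • ((1 : κp) ⊗ₜ[Rp]
          (LocalizedModule.mkLinearMap p.primeCompl Ωh
            (AdicCompletion.of (maximalIdeal A) (Ω[A⁄k]) ω))) := by
        rw [TensorProduct.smul_tmul', smul_eq_mul, mul_one]
      rw [h3]
      exact Submodule.smul_mem _ _ (h1 ω)

theorem main (M : ℕ)
    (hgen : ∃ s : Fin M → Lp, Submodule.span Rp (Set.range s) = ⊤)
    (hmin : ∀ (s : Finset Lp), Submodule.span Rp (↑s : Set Lp) = ⊤ → M ≤ s.card)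
    (x : Fin M → A) (hx : ∀ i, x i ∈ maximalIdeal A ∧ x i ∉ p) :
    ∃ u : Fin M → Aˣ, Submodule.span Rp
      (Set.range (fun i => LocalizedModule.mkLinearMap p.primeCompl Ωh
        (AdicCompletion.of (maximalIdeal A) (Ω[A⁄k])
          (KaehlerDifferential.D k A ((u i : A) * x i))))) = ⊤ := by
  classical
  obtain ⟨s, hs⟩ := hgen
  haveI : Module.Finite Rp Lp :=
    ⟨⟨Finset.univ.image s, by rw [Finset.coe_image, Finset.coe_univ, Set.image_univ]; exact hs⟩⟩
  have hres : Function.Surjective (algebraMap Rp κp) := Ideal.Quotient.mk_surjective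
  -- the fibre has dimension `M`
  have hspanκ : ∀ f : Fin M → Lp, Submodule.span Rp (Set.range f) = ⊤ →
      Submodule.span κp (Set.range fun i => (1 : κp) ⊗ₜ[Rp] f i) = ⊤ := by
    intro f hf
    have h1 := (IsLocalRing.map_tensorProduct_mk_eq_top (R := Rp) (M := Lp)
      (N := Submodule.span Rp (Set.range f))).mpr hf
    rw [Submodule.map_span, ← Set.range_comp] at h1
    have h2 := Submodule.span_le_restrictScalars Rp κp
      (Set.range (TensorProduct.mk Rp κp Lp 1 ∘ f))
    rw [h1, top_le_iff, Submodule.restrictScalars_eq_top_iff] at h2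
    exact h2
  have hle : Module.finrank κp (κp ⊗[Rp] Lp) ≤ M := by
    have h1 := finrank_range_le_card (R := κp) (fun i => (1 : κp) ⊗ₜ[Rp] s i)
    unfold Set.finrank at h1
    rw [hspanκ s hs, finrank_top, Fintype.card_fin] at h1
    exact h1
  have hge : M ≤ Module.finrank κp (κp ⊗[Rp] Lp) := by
    let b := Module.finBasis κp (κp ⊗[Rp] Lp)
    have hsurj := TensorProduct.mk_surjective Rp Lp κp hres
    choose l hl using fun i => hsurj (b i)
    have h1 := IsLocalRing.span_eq_top_of_tmul_eq_basis (R := Rp) l b hl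
    have h2 := hmin (Finset.univ.image l)
      (by rw [Finset.coe_image, Finset.coe_univ, Set.image_univ]; exact h1)
    calc M ≤ (Finset.univ.image l).card := h2
      _ ≤ (Finset.univ : Finset (Fin (Module.finrank κp (κp ⊗[Rp] Lp)))).card :=
          Finset.card_image_le
      _ = Module.finrank κp (κp ⊗[Rp] Lp) := by rw [Finset.card_univ, Fintype.card_fin]
  have hM : Module.finrank κp (κp ⊗[Rp] Lp) = M := le_antisymm hle hge
  -- apply the abstract lemma
  have hx' : ∀ i, x i ∈ maximalIdeal A ∧ algebraMap A κp (x i) ≠ 0 := by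
    intro i
    refine ⟨(hx i).1, ?_⟩
    have h1 : IsUnit (algebraMap A Rp (x i)) :=
      IsLocalization.map_units Rp (⟨x i, (hx i).2⟩ : p.primeCompl)
    rw [IsScalarTower.algebraMap_apply A Rp κp]
    exact (h1.map (algebraMap Rp κp)).ne_zero
  obtain ⟨u, hu⟩ := exists_units_linearIndependent (algebraMap A κp) (del k A p)
    (del_mul k A p) (span_del k A p) M hM x hx'
  refine ⟨u, ?_⟩
  have h1 := hu.span_eq_top_of_card_eq_finrank' (by rw [Fintype.card_fin, hM])
  rw [← IsLocalRing.map_tensorProduct_mk_eq_top (R := Rp) (M := Lp), Submodule.map_span,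
    ← Set.range_comp]
  have h2 := Submodule.restrictScalars_span Rp κp hres
    (Set.range (TensorProduct.mk Rp κp Lp 1 ∘ fun i =>
      LocalizedModule.mkLinearMap p.primeCompl Ωh
        (AdicCompletion.of (maximalIdeal A) (Ω[A⁄k])
          (KaehlerDifferential.D k A ((u i : A) * x i)))))
  rw [← h2]
  have h3 : (Set.range (TensorProduct.mk Rp κp Lp 1 ∘ fun i =>
      LocalizedModule.mkLinearMap p.primeCompl Ωh
        (AdicCompletion.of (maximalIdeal A) (Ω[A⁄k])
          (KaehlerDifferential.D k A ((u i : A) * x i))))) =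
      Set.range (fun i => del k A p ((u i : A) * x i)) := rfl
  rw [h3, h1, Submodule.restrictScalars_top]

end main

end Groth.Agent.H5.CD
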