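import Mathlib
import Groth.Agent.Lib.Helper5.Car.CF2
import Groth.Agent.Lib.Helper5.FormalAlg

set_option autoImplicit false
universe u

open TensorProduct IsLocalRing

namespace Groth.Agent.H5.CD

section exact
variable {S : Type u} [CommRing S] [IsLocalRing S] [IsNoetherianRing S]
  {N P Q : Type u} [AddCommGroup N] [Module S N] [AddCommGroup P] [Module S P]
  [AddCommGroup Q] [Module S Q]

/-- completion of a right exact sequence stays exact in the middle when the completion of the middle
term is a finite module (the image of the completed left term is then closed). -/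
theorem range_map_eq_ker_map (u : N →ₗ[S] P) (v : P →ₗ[S] Q) (hex : Function.Exact u v)
    (hv : Function.Surjective v) [Module.Finite S (AdicCompletion (maximalIdeal S) P)] :
    LinearMap.range (AdicCompletion.map (maximalIdeal S) u) =
      LinearMap.ker (AdicCompletion.map (maximalIdeal S) v) := by
  have hfg : (maximalIdeal S).FG := IsNoetherian.noetherian _
  apply le_antisymm
  · rintro _ ⟨n, rfl⟩
    rw [LinearMap.mem_ker, AdicCompletion.map_comp_apply,
      hex.linearMap_comp_eq_zero, AdicCompletion.map_zero]
    rfl
  · intro x hx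
    rw [LinearMap.mem_ker] at hx
    let W : Submodule S (AdicCompletion (maximalIdeal S) P) :=
      LinearMap.range ((AdicCompletion.map (maximalIdeal S) u).restrictScalars S)
    suffices hxW : x ∈ W by
      obtain ⟨n, hn⟩ := hxW
      exact ⟨n, hn⟩
    rw [← Submodule.Quotient.mk_eq_zero W]
    apply IsHausdorff.haus (inferInstance : IsHausdorff (maximalIdeal S)
      (AdicCompletion (maximalIdeal S) P ⧸ W))
    intro n
    rw [SModEq.zero]
    -- a representative of the `n`-th component
    obtain ⟨xn, hxn⟩ := Submodule.Quotient.mk_surjective _ (x.val n)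
    have h1 : (AdicCompletion.map (maximalIdeal S) v x).val n = 0 := by rw [hx]; rfl
    rw [AdicCompletion.map_val_apply, ← hxn] at h1
    have h2 : v xn ∈ (maximalIdeal S ^ n • ⊤ : Submodule S Q) := by
      rw [← Submodule.Quotient.mk_eq_zero]
      exact h1
    have h3 : (maximalIdeal S ^ n • ⊤ : Submodule S Q) =
        (maximalIdeal S ^ n • ⊤ : Submodule S P).map v := by
      rw [Submodule.map_smul'', Submodule.map_top, LinearMap.range_eq_top.mpr hv]
    rw [h3] at h2
    obtain ⟨z, hz, hzv⟩ := h2
    obtain ⟨w, hw⟩ := (hex (xn - z)).mp (by rw [map_sub, hzv, sub_self])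
    -- decompose
    have h4 : x - AdicCompletion.of (maximalIdeal S) P (xn - z) ∈
        (maximalIdeal S ^ n • ⊤ : Submodule S (AdicCompletion (maximalIdeal S) P)) := by
      rw [AdicCompletion.pow_smul_top_eq_ker_eval hfg, LinearMap.mem_ker, map_sub,
        AdicCompletion.eval_apply, AdicCompletion.eval_of, ← hxn, Submodule.mkQ_apply,
        ← Submodule.Quotient.mk_sub, sub_sub_cancel, Submodule.Quotient.mk_eq_zero]
      exact hz
    have h5 : AdicCompletion.of (maximalIdeal S) P (xn - z) ∈ W := by
      refine ⟨AdicCompletion.of (maximalIdeal S) N w, ?_⟩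
      rw [LinearMap.restrictScalars_apply, AdicCompletion.map_of, hw]
    have h6 : (Submodule.Quotient.mk x : AdicCompletion (maximalIdeal S) P ⧸ W) =
        W.mkQ (x - AdicCompletion.of (maximalIdeal S) P (xn - z)) := by
      rw [Submodule.mkQ_apply, Submodule.Quotient.mk_sub,
        (Submodule.Quotient.mk_eq_zero W).mpr h5, sub_zero]
    rw [h6]
    have h7 : (maximalIdeal S ^ n • ⊤ : Submodule S (AdicCompletion (maximalIdeal S) P)).map W.mkQ ≤
        (maximalIdeal S ^ n • ⊤ : Submodule S (AdicCompletion (maximalIdeal S) P ⧸ W)) := by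
      rw [Submodule.map_smul'']
      exact Submodule.smul_mono le_rfl le_top
    exact h7 ⟨_, h4, rfl⟩

end exact

section main
variable (k R S : Type u) [Field k] [CommRing R] [IsNoetherianRing R]
    [IsLocalRing R] [Algebra k R] [IsAdicComplete (maximalIdeal R) R]
    [CommRing S] [IsNoetherianRing S] [IsLocalRing S] [Algebra k S]
    [IsAdicComplete (maximalIdeal S) S] [Algebra R S] [IsScalarTower k R S]
    [Module.Finite R S] [Module.Finite (ResidueField S) (Ω[ResidueField S⁄k])]

theorem main5991 :
    IsAdicComplete (maximalIdeal S) (Ω[S⁄R]) ∧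
      Function.Surjective (AdicCompletion.map (maximalIdeal S) (KaehlerDifferential.map k R S S)) ∧
      LinearMap.range (AdicCompletion.map (maximalIdeal S)
        (KaehlerDifferential.mapBaseChange k R S)) =
        LinearMap.ker (AdicCompletion.map (maximalIdeal S) (KaehlerDifferential.map k R S S)) := by
  refine ⟨?_, ?_, ?_⟩
  · haveI : Module.Finite S (Ω[S⁄R]) := inferInstance
    exact FormalAlg.isAdicComplete_of_finite (maximalIdeal S) (Ω[S⁄R])
  · exact AdicCompletion.map_surjective _ (KaehlerDifferential.map_surjective k R S)
  · haveI : Module.Finite (S ⧸ maximalIdeal S) (Ω[S ⧸ maximalIdeal S⁄k]) :=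
      ‹Module.Finite (ResidueField S) (Ω[ResidueField S⁄k])›
    haveI : Module.Finite S (maximalIdeal S).Cotangent :=
      Module.Finite.of_surjective (maximalIdeal S).toCotangent
        (maximalIdeal S).toCotangent_surjective
    haveI : Module.Finite (S ⧸ maximalIdeal S) (maximalIdeal S).Cotangent :=
      Module.Finite.of_restrictScalars_finite S (S ⧸ maximalIdeal S) _
    haveI := CF.finite_completedKaehler k (maximalIdeal S)
    exact range_map_eq_ker_map _ _ (KaehlerDifferential.exact_mapBaseChange_map k R S)
      (KaehlerDifferential.map_surjective k R S)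

end main

end Groth.Agent.H5.CD
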