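import Mathlib

/-!
# Local splitting of a finitely presented algebra at a rational point (helper5)
-/

set_option autoImplicit false

namespace Groth.Agent.H5.CD

universe u

open MvPolynomial in
theorem exists_local_splitting_ring {A B K : Type u} [CommRing A] [CommRing B] [Field K]
    [Algebra A B] [Algebra.FinitePresentation A B] (ψ : A →+* K) (χ : B →+* K)
    (hχ : χ.comp (algebraMap A B) = ψ)
    (hK : ∀ k : K, ∃ a s : A, ψ s ≠ 0 ∧ k * ψ s = ψ a) :
    ∃ (sA : A) (J : Ideal A), ψ sA ≠ 0 ∧ J.FG ∧ J ≤ RingHom.ker ψ ∧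
      ∃ τ : B →+* (Localization.Away sA ⧸ J.map (algebraMap A (Localization.Away sA))),
        τ.comp (algebraMap A B) =
          (Ideal.Quotient.mk _).comp (algebraMap A (Localization.Away sA)) := by
  classical
  obtain ⟨n, f, hf, hker⟩ := Algebra.FinitePresentation.out (R := A) (A := B)
  choose a s hs has using fun l : Fin n => hK (χ (f (X l)))
  let sA : A := ∏ l, s l
  have hsA : ψ sA ≠ 0 := by
    rw [map_prod]
    exact Finset.prod_ne_zero_iff.mpr (fun l _ => hs l)
  let a' : Fin n → A := fun l => a l * ∏ m ∈ Finset.univ.erase l, s m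
  have ha' : ∀ l, χ (f (X l)) * ψ sA = ψ (a' l) := by
    intro l
    have h1 : sA = s l * ∏ m ∈ Finset.univ.erase l, s m :=
      (Finset.mul_prod_erase _ _ (Finset.mem_univ l)).symm
    rw [h1, map_mul, ← mul_assoc, has l, map_mul]
  let As := Localization.Away sA
  let sM : Submonoid.powers sA := ⟨sA, Submonoid.mem_powers sA⟩
  let τ₀ : MvPolynomial (Fin n) A →ₐ[A] As :=
    MvPolynomial.aeval (fun l => IsLocalization.mk' As (a' l) sM)
  let β₀ : As →+* K := IsLocalization.Away.lift sA (g := ψ) (isUnit_iff_ne_zero.mpr hsA)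
  have hβ₀ : ∀ x : A, β₀ (algebraMap A As x) = ψ x := fun x => IsLocalization.Away.lift_eq _ _ _
  have hβmk : ∀ (c : A) (m : Submonoid.powers sA),
      β₀ (IsLocalization.mk' As c m) * ψ m = ψ c := by
    intro c m
    rw [← hβ₀ (m : A), ← map_mul, IsLocalization.mk'_spec, hβ₀]
  have hψpow : ∀ m : Submonoid.powers sA, ψ m ≠ 0 := by
    rintro ⟨_, k, rfl⟩
    simp only [map_pow]
    exact pow_ne_zero _ hsA
  have hagree : (β₀.comp τ₀.toRingHom) = χ.comp f.toRingHom := by
    apply MvPolynomial.ringHom_ext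
    · intro c
      simp only [RingHom.comp_apply, AlgHom.toRingHom_eq_coe, RingHom.coe_coe]
      rw [← MvPolynomial.algebraMap_eq, AlgHom.commutes, AlgHom.commutes, hβ₀, ← hχ]
      rfl
    · intro l
      simp only [RingHom.comp_apply, AlgHom.toRingHom_eq_coe, RingHom.coe_coe]
      have h1 : τ₀ (X l) = IsLocalization.mk' As (a' l) sM := MvPolynomial.aeval_X _ l
      rw [h1]
      have h2 := hβmk (a' l) sM
      have h3 := ha' l
      have h4 : ψ (sM : A) = ψ sA := rfl
      rw [h4] at h2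
      exact mul_right_cancel₀ hsA (h2.trans h3.symm)
  have hagree' : ∀ p, β₀ (τ₀ p) = χ (f p) := fun p => RingHom.congr_fun hagree p
  obtain ⟨T, hT⟩ := hker
  have key : ∀ g : (T : Set (MvPolynomial (Fin n) A)), ∃ (c : A) (m : Submonoid.powers sA),
      IsLocalization.mk' As c m = τ₀ g.1 ∧ ψ c = 0 := by
    intro g
    obtain ⟨c, m, hcm⟩ := IsLocalization.exists_mk'_eq (Submonoid.powers sA) (τ₀ g.1)
    refine ⟨c, m, hcm, ?_⟩
    have hg : f g.1 = 0 := by
      have : g.1 ∈ RingHom.ker f.toRingHom := by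
        rw [← hT]
        exact Ideal.subset_span g.2
      exact this
    have h1 := hβmk c m
    rw [hcm, hagree', hg, map_zero, zero_mul] at h1
    exact h1.symm
  choose c m hcm hc using key
  let J : Ideal A := Ideal.span (Set.range c)
  have hJfg : J.FG := Submodule.fg_span (Set.finite_range c)
  have hJle : J ≤ RingHom.ker ψ := by
    rw [Ideal.span_le]
    rintro _ ⟨g, rfl⟩
    exact hc g
  let q : As →+* As ⧸ J.map (algebraMap A As) := Ideal.Quotient.mk _
  have hle : RingHom.ker f.toRingHom ≤ RingHom.ker (q.comp τ₀.toRingHom) := by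
    rw [← hT, Ideal.span_le]
    intro g hg
    show q (τ₀ g) = 0
    rw [Ideal.Quotient.eq_zero_iff_mem, ← hcm ⟨g, hg⟩]
    have h1 : IsLocalization.mk' As (c ⟨g, hg⟩) (m ⟨g, hg⟩) =
        algebraMap A As (c ⟨g, hg⟩) * IsLocalization.mk' As 1 (m ⟨g, hg⟩) := by
      rw [IsLocalization.mul_mk'_eq_mk'_of_mul, mul_one]
    rw [h1]
    exact Ideal.mul_mem_right _ _ (Ideal.mem_map_of_mem _ (Ideal.subset_span ⟨_, rfl⟩))
  refine ⟨sA, J, hsA, hJfg, hJle, f.toRingHom.liftOfSurjective hf ⟨q.comp τ₀.toRingHom, hle⟩, ?_⟩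
  ext x
  simp only [RingHom.comp_apply]
  have h1 : algebraMap A B x = f.toRingHom (algebraMap A (MvPolynomial (Fin n) A) x) :=
    (f.commutes x).symm
  rw [h1, RingHom.liftOfSurjective_comp_apply]
  show q (τ₀ (algebraMap A _ x)) = _
  rw [AlgHom.commutes]

end Groth.Agent.H5.CD
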