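import Mathlib

/-!
# Completely decomposed morphisms: the section formulation (helper5)
-/

set_option autoImplicit false

namespace Groth.Agent.H5.CD

open AlgebraicGeometry CategoryTheory Opposite Limits

universe u

/-- `f` has a rational point over `y`: a section over `Spec κ(y)`. -/
def HasSectionAt {X Y : Scheme.{u}} (f : X ⟶ Y) (y : Y) : Prop :=
  ∃ s : Spec (Y.residueField y) ⟶ X, s ≫ f = Y.fromSpecResidueField y

theorem hasSectionAt_of_bijective {X Y : Scheme.{u}} (f : X ⟶ Y) (x : X)
    (hb : Function.Bijective (f.residueFieldMap x)) : HasSectionAt f (f x) := by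
  haveI : IsIso (f.residueFieldMap x) := (ConcreteCategory.isIso_iff_bijective _).mpr hb
  refine ⟨Spec.map (inv (f.residueFieldMap x)) ≫ X.fromSpecResidueField x, ?_⟩
  rw [Category.assoc, ← Scheme.Hom.SpecMap_residueFieldMap_fromSpecResidueField, ← Category.assoc,
    ← Spec.map_comp, IsIso.hom_inv_id, Spec.map_id, Category.id_comp]

theorem exists_bijective_of_hasSectionAt {X Y : Scheme.{u}} (f : X ⟶ Y) (y : Y)
    (h : HasSectionAt f y) : ∃ x : X, f x = y ∧ Function.Bijective (f.residueFieldMap x) := by
  obtain ⟨s, hs⟩ := h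
  obtain ⟨x, ρ, hρ⟩ : ∃ (x : X) (ρ : X.residueField x ⟶ Y.residueField y),
      Spec.map ρ ≫ X.fromSpecResidueField x = s :=
    ⟨_, _, Scheme.descResidueField_stalkClosedPointTo_fromSpecResidueField
      (Y.residueField y) X s⟩
  have hx : f x = y := by
    let pt : Spec (Y.residueField y) := IsLocalRing.closedPoint (Y.residueField y)
    have h1 := congrArg (fun m => m.base pt) hs
    rw [← hρ] at h1
    simp only [Scheme.Hom.comp_base, TopCat.comp_app] at h1
    rw [Scheme.fromSpecResidueField_apply, Scheme.fromSpecResidueField_apply] at h1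
    exact h1
  refine ⟨x, hx, ?_⟩
  have h2 : Spec.map (f.residueFieldMap x ≫ ρ) ≫ Y.fromSpecResidueField (f x) =
      Spec.map (Y.residueFieldCongr hx).hom ≫ Y.fromSpecResidueField (f x) := by
    rw [Spec.map_comp, Category.assoc, Scheme.Hom.SpecMap_residueFieldMap_fromSpecResidueField,
      ← Category.assoc, hρ, hs, Scheme.residueFieldCongr_fromSpecResidueField]
  have h3 : f.residueFieldMap x ≫ ρ = (Y.residueFieldCongr hx).hom := by
    apply Spec.map_injective
    exact (cancel_mono (Y.fromSpecResidueField (f x))).mp h2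
  have hρinj : Function.Injective ρ := ρ.hom.injective
  have hcomp : Function.Bijective (ρ ∘ f.residueFieldMap x) := by
    have : (ρ ∘ f.residueFieldMap x) = (Y.residueFieldCongr hx).hom := by
      funext t
      exact congrArg (fun m => m t) h3
    rw [this]
    exact ConcreteCategory.bijective_of_isIso _
  have hρsurj : Function.Surjective ρ := Function.Surjective.of_comp hcomp.2
  have hρbij : Function.Bijective ρ := ⟨hρinj, hρsurj⟩
  exact (Function.Bijective.of_comp_iff' hρbij _).mp hcomp

theorem hasSectionAt_iff {X Y : Scheme.{u}} (f : X ⟶ Y) (y : Y) :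
    HasSectionAt f y ↔ ∃ x : X, f x = y ∧ Function.Bijective (f.residueFieldMap x) := by
  refine ⟨exists_bijective_of_hasSectionAt f y, ?_⟩
  rintro ⟨x, rfl, hb⟩
  exact hasSectionAt_of_bijective f x hb

/-- base change -/
theorem hasSectionAt_of_isPullback {X Y X' Y' : Scheme.{u}} {f : X ⟶ Y} {h : Y' ⟶ Y}
    {p : X' ⟶ X} {f' : X' ⟶ Y'} (sq : IsPullback p f' f h) (y' : Y')
    (hy : HasSectionAt f (h y')) : HasSectionAt f' y' := by
  obtain ⟨s, hs⟩ := hy
  let t : Spec (Y'.residueField y') ⟶ Spec (Y.residueField (h y')) :=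
    Spec.map (h.residueFieldMap y')
  have hw : (t ≫ s) ≫ f = Y'.fromSpecResidueField y' ≫ h := by
    rw [Category.assoc, hs]
    exact Scheme.Hom.SpecMap_residueFieldMap_fromSpecResidueField h y'
  exact ⟨sq.lift (t ≫ s) (Y'.fromSpecResidueField y') hw, sq.lift_snd _ _ _⟩

/-- a section over a preimmersion gives rational points over its range -/
theorem hasSectionAt_of_isPreimmersion {X Y Z : Scheme.{u}} (f : X ⟶ Y) (g : Z ⟶ Y)
    [IsPreimmersion g] (σ : Z ⟶ X) (hσ : σ ≫ f = g) (z : Z) : HasSectionAt f (g z) := by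
  have hsurj : Function.Surjective (g.residueFieldMap z) := by
    have h1 : Function.Surjective ((Y.residue (g z) ≫ g.residueFieldMap z : _ ⟶ _)) := by
      rw [Scheme.residue_residueFieldMap]
      have := g.stalkMap_surjective z
      have h2 : Function.Surjective (Z.residue z) := Ideal.Quotient.mk_surjective
      simpa using h2.comp this
    exact Function.Surjective.of_comp (g := Y.residue (g z)) (by simpa using h1)
  have hb : Function.Bijective (g.residueFieldMap z) := ⟨(g.residueFieldMap z).hom.injective, hsurj⟩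
  obtain ⟨s, hs⟩ := hasSectionAt_of_bijective g z hb
  exact ⟨s ≫ σ, by rw [Category.assoc, hσ, hs]⟩

/-- completely decomposed morphisms -/
def cdProp : MorphismProperty Scheme.{u} := fun _ Y f => ∀ y : Y, HasSectionAt f y

theorem cd_iff {X Y : Scheme.{u}} (f : X ⟶ Y) :
    cdProp f ↔ ∀ y : Y, ∃ x : X, f x = y ∧ Function.Bijective (f.residueFieldMap x) :=
  forall_congr' fun y => hasSectionAt_iff f y

instance : cdProp.{u}.IsStableUnderBaseChange where
  of_isPullback {X Y Y' S f g f' g'} sq hg := by
    intro y'
    exact hasSectionAt_of_isPullback sq y' (hg _)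

end Groth.Agent.H5.CD
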