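import Mathlib
import Groth.Agent.Lib.Helper5.CD.CdA
import Groth.Agent.Lib.Helper5.CD.CdB

/-!
# Local splitting of a morphism locally of finite presentation at a rational point (helper5)
-/

set_option autoImplicit false

namespace Groth.Agent.H5.CD

open AlgebraicGeometry CategoryTheory Opposite Limits

universe u

theorem exists_local_splitting {X Y : Scheme.{u}} (f : X ⟶ Y) [LocallyOfFinitePresentation f]
    (y : Y) (h : HasSectionAt f y) :
    ∃ (Z : Scheme.{u}) (g : Z ⟶ Y) (σ : Z ⟶ X), IsAffine Z ∧ IsImmersion g ∧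
      LocallyOfFinitePresentation g ∧ σ ≫ f = g ∧ y ∈ Set.range g := by
  obtain ⟨s, hs⟩ := h
  let K : CommRingCat.{u} := Y.residueField y
  let pt : Spec K := IsLocalRing.closedPoint K
  let x : X := s pt
  have hx : f x = y := by
    have h1 := congrArg (fun m => m.base pt) hs
    simp only [Scheme.Hom.comp_base, TopCat.comp_app] at h1
    rw [Scheme.fromSpecResidueField_apply] at h1
    exact h1
  -- affine opens
  obtain ⟨_, ⟨V, hV, rfl⟩, hyV, -⟩ := (Y.isBasis_affineOpens).exists_subset_of_mem_open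
    (Set.mem_univ y) isOpen_univ
  have hxV : x ∈ f ⁻¹ᵁ V := by
    show f x ∈ V
    rw [hx]
    exact hyV
  obtain ⟨_, ⟨U, hU, rfl⟩, hxU, hUV⟩ := (X.isBasis_affineOpens).exists_subset_of_mem_open
    hxV (f ⁻¹ᵁ V).isOpen
  have hUV' : U ≤ f ⁻¹ᵁ V := hUV
  let A : CommRingCat.{u} := Γ(Y, V)
  let B : CommRingCat.{u} := Γ(X, U)
  let φ : A ⟶ B := f.appLE V U hUV'
  have hφ : φ.hom.FinitePresentation := f.finitePresentation_appLE hV hU hUV'
  have hφf : Spec.map φ ≫ hV.fromSpec = hU.fromSpec ≫ f :=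
    IsAffineOpen.SpecMap_appLE_fromSpec f hV hU hUV'
  let ψ : A ⟶ K := Y.presheaf.germ V y hyV ≫ Y.residue y
  have hψ : Spec.map ψ ≫ hV.fromSpec = Y.fromSpecResidueField y := by
    show Spec.map (Y.presheaf.germ V y hyV ≫ Y.residue y) ≫ hV.fromSpec = _
    rw [Spec.map_comp, Category.assoc]
    show Spec.map (Y.residue y) ≫ hV.fromSpecStalk hyV = _
    rw [hV.fromSpecStalk_eq_fromSpecStalk hyV]
    rfl
  -- `s` factors through `U`
  have hrange : Set.range s ⊆ Set.range hU.fromSpec := by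
    rw [hU.range_fromSpec]
    rintro _ ⟨t, rfl⟩
    have h1 : s ⁻¹ᵁ U = ⊤ := Scheme.preimage_eq_top_of_closedPoint_mem s hxU
    have h2 : t ∈ s ⁻¹ᵁ U := by rw [h1]; trivial
    exact h2
  let s₁ : Spec K ⟶ Spec B := IsOpenImmersion.lift hU.fromSpec s hrange
  have hs₁ : s₁ ≫ hU.fromSpec = s := IsOpenImmersion.lift_fac _ _ _
  let χ : B ⟶ K := Spec.preimage s₁
  have hχ : Spec.map χ = s₁ := Spec.map_preimage _
  have hcomp : φ ≫ χ = ψ := by
    apply Spec.map_injective
    rw [← cancel_mono hV.fromSpec, Spec.map_comp, Category.assoc, hφf, ← Category.assoc, hχ,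
      hs₁, hs, hψ]
  -- the fraction property
  have hKfrac : ∀ k : K, ∃ a s : A, ψ.hom s ≠ 0 ∧ k * ψ.hom s = ψ.hom a := by
    intro k
    letI : Algebra A (Y.presheaf.stalk y) :=
      TopCat.Presheaf.algebra_section_stalk Y.presheaf (⟨y, hyV⟩ : V)
    haveI : IsLocalization.AtPrime (Y.presheaf.stalk y) (hV.primeIdealOf ⟨y, hyV⟩).asIdeal :=
      hV.isLocalization_stalk ⟨y, hyV⟩
    obtain ⟨t, rfl⟩ : ∃ t, (Y.residue y).hom t = k := Ideal.Quotient.mk_surjective k
    obtain ⟨⟨a, m⟩, ham⟩ := IsLocalization.surj (hV.primeIdealOf ⟨y, hyV⟩).asIdeal.primeCompl t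
    refine ⟨a, m.1, ?_, ?_⟩
    · have hu : IsUnit (algebraMap A (Y.presheaf.stalk y) m.1) :=
        IsLocalization.map_units (Y.presheaf.stalk y) m
      have hu2 : IsUnit ((Y.residue y).hom (algebraMap A (Y.presheaf.stalk y) m.1)) :=
        hu.map (Y.residue y).hom
      exact hu2.ne_zero
    · have h1 := congrArg (Y.residue y).hom ham
      rw [map_mul] at h1
      exact h1
  -- apply the ring lemma
  letI : Algebra A B := φ.hom.toAlgebra
  haveI : Algebra.FinitePresentation A B := hφ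
  have hχ' : χ.hom.comp (algebraMap A B) = ψ.hom := by
    have := congrArg CommRingCat.Hom.hom hcomp
    exact this
  obtain ⟨sA, J, hsA, hJfg, hJle, τ, hτ⟩ :=
    exists_local_splitting_ring (A := A) (B := B) (K := K) ψ.hom χ.hom hχ' hKfrac
  let As := Localization.Away sA
  let I' : Ideal As := J.map (algebraMap A As)
  let R' : CommRingCat.{u} := CommRingCat.of (As ⧸ I')
  let α₁ : A ⟶ CommRingCat.of As := CommRingCat.ofHom (algebraMap A As)
  let α₂ : CommRingCat.of As ⟶ R' := CommRingCat.ofHom (Ideal.Quotient.mk I')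
  let α : A ⟶ R' := α₁ ≫ α₂
  let τ' : B ⟶ R' := CommRingCat.ofHom τ
  have hτ' : φ ≫ τ' = α := by
    ext a
    exact RingHom.congr_fun hτ a
  haveI : IsOpenImmersion (Spec.map α₁) := inferInstance
  haveI : IsClosedImmersion (Spec.map α₂) :=
    IsClosedImmersion.spec_of_surjective α₂ Ideal.Quotient.mk_surjective
  haveI : LocallyOfFinitePresentation (Spec.map α₂) := by
    rw [HasRingHomProperty.Spec_iff (P := @LocallyOfFinitePresentation)]
    apply RingHom.FinitePresentation.of_surjective _ Ideal.Quotient.mk_surjective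
    show (RingHom.ker (Ideal.Quotient.mk I')).FG
    rw [Ideal.mk_ker]
    exact hJfg.map _
  let g : Spec R' ⟶ Y := Spec.map α ≫ hV.fromSpec
  have hg : g = Spec.map α₂ ≫ Spec.map α₁ ≫ hV.fromSpec := by
    show Spec.map (α₁ ≫ α₂) ≫ hV.fromSpec = _
    rw [Spec.map_comp, Category.assoc]
  refine ⟨Spec R', g, Spec.map τ' ≫ hU.fromSpec, inferInstance, ?_, ?_, ?_, ?_⟩
  · rw [hg]
    infer_instance
  · rw [hg]
    infer_instance
  · rw [Category.assoc, ← hφf, ← Category.assoc, ← Spec.map_comp, hτ']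
  · -- the point
    have hunit : IsUnit (ψ.hom sA) := isUnit_iff_ne_zero.mpr hsA
    let β₀ : As →+* K := IsLocalization.Away.lift sA (g := ψ.hom) hunit
    have hβ₀ : ∀ a : A, β₀ (algebraMap A As a) = ψ.hom a :=
      fun a => IsLocalization.Away.lift_eq _ _ _
    have hle : ∀ a ∈ I', β₀ a = 0 := by
      intro a ha
      have : I' ≤ RingHom.ker β₀ := by
        rw [Ideal.map_le_iff_le_comap]
        intro b hb
        show β₀ (algebraMap A As b) = 0
        rw [hβ₀]
        exact hJle hb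
      exact this ha
    let β : R' ⟶ K := CommRingCat.ofHom (Ideal.Quotient.lift I' β₀ hle)
    have hβ : α ≫ β = ψ := by
      ext a
      show Ideal.Quotient.lift I' β₀ hle (Ideal.Quotient.mk I' (algebraMap A As a)) = ψ.hom a
      rw [Ideal.Quotient.lift_mk, hβ₀]
    have h1 : Spec.map β ≫ g = Y.fromSpecResidueField y := by
      show Spec.map β ≫ Spec.map α ≫ hV.fromSpec = _
      rw [← Category.assoc, ← Spec.map_comp, hβ, hψ]
    refine ⟨Spec.map β pt, ?_⟩
    have h2 := congrArg (fun m => m.base pt) h1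
    simp only [Scheme.Hom.comp_base, TopCat.comp_app] at h2
    rw [Scheme.fromSpecResidueField_apply] at h2
    exact h2

end Groth.Agent.H5.CD
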