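import Mathlib
import Groth.Agent.Lib.Helper5.CD.CdC
import Groth.Agent.Lib.Helper5.Lim.BaseChangeOver
import Groth.Agent.Lib.Helper5.Lim.Model11
import Groth.Agent.Lib.Helper5.Lim.DescendImmersion
import Groth.Agent.Lib.Helper5.Lim.ProConsLimit
import Groth.Agent.Lib.Helper2.ProConsLib

/-!
# Completely decomposed morphisms descend along limits (helper5)
-/

set_option autoImplicit false

namespace Groth.Agent.H5.CD

open AlgebraicGeometry CategoryTheory Opposite Limits Groth.Agent.H5.Lim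
open Groth.Agent.H2.ProConsLib Groth.Agent.H2.ConsTop
open scoped Set.Notation

universe u

lemma isIndConstructible_sUnion {X : Scheme.{u}} {ℬ : Set (Set X)}
    (h : ∀ s ∈ ℬ, ProCons.IsIndConstructible s) : ProCons.IsIndConstructible (⋃₀ ℬ) := by
  apply isIndConstructible_of_co
  intro x
  obtain ⟨V, hV, hxV, -⟩ := exists_affine_nhd x isOpen_univ (Set.mem_univ _)
  obtain ⟨i1, i2, i3, i4⟩ := spectral_of_isAffineOpen hV
  refine ⟨V, hV, hxV, ?_⟩
  have : (V : Set X) ↓∩ ⋃₀ ℬ = ⋃₀ ((fun s => (V : Set X) ↓∩ s) '' ℬ) := by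
    ext v
    simp only [Set.mem_preimage, Set.mem_sUnion, Set.mem_image, exists_exists_and_eq_and]
  rw [this]
  apply CO.sUnion
  rintro _ ⟨s, hs, rfl⟩
  exact co_of_isIndConstructible V.isOpen (h s hs)

/-- the locus of rational points is ind-constructible -/
theorem isIndConstructible_hasSectionAt {X Y : Scheme.{u}} (f : X ⟶ Y)
    [LocallyOfFinitePresentation f] : ProCons.IsIndConstructible {y : Y | HasSectionAt f y} := by
  have key : {y : Y | HasSectionAt f y} =
      ⋃₀ {s : Set Y | ProCons.IsIndConstructible s ∧ s ⊆ {y : Y | HasSectionAt f y}} := by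
    ext y
    constructor
    · intro hy
      obtain ⟨Z, g, σ, hZ, hg, hgfp, hσ, hyg⟩ := exists_local_splitting f y hy
      refine ⟨Set.range g, ⟨?_, ?_⟩, hyg⟩
      · rw [← Set.image_univ]
        exact isIndConstructible_image g (isIndConstructible_of_isOpen isOpen_univ)
      · rintro _ ⟨z, rfl⟩
        exact hasSectionAt_of_isPreimmersion f g σ hσ z
    · rintro ⟨s, ⟨-, hs⟩, hys⟩
      exact hs hys
  rw [key]
  exact isIndConstructible_sUnion (fun s hs => hs.1)

section Limit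

variable {I : Type u} [SmallCategory I] [IsCofiltered I] (D : I ⥤ Scheme.{u}) {S : Scheme.{u}}
  (t : D ⟶ (Functor.const I).obj S) (c : Cone D) (hc : IsLimit c) (p : c.pt ⟶ S)
  (hp : ∀ k, c.π.app k ≫ t.app k = p)

include hc hp in
/-- pointwise descent of rational points -/
theorem exists_hasSectionAt_stage [∀ (i j : I) (f : i ⟶ j), IsAffineHom (D.map f)]
    [∀ i, CompactSpace (D.obj i)] [∀ i, QuasiSeparatedSpace (D.obj i)]
    {Z₀ : Scheme.{u}} (h₀ : Z₀ ⟶ S) [LocallyOfFinitePresentation h₀] (y : c.pt)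
    (hy : HasSectionAt (pullback.snd h₀ p) y) :
    ∃ k : I, HasSectionAt (pullback.snd h₀ (t.app k)) (c.π.app k y) := by
  have hDaff : ∀ {i j : I} (f : i ⟶ j), IsAffineHom (D.map f) := fun f => inferInstance
  obtain ⟨Z, g, σ, hZ, hg, hgfp, hσ, ⟨z₀, hz₀⟩⟩ := exists_local_splitting (pullback.snd h₀ p) y hy
  haveI : QuasiSeparatedSpace c.pt := quasiSeparatedSpace_of_isLimit D c hc
  haveI : QuasiCompact g := inferInstance
  haveI : QuasiSeparated g := inferInstance
  obtain ⟨j, ⟨M⟩⟩ := exists_model D c hc g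
  -- descent of the section
  haveI : ∀ κ, CompactSpace ((bcDiagram D M.p).obj κ) := fun κ => (M.bc κ.hom).compactSpace_Y
  haveI : ∀ κ, QuasiSeparatedSpace ((bcDiagram D M.p).obj κ) := fun κ =>
    (M.bc κ.hom).quasiSeparatedSpace_Y
  haveI : ∀ {a b : Over j} (φ : a ⟶ b), IsAffineHom ((bcDiagram D M.p).map φ) :=
    fun φ => isAffineHom_bcMap D M.p φ (hDaff _)
  let tt : bcDiagram D M.p ⟶ (Functor.const (Over j)).obj S :=
    { app := fun κ => pullback.snd M.p (D.map κ.hom) ≫ t.app κ.left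
      naturality := by
        intro a b φ
        change bcMap D M.p φ ≫ pullback.snd M.p (D.map b.hom) ≫ t.app b.left =
          (pullback.snd M.p (D.map a.hom) ≫ t.app a.left) ≫ 𝟙 S
        refine Eq.trans ?_ (Category.comp_id _).symm
        rw [← Category.assoc, bcMap_snd, Category.assoc, t_naturality] }
  let a : Z ⟶ Z₀ := σ ≫ pullback.fst h₀ p
  obtain ⟨κ, (g₀ : (M.bc κ.hom).Y ⟶ Z₀), hg₁, hg₂⟩ :=
    Scheme.exists_π_app_comp_eq_of_locallyOfFinitePresentation
      (bcDiagram D M.p) tt h₀ M.cone (M.isLimitCone hc) a (by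
        ext κ
        change M.bcG κ.hom ≫ pullback.snd M.p (D.map κ.hom) ≫ t.app κ.left =
          (σ ≫ pullback.fst h₀ p) ≫ h₀
        rw [Model.bcG_snd_assoc, hp, Category.assoc, pullback.condition, ← Category.assoc, hσ])
  have hg₂' : g₀ ≫ h₀ = (M.bc κ.hom).p ≫ t.app κ.left := hg₂
  -- descent of the immersion
  let M₁ : Model D c g κ.left := M.bc κ.hom
  have himm : IsImmersion (pullback.snd M₁.p (c.π.app κ.left)) := by
    have hiso : M₁.pb.isoPullback.hom ≫ pullback.snd M₁.p (c.π.app κ.left) = g :=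
      M₁.pb.isoPullback_hom_snd
    rw [← MorphismProperty.cancel_left_of_respectsIso @IsImmersion M₁.pb.isoPullback.hom, hiso]
    exact hg
  obtain ⟨k, φ', hk⟩ := exists_bc_of_affineSystemDescent D c hc affineSystemDescent_isImmersion
    κ.left M₁.p ⟨inferInstance, inferInstance, inferInstance⟩ himm
  let M₂ : Model D c g k := M₁.bc φ'
  haveI : IsImmersion M₂.p := hk
  have hw : (M₁.bcFst φ' ≫ g₀) ≫ h₀ = M₂.p ≫ t.app k := by
    rw [Category.assoc, hg₂']
    change M₁.bcFst φ' ≫ M₁.p ≫ t.app κ.left = _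
    rw [← Category.assoc, Model.bcFst_p, Category.assoc, t_naturality]
  let τ : M₂.Y ⟶ pullback h₀ (t.app k) := pullback.lift (M₁.bcFst φ' ≫ g₀) M₂.p hw
  have hτ : τ ≫ pullback.snd h₀ (t.app k) = M₂.p := pullback.lift_snd _ _ _
  have hpt : c.π.app k y = M₂.p (M₂.g z₀) := by
    rw [← hz₀, ← Scheme.Hom.comp_apply, ← Scheme.Hom.comp_apply, Model.bc_g_p]
  refine ⟨k, ?_⟩
  rw [hpt]
  exact hasSectionAt_of_isPreimmersion (pullback.snd h₀ (t.app k)) M₂.p τ hτ (M₂.g z₀)

include hc hp in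
/-- **Completely decomposed morphisms descend to a stage.** -/
theorem exists_cd_stage [∀ (i j : I) (f : i ⟶ j), IsAffineHom (D.map f)]
    [∀ i, CompactSpace (D.obj i)] [∀ i, QuasiSeparatedSpace (D.obj i)]
    {Z₀ : Scheme.{u}} (h₀ : Z₀ ⟶ S) [LocallyOfFinitePresentation h₀]
    (hcd : cdProp (pullback.snd h₀ p)) : ∃ k : I, cdProp (pullback.snd h₀ (t.app k)) := by
  obtain ⟨i₀⟩ := IsCofiltered.nonempty (C := I)
  have key := (sInter_subset_sUnion_iff_eventually D c hc i₀ (fun _ => Set.univ)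
    (fun k => {y : D.obj k | HasSectionAt (pullback.snd h₀ (t.app k)) y})
    (fun _ => isProConstructible_univ)
    (fun k => isIndConstructible_hasSectionAt (pullback.snd h₀ (t.app k)))
    (fun _ _ _ _ _ => Set.mem_univ _)
    (by
      intro i j φ y hy
      exact hasSectionAt_of_isPullback (isPullback_tbcMap D t h₀ φ) y hy)).mp (by
      intro y _
      obtain ⟨k, hk⟩ := exists_hasSectionAt_stage D t c hc p hp h₀ y (hcd y)
      exact Set.mem_iUnion.mpr ⟨k, hk⟩)
  obtain ⟨k, -, hk⟩ := key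
  exact ⟨k, fun y => hk k (𝟙 k) (Set.mem_univ y)⟩

end Limit

end Groth.Agent.H5.CD
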