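import Mathlib
import Groth.Agent.Lib.Helper5.CD.CdD
import Groth.Agent.Lib.Helper5.Lim.Descend

/-!
# Completely decomposed morphisms descend along limits: statement form (helper5)
-/

set_option autoImplicit false

namespace Groth.Agent.H5.CD

open AlgebraicGeometry CategoryTheory Opposite Limits Groth.Agent.H5.Lim

universe u

theorem exists_cd_descend {I : Type u} [SmallCategory I] [IsCofiltered I]
    (D : I ⥤ Scheme.{u}) (c : Limits.Cone D) (hc : Limits.IsLimit c)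
    [∀ (i j : I) (a : i ⟶ j), IsAffineHom (D.map a)]
    (i0 : I) {X0 Y0 X Y : Scheme.{u}} (f0 : X0 ⟶ Y0) (q0 : Y0 ⟶ D.obj i0) [CompactSpace ↥Y0]
    [QuasiSeparatedSpace ↥Y0] [LocallyOfFinitePresentation f0]
    (f : X ⟶ Y) (q : Y ⟶ c.pt) (pY : Y ⟶ Y0) (pX : X ⟶ X0)
    (hY : IsPullback pY q q0 (c.π.app i0)) (hX : IsPullback pX f f0 pY)
    (hcd : ∀ y : Y, ∃ x : X, f x = y ∧ Function.Bijective (f.residueFieldMap x)) :
    ∃ (i : I) (a : i ⟶ i0) (Xi Yi : Scheme.{u}) (fi : Xi ⟶ Yi) (qi : Yi ⟶ D.obj i)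
      (pYi : Yi ⟶ Y0) (pXi : Xi ⟶ X0),
      IsPullback pYi qi q0 (D.map a) ∧ IsPullback pXi fi f0 pYi ∧
      ∀ y : Yi, ∃ x : Xi, fi x = y ∧ Function.Bijective (fi.residueFieldMap x) := by
  have hDaff : ∀ {i j : I} (f : i ⟶ j), IsAffineHom (D.map f) := fun f => inferInstance
  have h1 : cdProp f := (cd_iff f).mpr hcd
  have h2 : cdProp (pullback.snd f0 (pullback.fst q0 (c.π.app i0))) :=
    descend_in D c f0 q0 hY hX h1
  haveI : ∀ (j k : Over i0) (φ : j ⟶ k), IsAffineHom ((bcDiagram D q0).map φ) := fun j k φ =>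
    isAffineHom_bcMap D q0 φ (hDaff _)
  haveI : ∀ k : Over i0, CompactSpace ((bcDiagram D q0).obj k) := fun k =>
    compactSpace_bcDiagram_obj D q0 k (hDaff _)
  haveI : ∀ k : Over i0, QuasiSeparatedSpace ((bcDiagram D q0).obj k) := fun k =>
    quasiSeparatedSpace_bcDiagram_obj D q0 k (hDaff _)
  obtain ⟨k, hk⟩ := exists_cd_stage (bcDiagram D q0) (bcDiagramFst D q0) (bcCone D c q0)
    (isLimitBcCone D c q0 hc) (pullback.fst q0 (c.π.app i0)) (fun k => bcProj_fst D c q0 k) f0 h2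
  have hk' : cdProp (pullback.snd f0 (pullback.fst q0 (D.map k.hom))) := hk
  obtain ⟨i, a, Xi, Yi, fi, qi, pYi, pXi, h3, h4, h5⟩ := descend_out (P := cdProp) D f0 q0 k hk'
  exact ⟨i, a, Xi, Yi, fi, qi, pYi, pXi, h3, h4, (cd_iff fi).mp h5⟩

end Groth.Agent.H5.CD
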