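import Mathlib

set_option autoImplicit false

open TensorProduct

namespace Groth.Agent.H5.CD

/-- If the fibre of `M` at `p` is spanned by `1 ⊗ m i`, then so is the fibre at any generization. -/
theorem span_fiber_of_le {R : Type*} [CommRing R] {M : Type*} [AddCommGroup M] [Module R M]
    [Module.Finite R M] (q p : Ideal R) [q.IsPrime] [p.IsPrime] (h : q ≤ p)
    (s : Set M)
    (hs : Submodule.span p.ResidueField (TensorProduct.mk R p.ResidueField M 1 '' s) = ⊤) :
    Submodule.span q.ResidueField (TensorProduct.mk R q.ResidueField M 1 '' s) = ⊤ := by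
  classical
  set N : Submodule R M := Submodule.span R s with hN
  have key : ∀ (P : Ideal R) [P.IsPrime],
      Submodule.span P.ResidueField (TensorProduct.mk R P.ResidueField M 1 '' s) = ⊤ ↔
        Subsingleton (P.ResidueField ⊗[R] (M ⧸ N)) := by
    intro P _
    rw [← Submodule.baseChange_span, ← hN]
    have hex : Function.Exact (N.subtype.baseChange P.ResidueField)
        (N.mkQ.baseChange P.ResidueField) := by
      have := lTensor_exact P.ResidueField (LinearMap.exact_subtype_mkQ N)
        (Submodule.mkQ_surjective N)
      intro z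
      rw [LinearMap.baseChange_eq_ltensor, LinearMap.baseChange_eq_ltensor]
      exact this z
    have hsurj : Function.Surjective (N.mkQ.baseChange P.ResidueField) := by
      rw [LinearMap.baseChange_eq_ltensor]
      exact LinearMap.lTensor_surjective _ (Submodule.mkQ_surjective N)
    constructor
    · intro htop
      refine ⟨fun a b => ?_⟩
      obtain ⟨a', rfl⟩ := hsurj a
      obtain ⟨b', rfl⟩ := hsurj b
      have ha : a' ∈ N.baseChange P.ResidueField := htop ▸ Submodule.mem_top
      have hb : b' ∈ N.baseChange P.ResidueField := htop ▸ Submodule.mem_top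
      rw [(hex a').mpr ha, (hex b').mpr hb]
    · intro hsub
      rw [eq_top_iff]
      intro z _
      exact (hex z).mp (Subsingleton.elim _ _)
  rw [key q]
  have hp := (key p).mp hs
  have hnp : (⟨p, inferInstance⟩ : PrimeSpectrum R) ∉ Module.support R (M ⧸ N) := by
    rw [Module.mem_support_iff_nontrivial_residueField_tensorProduct]
    exact not_nontrivial_iff_subsingleton.mpr hp
  have hnq : (⟨q, inferInstance⟩ : PrimeSpectrum R) ∉ Module.support R (M ⧸ N) := by
    intro hq
    exact hnp (Module.mem_support_mono (p := ⟨q, inferInstance⟩) (q := ⟨p, inferInstance⟩) h hq)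
  rw [Module.mem_support_iff_nontrivial_residueField_tensorProduct] at hnq
  exact not_nontrivial_iff_subsingleton.mp hnq

/-- Upper semicontinuity of the fibre rank of a finite module. -/
theorem finrank_fiber_mono {R : Type*} [CommRing R] {M : Type*} [AddCommGroup M] [Module R M]
    [Module.Finite R M] (q p : Ideal R) [q.IsPrime] [p.IsPrime] (h : q ≤ p) :
    Module.finrank q.ResidueField (q.ResidueField ⊗[R] M) ≤
      Module.finrank p.ResidueField (p.ResidueField ⊗[R] M) := by
  classical
  have htop : Submodule.span p.ResidueField
      (TensorProduct.mk R p.ResidueField M 1 '' (Set.univ : Set M)) = ⊤ := by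
    rw [← Submodule.baseChange_span, Submodule.span_univ, Submodule.baseChange_top]
  obtain ⟨b, hbS, hbspan, hbli⟩ := exists_linearIndependent p.ResidueField
    (TensorProduct.mk R p.ResidueField M 1 '' (Set.univ : Set M))
  rw [htop] at hbspan
  have hbfin : b.Finite := hbli.setFinite
  haveI : Fintype b := hbfin.fintype
  -- choose preimages
  have hch : ∀ x : b, ∃ m : M, TensorProduct.mk R p.ResidueField M 1 m = x.1 := by
    intro x
    obtain ⟨m, -, hm⟩ := hbS x.2
    exact ⟨m, hm⟩
  choose m hm using hch
  have himg : TensorProduct.mk R p.ResidueField M 1 '' (Set.range m) = b := by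
    ext z
    constructor
    · rintro ⟨_, ⟨x, rfl⟩, rfl⟩
      rw [hm]; exact x.2
    · intro hz
      exact ⟨m ⟨z, hz⟩, ⟨_, rfl⟩, hm ⟨z, hz⟩⟩
  have hq := span_fiber_of_le q p h (Set.range m) (by rw [himg, hbspan])
  have hcard : Module.finrank p.ResidueField (p.ResidueField ⊗[R] M) = Fintype.card b := by
    have := finrank_span_set_eq_card hbli
    rw [hbspan, finrank_top] at this
    rw [this, Set.toFinset_card]
  rw [hcard]
  have hle := finrank_range_le_card (R := q.ResidueField)
    (fun x : b => TensorProduct.mk R q.ResidueField M 1 (m x))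
  have hrange : Set.range (fun x : b => TensorProduct.mk R q.ResidueField M 1 (m x)) =
      TensorProduct.mk R q.ResidueField M 1 '' (Set.range m) := by
    rw [← Set.range_comp]; rfl
  rw [hrange] at hle
  unfold Set.finrank at hle
  rw [hq, finrank_top] at hle
  exact hle

end Groth.Agent.H5.CD
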