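import Mathlib
import Groth.Agent.Lib.Helper5.FormalAlg

set_option autoImplicit false
universe u

open TensorProduct

namespace Groth.Agent.H5.CD

section
variable {k A : Type u} [CommRing k] [CommRing A] [Algebra k A] [IsNoetherianRing A]
  (I : Ideal A) [IsAdicComplete I A]
  {L : Type u} [CommRing L] [Algebra A L] [Algebra k L] [IsScalarTower k A L]

/-- A derivation `A → L` with values in a finitely generated `A`-submodule of `L` induces a
linear form on `L ⊗ Ω̂`. -/
theorem exists_dual_of_derivation (D : Derivation k A L) (M : Submodule A L) (hM : M.FG)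
    (hD : ∀ a, D a ∈ M) :
    ∃ ψ : L ⊗[A] AdicCompletion I (Ω[A⁄k]) →ₗ[L] L,
      ∀ a, ψ ((1 : L) ⊗ₜ[A] AdicCompletion.of I (Ω[A⁄k]) (KaehlerDifferential.D k A a)) = D a := by
  haveI : Module.Finite A M := Module.Finite.iff_fg.mpr hM
  haveI : IsAdicComplete I M := FormalAlg.isAdicComplete_of_finite I M
  let φ : Ω[A⁄k] →ₗ[A] L := D.liftKaehlerDifferential
  have hφ : ∀ ω, φ ω ∈ M := by
    intro ω
    have hω : ω ∈ Submodule.span A (Set.range (KaehlerDifferential.D k A)) := by
      rw [KaehlerDifferential.span_range_derivation]; trivial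
    induction hω using Submodule.span_induction with
    | mem ω hω =>
      obtain ⟨b, rfl⟩ := hω
      show D.liftKaehlerDifferential _ ∈ M
      rw [Derivation.liftKaehlerDifferential_comp_D]
      exact hD b
    | zero => rw [map_zero]; exact M.zero_mem
    | add x y _ _ hx hy => rw [map_add]; exact M.add_mem hx hy
    | smul a x _ hx => rw [map_smul]; exact M.smul_mem a hx
  let φM : Ω[A⁄k] →ₗ[A] M := φ.codRestrict M hφ
  let g : AdicCompletion I (Ω[A⁄k]) →ₗ[A] L :=
    M.subtype ∘ₗ (AdicCompletion.ofLinearEquiv I M).symm.toLinearMap ∘ₗ AdicCompletion.map I φM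
  refine ⟨LinearMap.liftBaseChange L g, fun a => ?_⟩
  rw [LinearMap.liftBaseChange_tmul, one_smul]
  show ((AdicCompletion.ofLinearEquiv I M).symm
    (AdicCompletion.map I φM (AdicCompletion.of I _ (KaehlerDifferential.D k A a))) : L) = D a
  rw [AdicCompletion.map_of]
  have h1 : (AdicCompletion.ofLinearEquiv I M).symm
      (AdicCompletion.of I M (φM (KaehlerDifferential.D k A a))) =
      φM (KaehlerDifferential.D k A a) := by
    rw [LinearEquiv.symm_apply_eq]
    rfl
  rw [h1]
  show D.liftKaehlerDifferential _ = _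
  rw [Derivation.liftKaehlerDifferential_comp_D]

end

end Groth.Agent.H5.CD
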