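import Mathlib

set_option autoImplicit false
universe u

open TensorProduct

namespace Groth.Agent.H5.CD

section ext
variable {k P L : Type*} [CommRing k] [CommRing P] [Field L] [Algebra k P] [Algebra P L]
  [Algebra k L] [IsScalarTower k P L]

/-- A derivation `P → L` whose associated linear form kills the imperfection module extends
to a derivation of `L`. -/
theorem exists_extension (D₀ : Derivation k P L)
    (h : ∀ z : L ⊗[P] Ω[P⁄k], KaehlerDifferential.mapBaseChange k P L z = 0 →
      LinearMap.liftBaseChange L D₀.liftKaehlerDifferential z = 0) :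
    ∃ D : Derivation k L L, ∀ f : P, D (algebraMap P L f) = D₀ f := by
  set m := KaehlerDifferential.mapBaseChange k P L with hm
  set φ₀ := LinearMap.liftBaseChange L D₀.liftKaehlerDifferential with hφ₀
  obtain ⟨s, hs⟩ := LinearMap.exists_rightInverse_of_surjective m.rangeRestrict
    (LinearMap.range_rangeRestrict m)
  obtain ⟨π, hπ⟩ := LinearMap.exists_leftInverse_of_injective (LinearMap.range m).subtype
    (LinearMap.ker_eq_bot.mpr (Submodule.injective_subtype _))
  let χ : Ω[L⁄k] →ₗ[L] L := φ₀ ∘ₗ s ∘ₗ π
  have hχ : ∀ x, χ (m x) = φ₀ x := by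
    intro x
    have h1 : π (m x) = m.rangeRestrict x := by
      have := congrArg (fun f => f (m.rangeRestrict x)) hπ
      simpa using this
    have h2 : m (s (m.rangeRestrict x)) = m x := by
      have := congrArg (fun f => (f (m.rangeRestrict x) : Ω[L⁄k])) hs
      simpa using this
    show φ₀ (s (π (m x))) = φ₀ x
    rw [h1]
    have h3 : m (s (m.rangeRestrict x) - x) = 0 := by rw [map_sub, h2, sub_self]
    have h4 := h _ h3
    rw [map_sub, sub_eq_zero] at h4
    exact h4
  refine ⟨χ.compDer (KaehlerDifferential.D k L), fun f => ?_⟩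
  show χ (KaehlerDifferential.D k L (algebraMap P L f)) = D₀ f
  have h5 : KaehlerDifferential.D k L (algebraMap P L f) =
      m ((1 : L) ⊗ₜ KaehlerDifferential.D k P f) := by
    rw [hm, KaehlerDifferential.mapBaseChange_tmul, one_smul, KaehlerDifferential.map_D]
  rw [h5, hχ, hφ₀, LinearMap.liftBaseChange_tmul, one_smul,
    Derivation.liftKaehlerDifferential_comp_D]

end ext

section fg
variable {k P B L : Type*} [CommRing k] [CommRing P] [CommRing B] [Field L] [Algebra k P]
  [Algebra P B] [Algebra B L] [Algebra P L] [IsScalarTower P B L]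
  [Algebra k L] [Module.Finite P B]

/-- A derivation of `L` mapping `P` into a finitely generated `P`-submodule maps the finite
`P`-algebra `B` into a finitely generated `B`-submodule. -/
theorem exists_fg_of_finite (D : Derivation k L L) (T : Finset L)
    (hT : ∀ f : P, D (algebraMap P L f) ∈ Submodule.span P (T : Set L)) :
    ∃ S : Finset L, ∀ b : B, D (algebraMap B L b) ∈ Submodule.span B (S : Set L) := by
  classical
  obtain ⟨d, g, hg⟩ := Module.Finite.exists_fin (R := P) (M := B)
  refine ⟨T ∪ Finset.image (fun i => D (algebraMap B L (g i))) Finset.univ, fun b => ?_⟩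
  have hb : b ∈ Submodule.span P (Set.range g) := hg ▸ Submodule.mem_top
  obtain ⟨c, rfl⟩ := (Submodule.mem_span_range_iff_exists_fun P).mp hb
  rw [map_sum, map_sum]
  refine Submodule.sum_mem _ fun i _ => ?_
  rw [Algebra.smul_def, map_mul, Derivation.leibniz, ← IsScalarTower.algebraMap_apply P B L]
  refine Submodule.add_mem _ ?_ ?_
  · -- alg (c i) • D (alg (g i))
    rw [smul_eq_mul, ← smul_eq_mul, algebraMap_smul, ← algebraMap_smul B (c i)]
    refine Submodule.smul_mem _ _ (Submodule.subset_span ?_)
    rw [Finset.coe_union]
    refine Or.inr ?_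
    rw [Finset.coe_image]
    exact ⟨i, by simp, rfl⟩
  · rw [smul_eq_mul, ← smul_eq_mul, algebraMap_smul]
    refine Submodule.smul_mem _ _ ?_
    have h1 := hT (c i)
    have h2 : Submodule.span P (T : Set L) ≤
        (Submodule.span B (T : Set L)).restrictScalars P :=
      Submodule.span_le_restrictScalars P B _
    have h3 := h2 h1
    rw [Submodule.restrictScalars_mem] at h3
    refine Submodule.span_mono ?_ h3
    rw [Finset.coe_union]
    exact Set.subset_union_left

end fg

end Groth.Agent.H5.CD
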