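import Mathlib
import Groth.Agent.Lib.Helper5.Car.PK6
import Groth.Agent.Lib.Helper5.Car.Car3
import Groth.Agent.Lib.Helper5.Car.Car5

set_option autoImplicit false
universe u

open TensorProduct

namespace Groth.Agent.H5.CD

section
variable (k P L' L : Type u) [Field k] [CommRing P] [Field L'] [Field L]
  [Algebra k P] [Algebra P L'] [IsFractionRing P L'] [Algebra L' L] [Algebra P L]
  [IsScalarTower P L' L] [Algebra k L'] [Algebra k L] [IsScalarTower k P L']
  [IsScalarTower k L' L] [IsScalarTower k P L]

/-- the comparison map `L ⊗_P Ω_{P/k} → L ⊗_{L'} Ω_{L'/k}` is injective when `L' = Frac P`. -/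
theorem xi_injective : Function.Injective (PK.xi k P L' L) := by
  haveI : Algebra.FormallyEtale P L' :=
    Algebra.FormallyEtale.of_isLocalization (nonZeroDivisors P)
  let e := KaehlerDifferential.tensorKaehlerEquivOfFormallyEtale k P L'
  let E : L ⊗[P] Ω[P⁄k] ≃ₗ[L] L ⊗[L'] Ω[L'⁄k] :=
    (TensorProduct.AlgebraTensorModule.cancelBaseChange P L' L L Ω[P⁄k]).symm ≪≫ₗ
      (e.baseChange L' L _ _)
  have hE : PK.xi k P L' L = E.toLinearMap := by
    apply H5.JZ.ext_tensor_kaehler
    intro a
    rw [PK.xi_tmul]
    show _ = (e.baseChange L' L _ _)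
      ((TensorProduct.AlgebraTensorModule.cancelBaseChange P L' L L Ω[P⁄k]).symm
        ((1 : L) ⊗ₜ KaehlerDifferential.D k P a))
    rw [TensorProduct.AlgebraTensorModule.cancelBaseChange_symm_tmul,
      LinearEquiv.baseChange_tmul]
    congr 1
    show _ = KaehlerDifferential.mapBaseChange k P L' _
    rw [KaehlerDifferential.mapBaseChange_tmul, one_smul, KaehlerDifferential.map_D]
  rw [hE]
  exact E.injective

variable [Module.Finite L' L]

/-- Cartier's bound: the imperfection module of `L/P/k` has dimension at most that of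
`Ω_{L/L'}` when `L` is finite over `L' = Frac P`. -/
theorem finrank_ker_mapBaseChange_le :
    Module.Finite L (LinearMap.ker (KaehlerDifferential.mapBaseChange k P L)) ∧
    Module.finrank L (LinearMap.ker (KaehlerDifferential.mapBaseChange k P L)) ≤
      Module.finrank L Ω[L⁄L'] := by
  haveI : Algebra.EssFiniteType L' L := inferInstance
  obtain ⟨hfinΩ, hfinH, hcart⟩ := Car.cartier_H1 (K := L') (L := L)
  have htr : Algebra.trdeg L' L = 0 := by
    haveI : Algebra.IsAlgebraic L' L := Algebra.IsAlgebraic.of_finite L' L
    exact trdeg_eq_zero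
  rw [htr] at hcart
  have hcart' : Module.finrank L (Algebra.H1Cotangent L' L) = Module.finrank L Ω[L⁄L'] := by
    have : (Cardinal.toNat (0 : Cardinal) : ℤ) = 0 := by simp
    rw [this] at hcart
    omega
  -- the three imperfection modules
  let eH := Car.imperfectionEquivH1Cotangent L' L
  haveI hfin2 : Module.Finite L (EGA41.imperfection ℤ L' L) := Module.Finite.equiv eH.symm
  have hrank2 : Module.finrank L (EGA41.imperfection ℤ L' L) = Module.finrank L Ω[L⁄L'] := by
    rw [← hcart']; exact eH.finrank_eq
  -- `rho` restricted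
  let r : EGA41.imperfection ℤ L' L →ₗ[L]
      LinearMap.ker (KaehlerDifferential.mapBaseChange k L' L) :=
    (PK.rho ℤ k L' L).restrict (by
      intro ζ hζ
      rw [LinearMap.mem_ker, PK.mapBaseChange_rho]
      have : KaehlerDifferential.mapBaseChange ℤ L' L ζ = 0 := hζ
      rw [this, map_zero])
  have hr : Function.Surjective r := by
    rintro ⟨ξ, hξ⟩
    obtain ⟨ζ, hζ0, hζ⟩ := PK.exists_mem_ker_rho_eq ℤ k L' L ξ hξ
    exact ⟨⟨ζ, hζ0⟩, Subtype.ext hζ⟩
  haveI hfin1 : Module.Finite L (LinearMap.ker (KaehlerDifferential.mapBaseChange k L' L)) :=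
    Module.Finite.of_surjective r hr
  have hrank1 : Module.finrank L (LinearMap.ker (KaehlerDifferential.mapBaseChange k L' L)) ≤
      Module.finrank L (EGA41.imperfection ℤ L' L) :=
    LinearMap.finrank_le_finrank_of_surjective hr
  -- `xi` restricted
  let x : LinearMap.ker (KaehlerDifferential.mapBaseChange k P L) →ₗ[L]
      LinearMap.ker (KaehlerDifferential.mapBaseChange k L' L) :=
    (PK.xi k P L' L).restrict (by
      intro z hz
      rw [LinearMap.mem_ker, ← LinearMap.comp_apply, PK.mapBaseChange_comp_xi]
      exact hz)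
  have hx : Function.Injective x := by
    intro a b hab
    apply Subtype.ext
    apply xi_injective k P L' L
    exact congrArg Subtype.val hab
  haveI hfin0 : Module.Finite L (LinearMap.ker (KaehlerDifferential.mapBaseChange k P L)) := by
    haveI : IsNoetherian L (LinearMap.ker (KaehlerDifferential.mapBaseChange k L' L)) :=
      isNoetherian_of_isNoetherianRing_of_finite L
        (LinearMap.ker (KaehlerDifferential.mapBaseChange k L' L))
    exact Module.Finite.of_injective x hx
  refine ⟨hfin0, ?_⟩
  calc Module.finrank L (LinearMap.ker (KaehlerDifferential.mapBaseChange k P L))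
      ≤ Module.finrank L (LinearMap.ker (KaehlerDifferential.mapBaseChange k L' L)) :=
        LinearMap.finrank_le_finrank_of_injective hx
    _ ≤ Module.finrank L (EGA41.imperfection ℤ L' L) := hrank1
    _ = Module.finrank L Ω[L⁄L'] := hrank2

end

end Groth.Agent.H5.CD
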