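import Mathlib
import Groth.Agent.Lib.Helper5.CD.B
import Groth.Agent.Lib.Helper5.CD.D2
import Groth.Agent.Lib.Helper5.CD.D3
import Groth.Agent.Lib.Helper5.CD.D4

set_option autoImplicit false
universe u

open TensorProduct IsLocalRing

namespace Groth.Agent.H5.CD

section count
variable (k A B L : Type u) [Field k] [CommRing A] [IsLocalRing A] [IsNoetherianRing A]
  [Algebra k A] [IsAdicComplete (maximalIdeal A) A] [Module.Finite k (ResidueField A)]
  [CommRing B] [IsDomain B] [Algebra A B] [Algebra k B] [IsScalarTower k A B]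
  [Field L] [Algebra B L] [IsFractionRing B L] [Algebra A L] [IsScalarTower A B L]
  [Algebra k L] [IsScalarTower k B L] [IsScalarTower k A L]

local notation "Ωh" => AdicCompletion (maximalIdeal A) (Ω[A⁄k])

/-- the generators `1 ⊗ [d a]` of `L ⊗ Ω̂`. -/
noncomputable def yel (a : A) : L ⊗[A] Ωh :=
  (1 : L) ⊗ₜ[A] AdicCompletion.of (maximalIdeal A) (Ω[A⁄k]) (KaehlerDifferential.D k A a)

theorem span_yel : Submodule.span L (Set.range (yel k A L)) = ⊤ := by
  have hof := of_surjective k A
  have h1 : Submodule.span A (Set.range fun a : A =>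
      AdicCompletion.of (maximalIdeal A) (Ω[A⁄k]) (KaehlerDifferential.D k A a)) = ⊤ := by
    have : (Set.range fun a : A =>
        AdicCompletion.of (maximalIdeal A) (Ω[A⁄k]) (KaehlerDifferential.D k A a)) =
        (AdicCompletion.of (maximalIdeal A) (Ω[A⁄k])) '' Set.range (KaehlerDifferential.D k A) := by
      rw [← Set.range_comp]; rfl
    rw [this, ← Submodule.map_span, KaehlerDifferential.span_range_derivation, Submodule.map_top,
      LinearMap.range_eq_top]
    exact hof
  have h2 := Submodule.baseChange_span (R := A) (M := Ωh) L (Set.range fun a : A =>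
      AdicCompletion.of (maximalIdeal A) (Ω[A⁄k]) (KaehlerDifferential.D k A a))
  rw [h1, Submodule.baseChange_top] at h2
  rw [h2]
  congr 1
  rw [← Set.range_comp]
  rfl

instance finite_Y : Module.Finite L (L ⊗[A] Ωh) := by
  haveI : Module.Finite k (A ⧸ maximalIdeal A) := ‹Module.Finite k (ResidueField A)›
  haveI : Module.Finite (A ⧸ maximalIdeal A) (Ω[A ⧸ maximalIdeal A⁄k]) := inferInstance
  haveI : Module.Finite A (maximalIdeal A).Cotangent :=
    Module.Finite.of_surjective (maximalIdeal A).toCotangent (maximalIdeal A).toCotangent_surjective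
  haveI : Module.Finite (A ⧸ maximalIdeal A) (maximalIdeal A).Cotangent :=
    Module.Finite.of_restrictScalars_finite A (A ⧸ maximalIdeal A) _
  haveI : Module.Finite A Ωh := CF.finite_completedKaehler k (maximalIdeal A)
  infer_instance

variable {k A B L}

/-- A `k`-derivation of `L` vanishing on the image of `A` (whose image generates `L` as a field)
is zero. -/
theorem derivation_eq_zero_of_frac (hAB : Function.Surjective (algebraMap A B))
    {R M : Type*} [CommRing R] [Algebra R L] [AddCommGroup M] [Module L M] [Module R M]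
    (D : Derivation R L M) (hD : ∀ a : A, D (algebraMap A L a) = 0) : D = 0 := by
  ext x
  obtain ⟨⟨b, s⟩, hx⟩ := IsLocalization.surj (nonZeroDivisors B) x
  have hs : algebraMap B L s.1 ≠ 0 := by
    intro h0
    have := (IsFractionRing.injective B L) (h0.trans (map_zero _).symm)
    exact nonZeroDivisors.ne_zero s.2 this
  have hB : ∀ b : B, D (algebraMap B L b) = 0 := by
    intro b
    obtain ⟨a, rfl⟩ := hAB b
    rw [← IsScalarTower.algebraMap_apply]
    exact hD a
  have h1 := congrArg D hx
  simp only at h1
  rw [Derivation.leibniz, hB, hB, smul_zero, zero_add] at h1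
  rw [Derivation.zero_apply]
  exact (smul_eq_zero.mp h1).resolve_left hs

end count

/-- rank–nullity for a family of linear forms. -/
theorem exists_submodule_count {L U : Type*} [Field L] [AddCommGroup U]
    [Module L U] [Module.Finite L U] {n : ℕ} (F : Fin n → (U →ₗ[L] L)) :
    ∃ W : Submodule L (Fin n → L), n ≤ Module.finrank L U + Module.finrank L W ∧
      ∀ c ∈ W, ∀ u : U, ∑ j, c j * F j u = 0 := by
  refine ⟨LinearMap.ker (Fintype.linearCombination L F), ?_, ?_⟩
  · have h1 := LinearMap.finrank_range_add_finrank_ker (Fintype.linearCombination L F)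
    have h3 : Module.finrank L (LinearMap.range (Fintype.linearCombination L F)) ≤
        Module.finrank L U := by
      calc Module.finrank L (LinearMap.range (Fintype.linearCombination L F))
          ≤ Module.finrank L (U →ₗ[L] L) := Submodule.finrank_le _
        _ = Module.finrank L U := Subspace.dual_finrank_eq
    have h6 : Module.finrank L (Fin n → L) = n := by simp
    omega
  · intro c hc u
    have h0 := congrArg (fun φ => φ u) (LinearMap.mem_ker.mp hc)
    simpa [Fintype.linearCombination_apply, LinearMap.sum_apply] using h0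

section main
variable (k A B L : Type u) [Field k] [CommRing A] [IsLocalRing A] [IsNoetherianRing A]
  [Algebra k A] [IsAdicComplete (maximalIdeal A) A] [Module.Finite k (ResidueField A)]
  [CommRing B] [IsDomain B] [Algebra A B] [Algebra k B] [IsScalarTower k A B]
  [Field L] [Algebra B L] [IsFractionRing B L] [Algebra A L] [IsScalarTower A B L]
  [Algebra k L] [IsScalarTower k B L] [IsScalarTower k A L]
  (n : ℕ)

local notation "Ωh" => AdicCompletion (maximalIdeal A) (Ω[A⁄k])

variable [Algebra (MvPowerSeries (Fin n) k) B] [Algebra (MvPowerSeries (Fin n) k) L] [IsScalarTower (MvPowerSeries (Fin n) k) B L] [IsScalarTower k (MvPowerSeries (Fin n) k) L]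
  [Module.Finite (MvPowerSeries (Fin n) k) B] [FaithfulSMul (MvPowerSeries (Fin n) k) B]

variable {k A B L n} in
/-- a derivation of `L` mapping `(MvPowerSeries (Fin n) k)` into a finitely generated `(MvPowerSeries (Fin n) k)`-module gives a linear form on
`L ⊗ Ω̂`. -/
theorem exists_dual_of_derivation' (hAB : Function.Surjective (algebraMap A B))
    (D : Derivation k L L) (T : Finset L)
    (hT : ∀ f : (MvPowerSeries (Fin n) k), D (algebraMap (MvPowerSeries (Fin n) k) L f) ∈ Submodule.span (MvPowerSeries (Fin n) k) (T : Set L)) :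
    ∃ ψ : L ⊗[A] Ωh →ₗ[L] L, ∀ a : A, ψ (yel k A L a) = D (algebraMap A L a) := by
  obtain ⟨S, hS⟩ := exists_fg_of_finite (P := MvPowerSeries (Fin n) k) (B := B) D T hT
  let M : Submodule A L := Submodule.span A (S : Set L)
  have hM : M.FG := ⟨S, rfl⟩
  let DA : Derivation k A L := D.compAlgebraMap A
  have hDA : ∀ a, DA a ∈ M := by
    intro a
    have h1 := hS (algebraMap A B a)
    rw [← IsScalarTower.algebraMap_apply] at h1
    have h2 : (Submodule.span B (S : Set L)).restrictScalars A = Submodule.span A (S : Set L) :=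
      Submodule.restrictScalars_span A B hAB _
    show D (algebraMap A L a) ∈ Submodule.span A (S : Set L)
    rw [← h2]
    exact h1
  exact exists_dual_of_derivation (maximalIdeal A) DA M hM hDA

variable (L' : Type u) [Field L'] [Algebra (MvPowerSeries (Fin n) k) L'] [IsFractionRing (MvPowerSeries (Fin n) k) L'] [Algebra L' L]
  [IsScalarTower (MvPowerSeries (Fin n) k) L' L] [Algebra k L'] [IsScalarTower k (MvPowerSeries (Fin n) k) L'] [IsScalarTower k L' L]

include B L' in
/-- **the count**: `L ⊗ Ω̂` has dimension at least `n`. -/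
theorem le_finrank (hAB : Function.Surjective (algebraMap A B)) :
    n ≤ Module.finrank L (L ⊗[A] Ωh) := by
  classical
  haveI : Algebra.IsIntegral (MvPowerSeries (Fin n) k) B := Algebra.IsIntegral.of_finite (MvPowerSeries (Fin n) k) B
  haveI : Algebra.IsAlgebraic (MvPowerSeries (Fin n) k) B := Algebra.IsIntegral.isAlgebraic
  haveI : Module.Finite L' L := Module.Finite.of_isLocalization (MvPowerSeries (Fin n) k) B (nonZeroDivisors (MvPowerSeries (Fin n) k))
  obtain ⟨hfinΥ, hΥ⟩ := finrank_ker_mapBaseChange_le k (MvPowerSeries (Fin n) k) L' L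
  haveI : Module.Finite L Ω[L⁄L'] := inferInstance
  -- lifts of the variables
  choose a ha using fun j : Fin n => hAB (algebraMap (MvPowerSeries (Fin n) k) B (MvPowerSeries.X j))
  have haL : ∀ j, algebraMap A L (a j) = algebraMap (MvPowerSeries (Fin n) k) L (MvPowerSeries.X j) := by
    intro j
    rw [IsScalarTower.algebraMap_apply A B L, ha, ← IsScalarTower.algebraMap_apply]
  let Θ : (L ⊗[A] Ωh →ₗ[L] L) →ₗ[L] (Fin n → L) :=
    LinearMap.pi fun j => LinearMap.applyₗ (yel k A L (a j))
  have hΘ : ∀ ψ j, Θ ψ j = ψ (yel k A L (a j)) := fun _ _ => rfl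
  let f : Fin n → (L ⊗[(MvPowerSeries (Fin n) k)] Ω[(MvPowerSeries (Fin n) k)⁄k] →ₗ[L] L) := fun j =>
    LinearMap.liftBaseChange L
      ((Algebra.linearMap (MvPowerSeries (Fin n) k) L).compDer (MvPowerSeries.pderiv k j)).liftKaehlerDifferential
  have hf : ∀ j g, f j (1 ⊗ₜ KaehlerDifferential.D k (MvPowerSeries (Fin n) k) g) =
      algebraMap (MvPowerSeries (Fin n) k) L (MvPowerSeries.pderiv k j g) := by
    intro j g
    simp only [f, LinearMap.liftBaseChange_tmul, one_smul,
      Derivation.liftKaehlerDifferential_comp_D]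
    rfl
  obtain ⟨W, hWn, hW⟩ := exists_submodule_count
    (U := LinearMap.ker (KaehlerDifferential.mapBaseChange k (MvPowerSeries (Fin n) k) L))
    fun j => (f j).domRestrict
      (LinearMap.ker (KaehlerDifferential.mapBaseChange k (MvPowerSeries (Fin n) k) L))
  -- (a)
  have hA : W ≤ LinearMap.range Θ := by
    intro c hc
    let D₀ : Derivation k (MvPowerSeries (Fin n) k) L :=
      ∑ j, c j • (Algebra.linearMap (MvPowerSeries (Fin n) k) L).compDer (MvPowerSeries.pderiv k j)
    have hD₀ : ∀ g, D₀ g = ∑ j, c j * algebraMap (MvPowerSeries (Fin n) k) L (MvPowerSeries.pderiv k j g) := by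
      intro g
      have h0 := congrFun (map_sum (Derivation.coeFnAddMonoidHom (R := k)
        (A := MvPowerSeries (Fin n) k) (M := L))
        (fun j => c j • (Algebra.linearMap (MvPowerSeries (Fin n) k) L).compDer
          (MvPowerSeries.pderiv k j)) Finset.univ) g
      rw [Finset.sum_apply] at h0
      exact h0
    have hlift : LinearMap.liftBaseChange L D₀.liftKaehlerDifferential = ∑ j, c j • f j := by
      apply H5.JZ.ext_tensor_kaehler
      intro g
      rw [LinearMap.liftBaseChange_tmul, one_smul, Derivation.liftKaehlerDifferential_comp_D, hD₀,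
        LinearMap.sum_apply]
      refine Finset.sum_congr rfl fun j _ => ?_
      rw [LinearMap.smul_apply, hf, smul_eq_mul]
    obtain ⟨D, hD⟩ := exists_extension D₀ (by
      intro z hz
      rw [hlift]
      have h0 := hW c hc ⟨z, hz⟩
      rw [LinearMap.sum_apply]
      refine Eq.trans (Finset.sum_congr rfl fun j _ => ?_) h0
      rw [LinearMap.smul_apply, smul_eq_mul]
      rfl)
    obtain ⟨ψ, hψ⟩ := exists_dual_of_derivation' (B := B) (n := n) hAB D
      (Finset.image c Finset.univ) (by
        intro g
        rw [hD, hD₀]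
        refine Submodule.sum_mem _ fun j _ => ?_
        rw [mul_comm, ← Algebra.smul_def]
        exact Submodule.smul_mem _ _ (Submodule.subset_span (by simp)))
    refine ⟨ψ, ?_⟩
    funext j
    rw [hΘ, hψ, haL, hD, hD₀, Finset.sum_eq_single j]
    · rw [MvPowerSeries.pderiv_X_self, map_one, mul_one]
    · intro i _ hij
      rw [MvPowerSeries.pderiv_X_of_ne (Ne.symm hij), map_zero, mul_zero]
    · intro h; exact absurd (Finset.mem_univ j) h
  -- (b)
  have hB : Module.finrank L Ω[L⁄L'] ≤ Module.finrank L (LinearMap.ker Θ) := by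
    let bΩ := Module.finBasis L Ω[L⁄L']
    let D' : Fin (Module.finrank L Ω[L⁄L']) → Derivation k L L := fun i =>
      ((bΩ.coord i).compDer (KaehlerDifferential.D L' L)).restrictScalars k
    have hD'P : ∀ i (g : (MvPowerSeries (Fin n) k)), D' i (algebraMap (MvPowerSeries (Fin n) k) L g) = 0 := by
      intro i g
      show bΩ.coord i (KaehlerDifferential.D L' L (algebraMap (MvPowerSeries (Fin n) k) L g)) = 0
      rw [IsScalarTower.algebraMap_apply (MvPowerSeries (Fin n) k) L' L, Derivation.map_algebraMap, map_zero]
    have hex : ∀ i, ∃ ψ : L ⊗[A] Ωh →ₗ[L] L,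
        ∀ a : A, ψ (yel k A L a) = D' i (algebraMap A L a) := fun i =>
      exists_dual_of_derivation' (B := B) (n := n) hAB (D' i) ∅ (by
        intro g; rw [hD'P]; exact Submodule.zero_mem _)
    choose ψ hψ using hex
    have hker : ∀ i, ψ i ∈ LinearMap.ker Θ := by
      intro i
      rw [LinearMap.mem_ker]
      funext j
      rw [hΘ, hψ, haL, hD'P]
      rfl
    let v : Fin (Module.finrank L Ω[L⁄L']) → LinearMap.ker Θ := fun i => ⟨ψ i, hker i⟩
    have hli : LinearIndependent L v := by
      apply LinearIndependent.of_comp (LinearMap.ker Θ).subtype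
      show LinearIndependent L (fun i => ψ i)
      rw [Fintype.linearIndependent_iff]
      intro g hg' i
      let φ : Ω[L⁄L'] →ₗ[L] L := ∑ i, g i • bΩ.coord i
      have hφ : φ.compDer (KaehlerDifferential.D L' L) = 0 := by
        apply derivation_eq_zero_of_frac (A := A) (B := B) hAB
        intro a
        show φ (KaehlerDifferential.D L' L (algebraMap A L a)) = 0
        have h0 := congrArg (fun χ => χ (yel k A L a)) hg'
        simp only [LinearMap.sum_apply, LinearMap.smul_apply, LinearMap.zero_apply, hψ] at h0
        simpa [φ, D', LinearMap.sum_apply] using h0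
      have hφ0 : φ = 0 := by
        apply LinearMap.ext_on_range (KaehlerDifferential.span_range_derivation L' L)
        intro x
        have h0 := congrArg (fun d => d x) hφ
        simpa using h0
      have h0 := congrArg (fun χ => χ (bΩ i)) hφ0
      simpa [φ, LinearMap.sum_apply, Finsupp.single_apply] using h0
    have h0 := hli.fintype_card_le_finrank
    simpa using h0
  have h2 := LinearMap.finrank_range_add_finrank_ker Θ
  have h4 : Module.finrank L W ≤ Module.finrank L (LinearMap.range Θ) :=
    Submodule.finrank_mono hA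
  have h5 : Module.finrank L (L ⊗[A] Ωh →ₗ[L] L) = Module.finrank L (L ⊗[A] Ωh) :=
    Subspace.dual_finrank_eq
  omega

end main

end Groth.Agent.H5.CD
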