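import Mathlib
import Groth.Agent.Lib.Helper5.CD.D1
import Groth.Agent.Lib.Helper5.CD.D5
import Groth.Agent.Lib.Helper5.CA.NN3
import Groth.Agent.Lib.Helper5.FormalAlg
import Groth.Agent.Lib.Helper2.DimFG
import Groth.Agent.Lib.Helper6.PSCotC

set_option autoImplicit false
universe u

open TensorProduct IsLocalRing

namespace Groth.Agent.H5.CD

section quot
variable (k A : Type u) [Field k] [CommRing A] [IsLocalRing A] [IsNoetherianRing A]
  [Algebra k A] [IsAdicComplete (maximalIdeal A) A] [Module.Finite k (ResidueField A)]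
  (q : Ideal A) [q.IsPrime]

instance isLocalRing_quot : IsLocalRing (A ⧸ q) :=
  IsLocalRing.of_surjective' (Ideal.Quotient.mk q) Ideal.Quotient.mk_surjective

theorem map_maximalIdeal_quot :
    (maximalIdeal A).map (algebraMap A (A ⧸ q)) = maximalIdeal (A ⧸ q) := by
  have hq : q ≤ maximalIdeal A := IsLocalRing.le_maximalIdeal (Ideal.IsPrime.ne_top inferInstance)
  have hmax := Ideal.map_eq_top_or_isMaximal_of_surjective (Ideal.Quotient.mk q)
    Ideal.Quotient.mk_surjective (maximalIdeal.isMaximal A)
  rcases hmax with htop | hmax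
  · exfalso
    have h1 : Ideal.comap (Ideal.Quotient.mk q) ((maximalIdeal A).map (Ideal.Quotient.mk q)) = ⊤ := by
      rw [htop, Ideal.comap_top]
    rw [Ideal.comap_map_of_surjective _ Ideal.Quotient.mk_surjective, ← RingHom.ker_eq_comap_bot,
      Ideal.mk_ker, sup_eq_left.mpr hq] at h1
    exact (maximalIdeal.isMaximal A).ne_top h1
  · exact IsLocalRing.eq_maximalIdeal hmax

instance isAdicComplete_quot : IsAdicComplete (maximalIdeal (A ⧸ q)) (A ⧸ q) := by
  rw [← map_maximalIdeal_quot, IsAdicComplete.map_algebraMap_iff]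
  exact FormalAlg.isAdicComplete_of_finite (maximalIdeal A) (A ⧸ q)

instance finite_residueField_quot : Module.Finite k (ResidueField (A ⧸ q)) := by
  let φ : A →ₐ[k] ResidueField (A ⧸ q) :=
    (IsScalarTower.toAlgHom k (A ⧸ q) (ResidueField (A ⧸ q))).comp
      (IsScalarTower.toAlgHom k A (A ⧸ q))
  have hφs : Function.Surjective φ := by
    intro x
    obtain ⟨b, rfl⟩ := IsLocalRing.residue_surjective x
    obtain ⟨a, rfl⟩ := Ideal.Quotient.mk_surjective b
    exact ⟨a, rfl⟩
  have hφ0 : ∀ a ∈ maximalIdeal A, φ a = 0 := by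
    intro a ha
    show IsLocalRing.residue (A ⧸ q) (Ideal.Quotient.mk q a) = 0
    rw [IsLocalRing.residue_eq_zero_iff, ← map_maximalIdeal_quot]
    exact Ideal.mem_map_of_mem _ ha
  let ψ : (A ⧸ maximalIdeal A) →ₐ[k] ResidueField (A ⧸ q) :=
    Ideal.Quotient.liftₐ (maximalIdeal A) φ hφ0
  have hψs : Function.Surjective ψ := by
    intro x
    obtain ⟨a, rfl⟩ := hφs x
    exact ⟨Ideal.Quotient.mk _ a, rfl⟩
  haveI : Module.Finite k (A ⧸ maximalIdeal A) := ‹Module.Finite k (ResidueField A)›
  exact Module.Finite.of_surjective ψ.toLinearMap hψs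

local notation "Ωh" => AdicCompletion (maximalIdeal A) (Ω[A⁄k])

theorem finite_Ωh : Module.Finite A Ωh := by
  haveI : Module.Finite k (A ⧸ maximalIdeal A) := ‹Module.Finite k (ResidueField A)›
  haveI : Module.Finite (A ⧸ maximalIdeal A) (Ω[A ⧸ maximalIdeal A⁄k]) := inferInstance
  haveI : Module.Finite A (maximalIdeal A).Cotangent :=
    Module.Finite.of_surjective (maximalIdeal A).toCotangent (maximalIdeal A).toCotangent_surjective
  haveI : Module.Finite (A ⧸ maximalIdeal A) (maximalIdeal A).Cotangent :=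
    Module.Finite.of_restrictScalars_finite A (A ⧸ maximalIdeal A) _
  exact CF.finite_completedKaehler k (maximalIdeal A)

/-- the fibre of `Ω̂` at a prime `q` has dimension at least `dim A/q`. -/
theorem le_finrank_fiber :
    ringKrullDim (A ⧸ q) ≤
      ((Module.finrank q.ResidueField (q.ResidueField ⊗[A] Ωh) : ℕ) : WithBot ℕ∞) := by
  classical
  obtain ⟨n, w, hinj, -, hfin⟩ := NN.exists_finite_injective_field (k₀ := k) (A := A ⧸ q)
  letI algPB : Algebra (MvPowerSeries (Fin n) k) (A ⧸ q) := w.toRingHom.toAlgebra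
  letI algPL : Algebra (MvPowerSeries (Fin n) k) q.ResidueField :=
    ((algebraMap (A ⧸ q) q.ResidueField).comp w.toRingHom).toAlgebra
  haveI : IsScalarTower (MvPowerSeries (Fin n) k) (A ⧸ q) q.ResidueField :=
    IsScalarTower.of_algebraMap_eq fun _ => rfl
  haveI : IsScalarTower k (MvPowerSeries (Fin n) k) q.ResidueField :=
    IsScalarTower.of_algebraMap_eq (fun c => by
      show algebraMap k q.ResidueField c =
        algebraMap (A ⧸ q) q.ResidueField (w (algebraMap k _ c))
      rw [AlgHom.commutes, ← IsScalarTower.algebraMap_apply])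
  haveI : Module.Finite (MvPowerSeries (Fin n) k) (A ⧸ q) := hfin
  have hinj' : Function.Injective (algebraMap (MvPowerSeries (Fin n) k) (A ⧸ q)) := hinj
  haveI : FaithfulSMul (MvPowerSeries (Fin n) k) (A ⧸ q) :=
    (faithfulSMul_iff_algebraMap_injective _ _).mpr hinj'
  haveI : FaithfulSMul (MvPowerSeries (Fin n) k) q.ResidueField :=
    (faithfulSMul_iff_algebraMap_injective _ _).mpr
      ((IsFractionRing.injective (A ⧸ q) q.ResidueField).comp hinj')
  letI : Algebra (FractionRing (MvPowerSeries (Fin n) k)) q.ResidueField :=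
    FractionRing.liftAlgebra _ _
  haveI : IsScalarTower (MvPowerSeries (Fin n) k) (FractionRing (MvPowerSeries (Fin n) k))
      q.ResidueField := FractionRing.isScalarTower_liftAlgebra _ _
  haveI : IsScalarTower k (FractionRing (MvPowerSeries (Fin n) k)) q.ResidueField :=
    IsScalarTower.of_algebraMap_eq (fun c => by
      rw [IsScalarTower.algebraMap_apply k (MvPowerSeries (Fin n) k)
          (FractionRing (MvPowerSeries (Fin n) k)),
        ← IsScalarTower.algebraMap_apply (MvPowerSeries (Fin n) k)
          (FractionRing (MvPowerSeries (Fin n) k)) q.ResidueField,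
        ← IsScalarTower.algebraMap_apply k (MvPowerSeries (Fin n) k) q.ResidueField])
  have h := le_finrank k A (A ⧸ q) q.ResidueField n (FractionRing (MvPowerSeries (Fin n) k))
    Ideal.Quotient.mk_surjective
  haveI : Algebra.IsIntegral (MvPowerSeries (Fin n) k) (A ⧸ q) := Algebra.IsIntegral.of_finite _ _
  have hdim : ringKrullDim (A ⧸ q) = ringKrullDim (MvPowerSeries (Fin n) k) :=
    Groth.Agent.H2.DimFG.ringKrullDim_eq_of_integral_injective _ _ hinj'
  rw [hdim]
  refine (Groth.Agent.H6.PSCot.ringKrullDim_mvPowerSeries_le n).trans ?_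
  exact_mod_cast h

end quot

section final
variable (k A : Type u) [Field k] [CommRing A] [IsLocalRing A] [IsNoetherianRing A]
  [Algebra k A] [IsAdicComplete (maximalIdeal A) A] [Module.Finite k (ResidueField A)]

theorem main3847 (p q : Ideal A) [p.IsPrime] (hq : q ∈ minimalPrimes A) (hqp : q ≤ p) :
    ringKrullDim (A ⧸ q) ≤
      (Cardinal.toENat (Module.rank p.ResidueField
        (TensorProduct A p.ResidueField
          (AdicCompletion (IsLocalRing.maximalIdeal A) (KaehlerDifferential k A)))) :
        WithBot ℕ∞) := by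
  haveI : q.IsPrime := Ideal.minimalPrimes_isPrime hq
  haveI := finite_Ωh k A
  have h1 := le_finrank_fiber k A q
  have h2 := finrank_fiber_mono (M := AdicCompletion (maximalIdeal A) (Ω[A⁄k])) q p hqp
  rw [← Module.finrank_eq_rank, Cardinal.toENat_nat]
  refine h1.trans ?_
  exact_mod_cast h2

end final

end Groth.Agent.H5.CD
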