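import Mathlib
import Groth.Agent.Lib.Helper5.CD.C
import Groth.Agent.Lib.Helper5.CD.D6
import Groth.Agent.Lib.Helper5.CA.PSCont

set_option autoImplicit false
universe u

open TensorProduct IsLocalRing

namespace Groth.Agent.H5.CD

section E1
variable (k : Type u) [Field k] (m : ℕ) (A : Type u) [CommRing A] [IsLocalRing A]
  [IsNoetherianRing A] [Algebra k A] [IsAdicComplete (maximalIdeal A) A]
  [Module.Finite k (ResidueField A)]
  [Algebra (MvPowerSeries (Fin m) k) A] [IsScalarTower k (MvPowerSeries (Fin m) k) A]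
  [IsLocalHom (algebraMap (MvPowerSeries (Fin m) k) A)]

/-- the elements `1 ⊗ dT_j` of `A ⊗_P Ω_{P/k}`. -/
noncomputable def tgen (j : Fin m) : A ⊗[MvPowerSeries (Fin m) k] Ω[MvPowerSeries (Fin m) k⁄k] :=
  (1 : A) ⊗ₜ KaehlerDifferential.D k (MvPowerSeries (Fin m) k) (MvPowerSeries.X j)

theorem algebraMap_X_mem (j : Fin m) :
    algebraMap (MvPowerSeries (Fin m) k) A (MvPowerSeries.X j) ∈ maximalIdeal A := by
  rw [mem_maximalIdeal, mem_nonunits_iff]
  intro hu
  have h1 := isUnit_of_map_unit (algebraMap (MvPowerSeries (Fin m) k) A) _ hu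
  rw [MvPowerSeries.isUnit_iff_constantCoeff, MvPowerSeries.constantCoeff_X] at h1
  exact not_isUnit_zero h1

theorem gen_T :
    LinearMap.range (Fintype.linearCombination A (tgen k m A)) ⊔
      maximalIdeal A • (⊤ : Submodule A
        (A ⊗[MvPowerSeries (Fin m) k] Ω[MvPowerSeries (Fin m) k⁄k])) = ⊤ := by
  classical
  rw [eq_top_iff]
  have hspan : Submodule.span A (Set.range fun f : MvPowerSeries (Fin m) k =>
      (1 : A) ⊗ₜ[MvPowerSeries (Fin m) k] KaehlerDifferential.D k (MvPowerSeries (Fin m) k) f) =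
      ⊤ := by
    have h2 := Submodule.baseChange_span (R := MvPowerSeries (Fin m) k)
      (M := Ω[MvPowerSeries (Fin m) k⁄k]) A
      (Set.range (KaehlerDifferential.D k (MvPowerSeries (Fin m) k)))
    rw [KaehlerDifferential.span_range_derivation, Submodule.baseChange_top] at h2
    rw [h2]
    congr 1
    rw [← Set.range_comp]
    rfl
  refine le_trans (le_of_eq hspan.symm) (Submodule.span_le.mpr ?_)
  rintro _ ⟨f, rfl⟩
  have hf : f - MvPowerSeries.C (MvPowerSeries.constantCoeff f) ∈
      Ideal.span (Set.range (MvPowerSeries.X : Fin m → MvPowerSeries (Fin m) k)) := by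
    rw [← CA.ker_constantCoeff_eq_span, RingHom.mem_ker, map_sub, MvPowerSeries.constantCoeff_C,
      sub_self]
  obtain ⟨g, hg⟩ := (Submodule.mem_span_range_iff_exists_fun (MvPowerSeries (Fin m) k)).mp hf
  have hC : KaehlerDifferential.D k (MvPowerSeries (Fin m) k)
      (MvPowerSeries.C (MvPowerSeries.constantCoeff f)) = 0 := by
    have : (MvPowerSeries.C (MvPowerSeries.constantCoeff f) : MvPowerSeries (Fin m) k) =
        algebraMap k _ (MvPowerSeries.constantCoeff f) := by
      rw [MvPowerSeries.algebraMap_apply]; simp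
    rw [this, Derivation.map_algebraMap]
  have hd : KaehlerDifferential.D k (MvPowerSeries (Fin m) k) f =
      ∑ i, (g i • KaehlerDifferential.D k (MvPowerSeries (Fin m) k) (MvPowerSeries.X i) +
        (MvPowerSeries.X i : MvPowerSeries (Fin m) k) •
          KaehlerDifferential.D k (MvPowerSeries (Fin m) k) (g i)) := by
    have h1 : KaehlerDifferential.D k (MvPowerSeries (Fin m) k) f =
        KaehlerDifferential.D k (MvPowerSeries (Fin m) k)
          (f - MvPowerSeries.C (MvPowerSeries.constantCoeff f)) := by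
      rw [map_sub, hC, sub_zero]
    rw [h1, ← hg, map_sum (KaehlerDifferential.D k (MvPowerSeries (Fin m) k))]
    refine Finset.sum_congr rfl fun i _ => ?_
    rw [smul_eq_mul, Derivation.leibniz]
  show (1 : A) ⊗ₜ[MvPowerSeries (Fin m) k]
    KaehlerDifferential.D k (MvPowerSeries (Fin m) k) f ∈ _
  rw [hd, TensorProduct.tmul_sum]
  refine Submodule.sum_mem _ fun i _ => ?_
  rw [TensorProduct.tmul_add]
  refine Submodule.add_mem _ (Submodule.mem_sup_left ?_) (Submodule.mem_sup_right ?_)
  · refine ⟨Pi.single i (algebraMap _ A (g i)), ?_⟩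
    rw [Fintype.linearCombination_apply_single]
    show _ • ((1 : A) ⊗ₜ[MvPowerSeries (Fin m) k] _) = _
    rw [TensorProduct.tmul_smul, algebraMap_smul]
  · rw [TensorProduct.tmul_smul, TensorProduct.smul_tmul', Algebra.smul_def, mul_one]
    have : (algebraMap (MvPowerSeries (Fin m) k) A (MvPowerSeries.X i)) ⊗ₜ[MvPowerSeries (Fin m) k]
        KaehlerDifferential.D k (MvPowerSeries (Fin m) k) (g i) =
        (algebraMap (MvPowerSeries (Fin m) k) A (MvPowerSeries.X i)) •
          ((1 : A) ⊗ₜ[MvPowerSeries (Fin m) k]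
            KaehlerDifferential.D k (MvPowerSeries (Fin m) k) (g i)) := by
      rw [TensorProduct.smul_tmul', smul_eq_mul, mul_one]
    rw [this]
    exact Submodule.smul_mem_smul (algebraMap_X_mem k m A i) Submodule.mem_top

variable [Module.Finite (MvPowerSeries (Fin m) k) A]

local notation "Ωh" => AdicCompletion (maximalIdeal A) (Ω[A⁄k])

/-- the kernel of `Ω̂_{A/k} → (Ω_{A/P})^` is generated by the `d̂ T_j`. -/
theorem exists_sum_of_mem_ker (x : Ωh)
    (hx : AdicCompletion.map (maximalIdeal A)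
      (KaehlerDifferential.map k (MvPowerSeries (Fin m) k) A A) x = 0) :
    ∃ c : Fin m → A, x = ∑ j, c j • AdicCompletion.of (maximalIdeal A) (Ω[A⁄k])
      (KaehlerDifferential.D k A (algebraMap (MvPowerSeries (Fin m) k) A (MvPowerSeries.X j))) := by
  haveI : IsAdicComplete (maximalIdeal (MvPowerSeries (Fin m) k)) (MvPowerSeries (Fin m) k) :=
    Groth.Agent.H6.PSCot.isAdicComplete_maximalIdeal
  haveI : Module.Finite k (A ⧸ maximalIdeal A) := ‹Module.Finite k (ResidueField A)›
  haveI : Module.Finite (A ⧸ maximalIdeal A) (Ω[A ⧸ maximalIdeal A⁄k]) := inferInstance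
  haveI : Module.Finite (ResidueField A) (Ω[ResidueField A⁄k]) :=
    ‹Module.Finite (A ⧸ maximalIdeal A) (Ω[A ⧸ maximalIdeal A⁄k])›
  obtain ⟨-, -, hex⟩ := main5991 k (MvPowerSeries (Fin m) k) A
  have hx' : x ∈ LinearMap.ker (AdicCompletion.map (maximalIdeal A)
      (KaehlerDifferential.map k (MvPowerSeries (Fin m) k) A A)) := hx
  rw [← hex] at hx'
  obtain ⟨τ, rfl⟩ := hx'
  obtain ⟨c, rfl⟩ := CF.of_comp_linearCombination_surjective (maximalIdeal A) (tgen k m A)
    (gen_T k m A) τ
  refine ⟨c, ?_⟩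
  rw [LinearMap.comp_apply, AdicCompletion.map_of, Fintype.linearCombination_apply, map_sum,
    map_sum]
  refine Finset.sum_congr rfl fun j _ => ?_
  rw [map_smul, map_smul]
  congr 2
  show KaehlerDifferential.mapBaseChange k (MvPowerSeries (Fin m) k) A
    ((1 : A) ⊗ₜ KaehlerDifferential.D k (MvPowerSeries (Fin m) k) (MvPowerSeries.X j)) = _
  rw [KaehlerDifferential.mapBaseChange_tmul, one_smul, KaehlerDifferential.map_D]

/-- if `s` kills `Ω_{A/P}`, then `s • Ω̂_{A/k}` lies in the span of the `d̂ T_j`. -/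
theorem exists_smul_eq (s : A) (hs : ∀ ω : Ω[A⁄MvPowerSeries (Fin m) k], s • ω = 0) (x : Ωh) :
    ∃ c : Fin m → A, s • x = ∑ j, c j • AdicCompletion.of (maximalIdeal A) (Ω[A⁄k])
      (KaehlerDifferential.D k A (algebraMap (MvPowerSeries (Fin m) k) A (MvPowerSeries.X j))) := by
  apply exists_sum_of_mem_ker
  have hsm : AdicCompletion.map (maximalIdeal A)
      (KaehlerDifferential.map k (MvPowerSeries (Fin m) k) A A) (s • x) =
      s • AdicCompletion.map (maximalIdeal A)
        (KaehlerDifferential.map k (MvPowerSeries (Fin m) k) A A) x :=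
    ((AdicCompletion.map (maximalIdeal A)
      (KaehlerDifferential.map k (MvPowerSeries (Fin m) k) A A)).restrictScalars A).map_smul s x
  rw [hsm]
  apply AdicCompletion.ext
  intro n
  rw [AdicCompletion.val_smul_apply, AdicCompletion.val_zero_apply]
  obtain ⟨ω, hω⟩ := Submodule.mkQ_surjective _
    ((AdicCompletion.map (maximalIdeal A)
      (KaehlerDifferential.map k (MvPowerSeries (Fin m) k) A A) x).val n)
  rw [← hω, ← map_smul, hs, map_zero]

/-- the canonical surjection `Ω̂_{A/k} → Ω_{A/P}`. -/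
theorem exists_pi : ∃ π : Ωh →ₗ[A] Ω[A⁄MvPowerSeries (Fin m) k], Function.Surjective π ∧
    (∀ a, π (AdicCompletion.of (maximalIdeal A) (Ω[A⁄k]) (KaehlerDifferential.D k A a)) =
      KaehlerDifferential.D (MvPowerSeries (Fin m) k) A a) := by
  haveI : Module.Finite A (Ω[A⁄MvPowerSeries (Fin m) k]) := inferInstance
  haveI : IsAdicComplete (maximalIdeal A) (Ω[A⁄MvPowerSeries (Fin m) k]) :=
    FormalAlg.isAdicComplete_of_finite (maximalIdeal A) _
  refine ⟨(AdicCompletion.ofLinearEquiv (maximalIdeal A)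
    (Ω[A⁄MvPowerSeries (Fin m) k])).symm.toLinearMap ∘ₗ
      AdicCompletion.map (maximalIdeal A)
        (KaehlerDifferential.map k (MvPowerSeries (Fin m) k) A A), ?_, ?_⟩
  · intro y
    obtain ⟨x, hx⟩ := AdicCompletion.map_surjective (maximalIdeal A)
      (KaehlerDifferential.map_surjective k (MvPowerSeries (Fin m) k) A)
      (AdicCompletion.ofLinearEquiv (maximalIdeal A) (Ω[A⁄MvPowerSeries (Fin m) k]) y)
    refine ⟨x, ?_⟩
    show (AdicCompletion.ofLinearEquiv (maximalIdeal A) (Ω[A⁄MvPowerSeries (Fin m) k])).symm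
      (AdicCompletion.map (maximalIdeal A)
        (KaehlerDifferential.map k (MvPowerSeries (Fin m) k) A A) x) = y
    rw [hx, LinearEquiv.symm_apply_apply]
  · intro a
    show (AdicCompletion.ofLinearEquiv (maximalIdeal A) (Ω[A⁄MvPowerSeries (Fin m) k])).symm
      (AdicCompletion.map (maximalIdeal A)
        (KaehlerDifferential.map k (MvPowerSeries (Fin m) k) A A)
        (AdicCompletion.of (maximalIdeal A) (Ω[A⁄k]) (KaehlerDifferential.D k A a))) = _
    rw [AdicCompletion.map_of, KaehlerDifferential.map_D, LinearEquiv.symm_apply_eq]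
    rfl

end E1

end Groth.Agent.H5.CD
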