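import Mathlib
import Groth.Agent.Lib.Helper5.CD.E1

set_option autoImplicit false
universe u

open TensorProduct IsLocalRing

namespace Groth.Agent.H5.CD

section E2
variable (k : Type u) [Field k] (r : ℕ) (A : Type u) [CommRing A] [IsLocalRing A]
  [Algebra (MvPowerSeries (Fin r) k) A] [Algebra k A] [IsScalarTower k (MvPowerSeries (Fin r) k) A]
  [Module.Finite (MvPowerSeries (Fin r) k) A] [IsLocalHom (algebraMap (MvPowerSeries (Fin r) k) A)]

include r in
/-- the residue field of a finite local `k[[T]]`-algebra is finite over `k`. -/
theorem finite_residueField_of_finite : Module.Finite k (ResidueField A) := by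
  classical
  haveI : Module.Finite (MvPowerSeries (Fin r) k) (ResidueField A) :=
    Module.Finite.of_surjective
      (IsScalarTower.toAlgHom (MvPowerSeries (Fin r) k) A (ResidueField A)).toLinearMap
      IsLocalRing.residue_surjective
  obtain ⟨d, g, hg⟩ := Module.Finite.exists_fin (R := MvPowerSeries (Fin r) k) (M := ResidueField A)
  refine ⟨⟨Finset.univ.image g, ?_⟩⟩
  rw [eq_top_iff]
  intro x _
  have hx : x ∈ Submodule.span (MvPowerSeries (Fin r) k) (Set.range g) := hg ▸ Submodule.mem_top
  obtain ⟨f, rfl⟩ := (Submodule.mem_span_range_iff_exists_fun (MvPowerSeries (Fin r) k)).mp hx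
  refine Submodule.sum_mem _ fun i _ => ?_
  have hkey : f i • g i = (MvPowerSeries.constantCoeff (f i)) • g i := by
    have h0 : (f i - MvPowerSeries.C (MvPowerSeries.constantCoeff (f i))) • g i = 0 := by
      have hm : f i - MvPowerSeries.C (MvPowerSeries.constantCoeff (f i)) ∈
          maximalIdeal (MvPowerSeries (Fin r) k) := by
        rw [mem_maximalIdeal, mem_nonunits_iff, MvPowerSeries.isUnit_iff_constantCoeff, map_sub,
          MvPowerSeries.constantCoeff_C, sub_self]
        exact not_isUnit_zero
      have hm' : algebraMap (MvPowerSeries (Fin r) k) A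
          (f i - MvPowerSeries.C (MvPowerSeries.constantCoeff (f i))) ∈ maximalIdeal A := by
        rw [mem_maximalIdeal, mem_nonunits_iff]
        intro hu
        exact hm (isUnit_of_map_unit (algebraMap (MvPowerSeries (Fin r) k) A) _ hu)
      rw [Algebra.smul_def, IsScalarTower.algebraMap_apply (MvPowerSeries (Fin r) k) A
        (ResidueField A)]
      have : algebraMap A (ResidueField A) (algebraMap (MvPowerSeries (Fin r) k) A
          (f i - MvPowerSeries.C (MvPowerSeries.constantCoeff (f i)))) = 0 :=
        (IsLocalRing.residue_eq_zero_iff _).mpr hm'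
      rw [this, zero_mul]
    have hC : (MvPowerSeries.C (MvPowerSeries.constantCoeff (f i)) : MvPowerSeries (Fin r) k) =
        algebraMap k _ (MvPowerSeries.constantCoeff (f i)) := by
      rw [MvPowerSeries.algebraMap_apply]; simp
    rw [sub_smul, sub_eq_zero] at h0
    rw [h0, hC, algebraMap_smul]
  rw [hkey]
  refine Submodule.smul_mem _ _ (Submodule.subset_span ?_)
  rw [Finset.coe_image, Finset.coe_univ, Set.image_univ]
  exact ⟨i, rfl⟩

end E2

section main4557
variable (k : Type u) [Field k] (r : ℕ) (A : Type u) [CommRing A]
  [IsDomain A] [IsLocalRing A] [IsNoetherianRing A] [IsAdicComplete (maximalIdeal A) A]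
  [Algebra (MvPowerSeries (Fin r) k) A] [Algebra k A]
  [IsScalarTower k (MvPowerSeries (Fin r) k) A] [Module.Finite (MvPowerSeries (Fin r) k) A]

theorem main4557 (hinj : Function.Injective (algebraMap (MvPowerSeries (Fin r) k) A))
    (hsep : ∀ a : A, ∃ P : Polynomial (MvPowerSeries (Fin r) k), Polynomial.aeval a P = 0 ∧
      (P.map (algebraMap (MvPowerSeries (Fin r) k)
        (FractionRing (MvPowerSeries (Fin r) k)))).Separable) :
    Module.finrank (FractionRing A)
      (FractionRing A ⊗[A] AdicCompletion (maximalIdeal A) (Ω[A⁄k])) = r := by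
  classical
  haveI : FaithfulSMul (MvPowerSeries (Fin r) k) A :=
    (faithfulSMul_iff_algebraMap_injective _ _).mpr hinj
  haveI : Algebra.IsIntegral (MvPowerSeries (Fin r) k) A := Algebra.IsIntegral.of_finite _ _
  haveI : IsLocalHom (algebraMap (MvPowerSeries (Fin r) k) A) := inferInstance
  haveI : Module.Finite k (ResidueField A) := finite_residueField_of_finite k r A
  haveI : FaithfulSMul (MvPowerSeries (Fin r) k) (FractionRing A) := by
    rw [faithfulSMul_iff_algebraMap_injective,
      IsScalarTower.algebraMap_eq (MvPowerSeries (Fin r) k) A (FractionRing A)]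
    exact (IsFractionRing.injective A (FractionRing A)).comp hinj
  letI : Algebra (FractionRing (MvPowerSeries (Fin r) k)) (FractionRing A) :=
    FractionRing.liftAlgebra _ _
  haveI : IsScalarTower (MvPowerSeries (Fin r) k) (FractionRing (MvPowerSeries (Fin r) k))
      (FractionRing A) := FractionRing.isScalarTower_liftAlgebra _ _
  haveI : IsScalarTower k (FractionRing (MvPowerSeries (Fin r) k)) (FractionRing A) :=
    IsScalarTower.of_algebraMap_eq (fun c => by
      rw [IsScalarTower.algebraMap_apply k (MvPowerSeries (Fin r) k)
          (FractionRing (MvPowerSeries (Fin r) k)),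
        ← IsScalarTower.algebraMap_apply (MvPowerSeries (Fin r) k)
          (FractionRing (MvPowerSeries (Fin r) k)) (FractionRing A),
        ← IsScalarTower.algebraMap_apply k (MvPowerSeries (Fin r) k) (FractionRing A)])
  apply le_antisymm
  · -- the upper bound
    obtain ⟨d, b, hb⟩ := Module.Finite.exists_fin (R := MvPowerSeries (Fin r) k) (M := A)
    choose Q hQ0 hQsep using fun i => hsep (b i)
    have hQne : ∀ i, Polynomial.aeval (b i) (Polynomial.derivative (Q i)) ≠ 0 := by
      intro i h0
      obtain ⟨u, v, huv⟩ := hQsep i
      have h1 := congrArg (Polynomial.aeval (algebraMap A (FractionRing A) (b i))) huv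
      have e1 : Polynomial.aeval (algebraMap A (FractionRing A) (b i))
          ((Q i).map (algebraMap (MvPowerSeries (Fin r) k)
            (FractionRing (MvPowerSeries (Fin r) k)))) = 0 := by
        rw [Polynomial.aeval_map_algebraMap, Polynomial.aeval_algebraMap_apply, hQ0, map_zero]
      have e2 : Polynomial.aeval (algebraMap A (FractionRing A) (b i))
          (Polynomial.derivative ((Q i).map (algebraMap (MvPowerSeries (Fin r) k)
            (FractionRing (MvPowerSeries (Fin r) k))))) = 0 := by
        rw [Polynomial.derivative_map, Polynomial.aeval_map_algebraMap,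
          Polynomial.aeval_algebraMap_apply, h0, map_zero]
      rw [map_add, map_mul, map_mul, e1, e2, mul_zero, mul_zero, add_zero, map_one] at h1
      exact zero_ne_one h1
    set s : A := ∏ i, Polynomial.aeval (b i) (Polynomial.derivative (Q i)) with hsdef
    have hs0 : s ≠ 0 := Finset.prod_ne_zero_iff.mpr fun i _ => hQne i
    have hsb : ∀ i, s • KaehlerDifferential.D (MvPowerSeries (Fin r) k) A (b i) = 0 := by
      intro i
      have h1 : Polynomial.aeval (b i) (Polynomial.derivative (Q i)) •
          KaehlerDifferential.D (MvPowerSeries (Fin r) k) A (b i) = 0 := by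
        rw [← Derivation.map_aeval, hQ0 i, map_zero]
      rw [hsdef, ← Finset.mul_prod_erase Finset.univ _ (Finset.mem_univ i), mul_comm, mul_smul,
        h1, smul_zero]
    have hs : ∀ ω : Ω[A⁄MvPowerSeries (Fin r) k], s • ω = 0 := by
      intro ω
      have hω : ω ∈ Submodule.span A
          (Set.range (KaehlerDifferential.D (MvPowerSeries (Fin r) k) A)) := by
        rw [KaehlerDifferential.span_range_derivation]; trivial
      induction hω using Submodule.span_induction with
      | mem ω hω =>
        obtain ⟨a, rfl⟩ := hω
        have ha : a ∈ Submodule.span (MvPowerSeries (Fin r) k) (Set.range b) :=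
          hb ▸ Submodule.mem_top
        obtain ⟨f, rfl⟩ :=
          (Submodule.mem_span_range_iff_exists_fun (MvPowerSeries (Fin r) k)).mp ha
        rw [map_sum, Finset.smul_sum]
        refine Finset.sum_eq_zero fun i _ => ?_
        rw [Derivation.map_smul, smul_comm, hsb, smul_zero]
      | zero => rw [smul_zero]
      | add x y _ _ hx hy => rw [smul_add, hx, hy, add_zero]
      | smul a x _ hx => rw [smul_comm, hx, smul_zero]
    have hspan : Submodule.span (FractionRing A) (Set.range fun j : Fin r =>
        yel k A (FractionRing A)
          (algebraMap (MvPowerSeries (Fin r) k) A (MvPowerSeries.X j))) = ⊤ := by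
      rw [eq_top_iff]
      rintro z -
      induction z using TensorProduct.induction_on with
      | zero => exact Submodule.zero_mem _
      | add x y hx hy => exact Submodule.add_mem _ hx hy
      | tmul e x =>
        obtain ⟨c, hc⟩ := exists_smul_eq k r A s hs x
        have hsE : algebraMap A (FractionRing A) s ≠ 0 := by
          intro h0
          exact hs0 ((IsFractionRing.injective A (FractionRing A)) (h0.trans (map_zero _).symm))
        have h1 : e ⊗ₜ[A] x = (e * (algebraMap A (FractionRing A) s)⁻¹) •
            ((1 : FractionRing A) ⊗ₜ[A] (s • x)) := by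
          rw [TensorProduct.tmul_smul, ← algebraMap_smul (FractionRing A) s, smul_smul, mul_assoc,
            inv_mul_cancel₀ hsE, mul_one, TensorProduct.smul_tmul', smul_eq_mul, mul_one]
        rw [h1, hc, TensorProduct.tmul_sum]
        refine Submodule.smul_mem _ _ (Submodule.sum_mem _ fun j _ => ?_)
        rw [TensorProduct.tmul_smul, ← algebraMap_smul (FractionRing A)]
        exact Submodule.smul_mem _ _ (Submodule.subset_span ⟨j, rfl⟩)
    have hle := finrank_range_le_card (R := FractionRing A) (fun j : Fin r =>
      yel k A (FractionRing A) (algebraMap (MvPowerSeries (Fin r) k) A (MvPowerSeries.X j)))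
    unfold Set.finrank at hle
    rw [hspan, finrank_top] at hle
    simpa using hle
  · exact le_finrank k A A (FractionRing A) r (FractionRing (MvPowerSeries (Fin r) k))
      Function.surjective_id

end main4557

end Groth.Agent.H5.CD
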