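import Mathlib

set_option autoImplicit false
universe u

namespace Groth.Agent.H5.CD

open Ideal in
/-- Elements of `I` avoiding a prime `p ⊉ I` and generating an ideal of height `≥ r`. -/
theorem exists_sop_avoiding {R : Type*} [CommRing R] [IsNoetherianRing R] (I p : Ideal R)
    [p.IsPrime] (hIp : ¬ I ≤ p) (r : ℕ) (hr : (r : ℕ∞) ≤ I.height) :
    ∃ x : Fin r → R, (∀ i, x i ∈ I ∧ x i ∉ p) ∧
      (r : ℕ∞) ≤ (Ideal.span (Set.range x)).height := by
  classical
  induction r with
  | zero => exact ⟨Fin.elim0, fun i => i.elim0, by simp⟩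
  | succ r ih =>
    obtain ⟨x, hx, h₃⟩ := ih ((WithTop.coe_le_coe.mpr r.le_succ).trans hr)
    set J := Ideal.span (Set.range x) with hJ
    have h₁ : J ≤ I := by
      rw [hJ, Ideal.span_le]
      rintro _ ⟨i, rfl⟩
      exact (hx i).1
    let S := { K | K ∈ J.minimalPrimes ∧ Ideal.height K = r }
    have hS : Set.Finite S := Set.Finite.subset J.finite_minimalPrimes_of_isNoetherianRing
      (fun _ h => h.1)
    have : ¬(I : Set R) ⊆ ⋃ K ∈ insert p hS.toFinset, (K : Set R) := by
      refine (Ideal.subset_union_prime ⊥ ⊥ ?_).not.mpr ?_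
      · rintro K hK - -
        rw [Finset.mem_insert, Set.Finite.mem_toFinset] at hK
        rcases hK with rfl | hK
        · infer_instance
        · exact hK.1.isPrime
      · push Not
        intro K hK e
        rw [Finset.mem_insert, Set.Finite.mem_toFinset] at hK
        rcases hK with rfl | hK
        · exact hIp e
        · have := hr.trans (Ideal.height_mono e)
          rw [hK.2, ← not_lt] at this
          norm_cast at this
          exact this r.lt_succ_self
    simp_rw [Set.not_subset, Set.mem_iUnion, not_exists, Finset.mem_insert,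
      Set.Finite.mem_toFinset] at this
    obtain ⟨y, hy₁, hy₂⟩ := this
    have hyp : y ∉ p := fun h => hy₂ p (Or.inl rfl) h
    refine ⟨Fin.cons y x, ?_, ?_⟩
    · intro i
      refine Fin.cases ?_ (fun j => ?_) i
      · rw [Fin.cons_zero]; exact ⟨hy₁, hyp⟩
      · rw [Fin.cons_succ]; exact hx j
    · rw [Fin.range_cons, Ideal.span_insert, Ideal.height_eq_inf_minimalPrimes]
      refine le_iInf₂ (fun (q : Ideal R) hq ↦ ?_)
      have := hq.isPrime
      by_cases h : q.height = ⊤
      · exact le_of_le_of_eq le_top h.symm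
      have : q.FiniteHeight := ⟨Or.inr h⟩
      have hJq : J ≤ q := le_sup_right.trans hq.le
      have := Ideal.height_mono hJq
      suffices h : (r : ℕ∞) ≠ q.height by
        push_cast
        exact Order.add_one_le_of_lt (lt_of_le_of_ne (h₃.trans this) h)
      intro e
      apply hy₂ q
      · exact Or.inr ⟨Ideal.mem_minimalPrimes_of_height_le hJq (e.symm.trans_le h₃), e.symm⟩
      · exact hq.le <| Ideal.mem_sup_left <| Ideal.mem_span_singleton_self y

end Groth.Agent.H5.CD
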