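import Mathlib
import Groth.Agent.Lib.Helper5.CD.E1
import Groth.Agent.Lib.Helper5.CD.E3
import Groth.Agent.Lib.Helper5.CA.NN3
import Groth.Agent.Lib.Helper5.CD.B

set_option autoImplicit false
universe u

open TensorProduct IsLocalRing

namespace Groth.Agent.H5.CD

section E4a
variable (k A : Type u) [Field k] [CommRing A] [IsLocalRing A] [IsNoetherianRing A]
  [Algebra k A] [IsAdicComplete (maximalIdeal A) A] [Module.Finite k (ResidueField A)]

open MvPowerSeries in
/-- a family of elements of the maximal ideal with Artinian quotient defines a finite local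
homomorphism from a power series ring. -/
theorem exists_algHom_of_artinian {m : ℕ} (t : Fin m → A) (ht : ∀ j, t j ∈ maximalIdeal A)
    (hart : IsArtinianRing (A ⧸ Ideal.span (Set.range t))) :
    ∃ w : MvPowerSeries (Fin m) k →ₐ[k] A, (∀ j, w (X j) = t j) ∧
      IsLocalHom w.toRingHom ∧ w.toRingHom.Finite := by
  obtain ⟨w, hwX⟩ := Groth.Agent.H5.CA.exists_algHom_mvPowerSeries' k A (maximalIdeal A) t ht
  have hwC : ∀ c, w.toRingHom (C c) = algebraMap k A c := fun c => by
    have : (C c : MvPowerSeries (Fin m) k) = algebraMap k _ c := by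
      rw [MvPowerSeries.algebraMap_apply]; simp
    show w (C c) = _
    rw [this, AlgHom.commutes]
  have hfin0 : ((residue A).comp (algebraMap k A)).Finite := by
    have heq : (IsLocalRing.ResidueField.algebra A : Algebra k (ResidueField A)) =
        ((residue A).comp (algebraMap k A)).toAlgebra :=
      Algebra.algebra_ext _ _ (fun _ => rfl)
    have h' : @Module.Finite k (ResidueField A) _ _
        (IsLocalRing.ResidueField.algebra A : Algebra k (ResidueField A)).toModule :=
      inferInstance
    rw [heq] at h'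
    exact h'
  have hart' : IsArtinianRing (A ⧸ ((⊥ : Ideal k).map (algebraMap k A) ⊔
      Ideal.span (Set.range t))) := by
    rw [Ideal.map_bot, bot_sup_eq]; exact hart
  have hfin : w.toRingHom.Finite :=
    NN.finite_of_sop (⊥ : Ideal k) (algebraMap k A) hfin0 m t ht (by simp) hart' w.toRingHom
      hwC hwX
  refine ⟨w, hwX, ?_, hfin⟩
  refine ⟨fun g hg => ?_⟩
  rw [MvPowerSeries.isUnit_iff_constantCoeff, isUnit_iff_ne_zero]
  intro h0
  have hg0 : g ∈ Ideal.span (Set.range (X : Fin m → MvPowerSeries (Fin m) k)) := by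
    rw [← Groth.Agent.H5.CA.ker_constantCoeff_eq_span, RingHom.mem_ker]; exact h0
  have hwg : w g ∈ (Ideal.span (Set.range (X : Fin m → MvPowerSeries (Fin m) k))).map
      w.toRingHom := Ideal.mem_map_of_mem _ hg0
  rw [Ideal.map_span, ← Set.range_comp] at hwg
  have hle : Ideal.span (Set.range (w.toRingHom ∘ X)) ≤ maximalIdeal A := by
    rw [Ideal.span_le]
    rintro _ ⟨i, rfl⟩
    show w (X i) ∈ _
    rw [hwX]; exact ht i
  exact (mem_maximalIdeal _).mp (hle hwg) hg

end E4a

section E4b
variable (k : Type u) [Field k] (m : ℕ) (A : Type u) [CommRing A] [IsLocalRing A]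
  [IsNoetherianRing A] [Algebra k A] [IsAdicComplete (maximalIdeal A) A]
  [Module.Finite k (ResidueField A)]
  [Algebra (MvPowerSeries (Fin m) k) A] [IsScalarTower k (MvPowerSeries (Fin m) k) A]
  [IsLocalHom (algebraMap (MvPowerSeries (Fin m) k) A)]
  [Module.Finite (MvPowerSeries (Fin m) k) A]
  (p : Ideal A) [p.IsPrime]

local notation "Ωh" => AdicCompletion (maximalIdeal A) (Ω[A⁄k])

omit [IsLocalRing A] [IsNoetherianRing A] [Algebra k A] [IsAdicComplete (maximalIdeal A) A]
  [Module.Finite k (ResidueField A)] [IsScalarTower k (MvPowerSeries (Fin m) k) A]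
  [IsLocalHom (algebraMap (MvPowerSeries (Fin m) k) A)] in
/-- an element outside `p` killing `Ω_{A/P}` when `A` is unramified at `p`. -/
theorem exists_notMem_smul_eq_zero
    (hunr : Algebra.IsUnramifiedAt (MvPowerSeries (Fin m) k) p) :
    ∃ s : A, s ∉ p ∧ ∀ ω : Ω[A⁄MvPowerSeries (Fin m) k], s • ω = 0 := by
  classical
  haveI : Algebra.FormallyUnramified (MvPowerSeries (Fin m) k) (Localization.AtPrime p) := hunr
  haveI : Subsingleton Ω[Localization.AtPrime p⁄MvPowerSeries (Fin m) k] := inferInstance
  have h1 : ∀ ω : Ω[A⁄MvPowerSeries (Fin m) k], ∃ s : p.primeCompl, s • ω = 0 := by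
    intro ω
    obtain ⟨c, hc⟩ := IsLocalizedModule.exists_of_eq (S := p.primeCompl)
      (f := KaehlerDifferential.map (MvPowerSeries (Fin m) k) (MvPowerSeries (Fin m) k) A
        (Localization.AtPrime p)) (x₁ := ω) (x₂ := 0) (Subsingleton.elim _ _)
    exact ⟨c, by rw [hc, smul_zero]⟩
  haveI : Module.Finite A Ω[A⁄MvPowerSeries (Fin m) k] := inferInstance
  obtain ⟨d, g, hg⟩ := Module.Finite.exists_fin (R := A) (M := Ω[A⁄MvPowerSeries (Fin m) k])
  choose σ hσ using fun i => h1 (g i)
  refine ⟨((∏ i, σ i : p.primeCompl) : A), (∏ i, σ i : p.primeCompl).2, ?_⟩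
  intro ω
  have hω : ω ∈ Submodule.span A (Set.range g) := hg ▸ Submodule.mem_top
  induction hω using Submodule.span_induction with
  | mem ω hω =>
    obtain ⟨i, rfl⟩ := hω
    rw [← Finset.mul_prod_erase Finset.univ σ (Finset.mem_univ i), mul_comm, Submonoid.coe_mul,
      mul_smul]
    have := hσ i
    rw [Submonoid.smul_def] at this
    rw [this, smul_zero]
  | zero => rw [smul_zero]
  | add x y _ _ hx hy => rw [smul_add, hx, hy, add_zero]
  | smul a x _ hx => rw [smul_comm, hx, smul_zero]

/-- **(⇐)**: if `A` is finite over `k[[T_1..T_m]]` and unramified at `p`, the `d̂ T_j` generate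
`Ω̂_p`. -/
theorem span_of_unramified (hunr : Algebra.IsUnramifiedAt (MvPowerSeries (Fin m) k) p) :
    Submodule.span (Localization.AtPrime p) (Set.range fun j : Fin m =>
      LocalizedModule.mkLinearMap p.primeCompl Ωh
        (AdicCompletion.of (maximalIdeal A) (Ω[A⁄k]) (KaehlerDifferential.D k A
          (algebraMap (MvPowerSeries (Fin m) k) A (MvPowerSeries.X j))))) = ⊤ := by
  obtain ⟨s, hsp, hs⟩ := exists_notMem_smul_eq_zero k m A p hunr
  rw [eq_top_iff]
  rintro z -
  induction z using LocalizedModule.induction_on with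
  | h x σ =>
    obtain ⟨c, hc⟩ := exists_smul_eq k m A s hs x
    have h1 : LocalizedModule.mk x σ =
        (Localization.mk (1 : A) ((⟨s, hsp⟩ : p.primeCompl) * σ) : Localization.AtPrime p) •
          LocalizedModule.mkLinearMap p.primeCompl Ωh (s • x) := by
      rw [LocalizedModule.mkLinearMap_apply, LocalizedModule.mk_smul_mk, one_smul, mul_one]
      exact (LocalizedModule.mk_cancel_common_left (⟨s, hsp⟩ : p.primeCompl) σ x).symm
    rw [h1, hc, map_sum]
    refine Submodule.smul_mem _ _ (Submodule.sum_mem _ fun j _ => ?_)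
    rw [map_smul, ← algebraMap_smul (Localization.AtPrime p)]
    exact Submodule.smul_mem _ _ (Submodule.subset_span ⟨j, rfl⟩)

end E4b

section E4c
variable {A : Type u} [CommRing A] (p : Ideal A) [p.IsPrime] {N : Type u} [AddCommGroup N]
  [Module A N]

/-- clearing denominators in a localized span. -/
theorem exists_smul_mem_span {ι : Type*} (z : ι → N)
    (hz : Submodule.span (Localization.AtPrime p) (Set.range fun i =>
      LocalizedModule.mkLinearMap p.primeCompl N (z i)) = ⊤) (y : N) :
    ∃ s : A, s ∉ p ∧ s • y ∈ Submodule.span A (Set.range z) := by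
  have h1 : LocalizedModule.mkLinearMap p.primeCompl N y ∈
      (Submodule.span A (Set.range z)).localized' (Localization.AtPrime p) p.primeCompl
        (LocalizedModule.mkLinearMap p.primeCompl N) := by
    rw [Submodule.localized'_span, ← Set.range_comp]
    have : (⇑(LocalizedModule.mkLinearMap p.primeCompl N) ∘ z) =
        fun i => LocalizedModule.mkLinearMap p.primeCompl N (z i) := rfl
    rw [this, hz]
    trivial
  obtain ⟨v, hv, s, hvs⟩ := (Submodule.mem_localized' _ _ _ _ _).mp h1
  rw [IsLocalizedModule.mk'_eq_iff] at hvs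
  have h2 : LocalizedModule.mkLinearMap p.primeCompl N v =
      LocalizedModule.mkLinearMap p.primeCompl N ((s : A) • y) := by
    rw [hvs, map_smul]; rfl
  obtain ⟨c, hc⟩ := IsLocalizedModule.exists_of_eq (S := p.primeCompl) h2
  refine ⟨(c : A) * (s : A), (c * s).2, ?_⟩
  rw [mul_smul]
  have hc' : (c : A) • ((s : A) • y) = (c : A) • v := hc.symm
  rw [hc']
  exact Submodule.smul_mem _ _ hv

/-- a generating family of the localization bounds the fibre rank. -/
theorem finrank_fiber_le [Module.Finite A N] {M : ℕ}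
    (s : Fin M → LocalizedModule p.primeCompl N)
    (hs : Submodule.span (Localization.AtPrime p) (Set.range s) = ⊤) :
    Module.finrank p.ResidueField (p.ResidueField ⊗[A] N) ≤ M := by
  let e : p.ResidueField ⊗[A] N ≃ₗ[p.ResidueField]
      p.ResidueField ⊗[Localization.AtPrime p] LocalizedModule p.primeCompl N :=
    (TensorProduct.AlgebraTensorModule.cancelBaseChange A (Localization.AtPrime p)
      p.ResidueField p.ResidueField N).symm ≪≫ₗ
      ((LocalizedModule.equivTensorProduct p.primeCompl N).symm.baseChange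
        (Localization.AtPrime p) p.ResidueField _ _)
  rw [e.finrank_eq]
  have h2 := Submodule.baseChange_span (R := Localization.AtPrime p)
    (M := LocalizedModule p.primeCompl N) p.ResidueField (Set.range s)
  rw [hs, Submodule.baseChange_top] at h2
  have hle := finrank_range_le_card (R := p.ResidueField) (fun i : Fin M =>
    TensorProduct.mk (Localization.AtPrime p) p.ResidueField (LocalizedModule p.primeCompl N) 1
      (s i))
  have hrange : Set.range (fun i : Fin M =>
      TensorProduct.mk (Localization.AtPrime p) p.ResidueField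
        (LocalizedModule p.primeCompl N) 1 (s i)) =
      TensorProduct.mk (Localization.AtPrime p) p.ResidueField
        (LocalizedModule p.primeCompl N) 1 '' Set.range s := by
    rw [← Set.range_comp]; rfl
  rw [hrange] at hle
  unfold Set.finrank at hle
  rw [← h2, finrank_top] at hle
  simpa using hle

end E4c

section E4d
variable (k A : Type u) [Field k] [CommRing A] [IsLocalRing A] [IsNoetherianRing A]
  [Algebra k A] [IsAdicComplete (maximalIdeal A) A] [Module.Finite k (ResidueField A)]
  (p : Ideal A) [p.IsPrime]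

local notation "Ωh" => AdicCompletion (maximalIdeal A) (Ω[A⁄k])

/-- **(⇒)**. -/
theorem exists_algebra_of_span (hp : p ≠ maximalIdeal A)
    (hq : ∃ q ∈ minimalPrimes A, q ≤ p ∧ ringKrullDim (A ⧸ q) = ringKrullDim A) (m : ℕ)
    (hgen : ∃ s : Fin m → LocalizedModule p.primeCompl Ωh,
      Submodule.span (Localization.AtPrime p) (Set.range s) = ⊤) :
    ∃ (_ : Algebra (MvPowerSeries (Fin m) k) A) (_ : IsScalarTower k (MvPowerSeries (Fin m) k) A),
      IsLocalHom (algebraMap (MvPowerSeries (Fin m) k) A) ∧
        Module.Finite (MvPowerSeries (Fin m) k) A ∧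
          Algebra.IsUnramifiedAt (MvPowerSeries (Fin m) k) p := by
  classical
  -- the minimal number of generators
  have hex : ∃ M, ∃ s : Fin M → LocalizedModule p.primeCompl Ωh,
      Submodule.span (Localization.AtPrime p) (Set.range s) = ⊤ := ⟨m, hgen⟩
  obtain ⟨s0, hs0⟩ := Nat.find_spec hex
  have hM'm : Nat.find hex ≤ m := Nat.find_min' hex hgen
  have hmin : ∀ S : Finset (LocalizedModule p.primeCompl Ωh),
      Submodule.span (Localization.AtPrime p) (S : Set (LocalizedModule p.primeCompl Ωh)) = ⊤ →
        Nat.find hex ≤ S.card := by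
    intro S hS
    apply Nat.find_min' hex
    refine ⟨fun i => ((S.equivFin.symm i : S) : LocalizedModule p.primeCompl Ωh), ?_⟩
    have : Set.range (fun i => ((S.equivFin.symm i : S) : LocalizedModule p.primeCompl Ωh)) =
        (S : Set (LocalizedModule p.primeCompl Ωh)) := by
      ext v
      constructor
      · rintro ⟨i, rfl⟩
        exact (S.equivFin.symm i).2
      · intro hv
        exact ⟨S.equivFin ⟨v, hv⟩, by simp⟩
    rw [this]
    exact hS
  -- the dimension
  obtain ⟨q, hqmin, hqp, hqdim⟩ := hq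
  have h3847 := main3847 k A p q hqmin hqp
  haveI := finite_Ωh k A
  have hfr := finrank_fiber_le p s0 hs0
  have hmtop : (maximalIdeal A).height ≠ ⊤ :=
    Ideal.height_ne_top (Ideal.IsPrime.ne_top inferInstance)
  have hn : (((maximalIdeal A).height.toNat : ℕ) : ℕ∞) = (maximalIdeal A).height :=
    ENat.coe_toNat hmtop
  have hnM : (maximalIdeal A).height.toNat ≤ Nat.find hex := by
    have h1 : ((((maximalIdeal A).height.toNat : ℕ) : ℕ∞) : WithBot ℕ∞) = ringKrullDim A := by
      rw [hn]; exact IsLocalRing.maximalIdeal_height_eq_ringKrullDim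
    rw [hqdim, ← h1, ← Module.finrank_eq_rank, Cardinal.toENat_nat] at h3847
    have h2 : (maximalIdeal A).height.toNat ≤
        Module.finrank p.ResidueField (p.ResidueField ⊗[A] Ωh) := by exact_mod_cast h3847
    exact h2.trans hfr
  -- elements avoiding `p`
  have hpm : p ≤ maximalIdeal A := le_maximalIdeal (Ideal.IsPrime.ne_top inferInstance)
  have hnot : ¬ maximalIdeal A ≤ p := fun h => hp (le_antisymm hpm h)
  obtain ⟨x₀, hx₀m, hx₀p⟩ := SetLike.not_le_iff_exists.mp hnot
  obtain ⟨x, hx, hxht⟩ := exists_sop_avoiding (maximalIdeal A) p hnot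
    (maximalIdeal A).height.toNat (le_of_eq hn)
  let x' : Fin (Nat.find hex) → A := fun i =>
    if h : (i : ℕ) < (maximalIdeal A).height.toNat then x ⟨i, h⟩ else x₀
  have hx' : ∀ i, x' i ∈ maximalIdeal A ∧ x' i ∉ p := by
    intro i
    by_cases h : (i : ℕ) < (maximalIdeal A).height.toNat
    · simp only [x', dif_pos h]; exact hx _
    · simp only [x', dif_neg h]; exact ⟨hx₀m, hx₀p⟩
  obtain ⟨u, hu⟩ := CD.main k A p (Nat.find hex) ⟨s0, hs0⟩ hmin x' hx'
  let t : Fin m → A := fun j =>
    if h : (j : ℕ) < Nat.find hex then (u ⟨j, h⟩ : A) * x' ⟨j, h⟩ else 0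
  have ht : ∀ j, t j ∈ maximalIdeal A := by
    intro j
    by_cases h : (j : ℕ) < Nat.find hex
    · simp only [t, dif_pos h]; exact Ideal.mul_mem_left _ _ (hx' _).1
    · simp only [t, dif_neg h]; exact Ideal.zero_mem _
  have hle : Ideal.span (Set.range x) ≤ Ideal.span (Set.range t) := by
    rw [Ideal.span_le]
    rintro _ ⟨i, rfl⟩
    have hiM : (i : ℕ) < Nat.find hex := lt_of_lt_of_le i.2 hnM
    have him : (i : ℕ) < m := lt_of_lt_of_le hiM hM'm
    have h1 : t ⟨i, him⟩ = (u ⟨i, hiM⟩ : A) * x i := by
      simp only [t, dif_pos hiM, x', dif_pos i.2]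
    have h2 : x i = ((u ⟨i, hiM⟩)⁻¹ : Aˣ) * t ⟨i, him⟩ := by
      rw [h1, ← mul_assoc, Units.inv_mul, one_mul]
    rw [h2]
    exact Ideal.mul_mem_left _ _ (Ideal.subset_span ⟨_, rfl⟩)
  have hart : IsArtinianRing (A ⧸ Ideal.span (Set.range t)) := by
    have htm : Ideal.span (Set.range t) ≤ maximalIdeal A :=
      Ideal.span_le.mpr (by rintro _ ⟨j, rfl⟩; exact ht j)
    have hht : (maximalIdeal A).height ≤ (Ideal.span (Set.range t)).height := by
      rw [← hn]; exact hxht.trans (Ideal.height_mono hle)
    have hmem : maximalIdeal A ∈ (Ideal.span (Set.range t)).minimalPrimes :=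
      Ideal.mem_minimalPrimes_of_height_le htm hht
    exact IsLocalRing.quotient_artinian_of_mem_minimalPrimes_of_isLocalRing _ hmem
  obtain ⟨w, hwX, hwloc, hwfin⟩ := exists_algHom_of_artinian k A t ht hart
  letI algP : Algebra (MvPowerSeries (Fin m) k) A := w.toRingHom.toAlgebra
  haveI tower : IsScalarTower k (MvPowerSeries (Fin m) k) A :=
    IsScalarTower.of_algebraMap_eq (fun c => (w.commutes c).symm)
  refine ⟨algP, tower, hwloc, hwfin, ?_⟩
  haveI : IsLocalHom (algebraMap (MvPowerSeries (Fin m) k) A) := hwloc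
  haveI : Module.Finite (MvPowerSeries (Fin m) k) A := hwfin
  obtain ⟨π, hπs, hπ⟩ := exists_pi k m A
  have hπz : ∀ v ∈ Submodule.span A (Set.range fun i : Fin (Nat.find hex) =>
      AdicCompletion.of (maximalIdeal A) (Ω[A⁄k])
        (KaehlerDifferential.D k A ((u i : A) * x' i))), π v = 0 := by
    intro v hv
    induction hv using Submodule.span_induction with
    | mem v hv =>
      obtain ⟨i, rfl⟩ := hv
      rw [hπ]
      have him : (i : ℕ) < m := lt_of_lt_of_le i.2 hM'm
      have h1 : (u i : A) * x' i =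
          algebraMap (MvPowerSeries (Fin m) k) A (MvPowerSeries.X ⟨i, him⟩) := by
        show _ = w (MvPowerSeries.X ⟨i, him⟩)
        rw [hwX]
        simp only [t, dif_pos i.2]
      rw [h1, Derivation.map_algebraMap]
    | zero => rw [map_zero]
    | add a b _ _ ha hb => rw [map_add, ha, hb, add_zero]
    | smul c a _ ha => rw [map_smul, ha, smul_zero]
  have hkill : ∀ ω : Ω[A⁄MvPowerSeries (Fin m) k], ∃ s : p.primeCompl, s • ω = 0 := by
    intro ω
    obtain ⟨y, rfl⟩ := hπs ω
    obtain ⟨s, hsp, hs⟩ := exists_smul_mem_span p (fun i : Fin (Nat.find hex) =>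
      AdicCompletion.of (maximalIdeal A) (Ω[A⁄k])
        (KaehlerDifferential.D k A ((u i : A) * x' i))) hu y
    refine ⟨⟨s, hsp⟩, ?_⟩
    show s • π y = 0
    rw [← map_smul]
    exact hπz _ hs
  have hsub : Subsingleton Ω[Localization.AtPrime p⁄MvPowerSeries (Fin m) k] := by
    refine subsingleton_of_forall_eq 0 fun a => ?_
    obtain ⟨⟨ω, s⟩, hω⟩ := IsLocalizedModule.surj p.primeCompl
      (KaehlerDifferential.map (MvPowerSeries (Fin m) k) (MvPowerSeries (Fin m) k) A
        (Localization.AtPrime p)) a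
    have h0 : KaehlerDifferential.map (MvPowerSeries (Fin m) k) (MvPowerSeries (Fin m) k) A
        (Localization.AtPrime p) ω = 0 :=
      (IsLocalizedModule.eq_zero_iff p.primeCompl _).mpr (hkill ω)
    simp only at hω
    rw [h0] at hω
    exact (IsLocalizedModule.smul_inj (S := p.primeCompl)
      (KaehlerDifferential.map (MvPowerSeries (Fin m) k) (MvPowerSeries (Fin m) k) A
        (Localization.AtPrime p)) s a 0).mp (by rw [hω, smul_zero])
  exact ⟨hsub⟩

/-- **EGA 0_IV 22.?**: the final equivalence. -/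
theorem main5054 (hp : p ≠ maximalIdeal A)
    (hq : ∃ q ∈ minimalPrimes A, q ≤ p ∧ ringKrullDim (A ⧸ q) = ringKrullDim A) (m : ℕ) :
    (∃ s : Fin m → LocalizedModule p.primeCompl Ωh,
      Submodule.span (Localization.AtPrime p) (Set.range s) = ⊤) ↔
    ∃ (_ : Algebra (MvPowerSeries (Fin m) k) A) (_ : IsScalarTower k (MvPowerSeries (Fin m) k) A),
      IsLocalHom (algebraMap (MvPowerSeries (Fin m) k) A) ∧
        Module.Finite (MvPowerSeries (Fin m) k) A ∧
          Algebra.IsUnramifiedAt (MvPowerSeries (Fin m) k) p := by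
  constructor
  · exact exists_algebra_of_span k A p hp hq m
  · rintro ⟨algP, tower, hloc, hfin, hunr⟩
    exact ⟨_, span_of_unramified k m A p hunr⟩

end E4d

end Groth.Agent.H5.CD
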