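import Mathlib
import Groth.Agent.Lib.Helper1.FlatDimLocal

set_option autoImplicit false
universe u

open IsLocalRing

namespace Groth.Agent.H5.CD

/-- flat local ascent of regularity with trivial closed fibre (local version). -/
theorem isRegularLocalRing_of_flat_of_map_eq (A B : Type u) [CommRing A] [CommRing B]
    [IsLocalRing A] [IsLocalRing B] [IsNoetherianRing B] [Algebra A B]
    [IsLocalHom (algebraMap A B)] [Module.Flat A B] [IsRegularLocalRing A]
    (hmax : (maximalIdeal A).map (algebraMap A B) = maximalIdeal B) :
    IsRegularLocalRing B := by
  apply IsRegularLocalRing.of_spanFinrank_maximalIdeal_le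
  have h1 : (maximalIdeal B).spanFinrank ≤ (maximalIdeal A).spanFinrank := by
    rw [← hmax]
    exact Ideal.spanFinrank_map_le_of_fg _ (IsNoetherian.noetherian _)
  have h2 := IsRegularLocalRing.spanFinrank_maximalIdeal (R := A)
  have h3 := Groth.Agent.H1.FlatDim.ringKrullDim_le_of_flat_isLocalHom A B
  refine le_trans ?_ h3
  rw [← h2]
  exact_mod_cast h1

/-- an essentially étale (flat, formally unramified, essentially of finite type) Noetherian
algebra over a regular ring is regular. -/
theorem isRegularRing_of_flat_of_formallyUnramified (R S : Type u) [CommRing R] [CommRing S]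
    [Algebra R S] [IsRegularRing R] [IsNoetherianRing S] [Module.Flat R S]
    [Algebra.FormallyUnramified R S] [Algebra.EssFiniteType R S] : IsRegularRing S := by
  refine ⟨fun P _ => ?_⟩
  let p := P.under R
  let Rp := Localization.AtPrime p
  let SP := Localization.AtPrime P
  letI : Algebra Rp SP := Localization.AtPrime.algebraOfLiesOver p P
  haveI : IsScalarTower R Rp SP := inferInstance
  haveI : IsLocalHom (algebraMap Rp SP) := by
    show IsLocalHom (Localization.localRingHom p P (algebraMap R S) Ideal.LiesOver.over)
    infer_instance
  haveI : Algebra.EssFiniteType R SP := Algebra.EssFiniteType.comp R S SP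
  haveI : Algebra.EssFiniteType Rp SP := Algebra.EssFiniteType.of_comp R Rp SP
  haveI : Algebra.FormallyUnramified S SP := Algebra.FormallyUnramified.of_isLocalization P.primeCompl
  haveI : Algebra.FormallyUnramified R SP := Algebra.FormallyUnramified.comp R S SP
  haveI : Algebra.FormallyUnramified Rp SP := Algebra.FormallyUnramified.of_restrictScalars R Rp SP
  have hm : (maximalIdeal Rp).map (algebraMap Rp SP) = maximalIdeal SP :=
    Algebra.FormallyUnramified.map_maximalIdeal
  haveI : Module.Flat R SP := Module.Flat.trans R S SP
  haveI : Module.Flat Rp SP := (Module.flat_iff_of_isLocalization Rp p.primeCompl SP).mpr inferInstance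
  haveI : IsRegularLocalRing Rp := inferInstance
  exact isRegularLocalRing_of_flat_of_map_eq Rp SP hm

end Groth.Agent.H5.CD
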