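import Mathlib
import Groth.Agent.Lib.Helper5.CD.F1
import Groth.Agent.Lib.Helper5.CD.E4
import Groth.Agent.Lib.Helper5.ES.D
import Groth.Agent.Lib.Helper1.RegLoc
import Groth.Agent.Lib.Helper1.CMFlat
import Groth.Agent.Lib.Helper8.Japanese.PSNormal

set_option autoImplicit false
universe u

open IsLocalRing

namespace Groth.Agent.H5.CD

/-- the height of a prime does not increase in a quotient. -/
theorem height_map_mk_le {A : Type*} [CommRing A] (q p : Ideal A) [p.IsPrime] (hqp : q ≤ p)
    [(p.map (Ideal.Quotient.mk q)).IsPrime] :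
    (p.map (Ideal.Quotient.mk q)).height ≤ p.height := by
  have hcomap : (p.map (Ideal.Quotient.mk q)).comap (Ideal.Quotient.mk q) = p := by
    rw [Ideal.comap_map_of_surjective _ Ideal.Quotient.mk_surjective, ← RingHom.ker_eq_comap_bot,
      Ideal.mk_ker, sup_eq_left.mpr hqp]
  have h1 := Order.height_le_height_apply_of_strictMono
    (PrimeSpectrum.comap (Ideal.Quotient.mk q))
    (RingHom.strictMono_comap_of_surjective Ideal.Quotient.mk_surjective)
    (⟨p.map (Ideal.Quotient.mk q), inferInstance⟩ : PrimeSpectrum (A ⧸ q))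
  rw [← PrimeSpectrum.height_eq_orderHeight, ← PrimeSpectrum.height_eq_orderHeight] at h1
  have h2 : (PrimeSpectrum.comap (Ideal.Quotient.mk q)
      (⟨p.map (Ideal.Quotient.mk q), inferInstance⟩ : PrimeSpectrum (A ⧸ q))).asIdeal = p := hcomap
  rw [h2] at h1
  exact h1

section F2
variable (k : Type u) [Field k] (n : ℕ) (A : Type u) [CommRing A] [IsLocalRing A]
  [IsNoetherianRing A]
  [Algebra (MvPowerSeries (Fin n) k) A] [Module.Finite (MvPowerSeries (Fin n) k) A]
  (p q : Ideal A) [p.IsPrime]

/-- a finite `k[[T_1..T_n]]`-algebra, unramified at a prime `p` containing a minimal prime of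
dimension `n`, is regular, étale and flat over the power series ring at `p`. -/
theorem regular_etale_flat (hq : q ∈ minimalPrimes A) (hqp : q ≤ p)
    (hdim : (n : WithBot ℕ∞) ≤ ringKrullDim (A ⧸ q))
    (hunr : Algebra.IsUnramifiedAt (MvPowerSeries (Fin n) k) p) :
    IsRegularLocalRing (Localization.AtPrime p) ∧
      Algebra.IsEtaleAt (MvPowerSeries (Fin n) k) p ∧
      Module.Flat (MvPowerSeries (Fin n) k) (Localization.AtPrime p) := by
  classical
  haveI : q.IsPrime := Ideal.minimalPrimes_isPrime hq
  haveI hPreg : IsRegularLocalRing (MvPowerSeries (Fin n) k) :=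
    Groth.Agent.H6.PSCot.isRegularLocalRing_mvPowerSeries n
  haveI : IsIntegrallyClosed (MvPowerSeries (Fin n) k) :=
    Groth.Agent.H8.Jap.mvPowerSeries_fin_isIntegrallyClosed k n
  haveI : IsDomain (MvPowerSeries (Fin n) k) := NoZeroDivisors.to_isDomain _
  haveI : Module.Finite (MvPowerSeries (Fin n) k) (A ⧸ q) :=
    Module.Finite.of_surjective (Ideal.Quotient.mkₐ (MvPowerSeries (Fin n) k) q).toLinearMap
      Ideal.Quotient.mk_surjective
  have hinj : Function.Injective (algebraMap (MvPowerSeries (Fin n) k) (A ⧸ q)) :=
    NN.injective_of_finite_of_dim (algebraMap (MvPowerSeries (Fin n) k) (A ⧸ q))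
      (RingHom.finite_algebraMap.mpr inferInstance) n
      (Groth.Agent.H6.PSCot.ringKrullDim_mvPowerSeries_le n) hdim
  haveI : FaithfulSMul (MvPowerSeries (Fin n) k) (A ⧸ q) :=
    (faithfulSMul_iff_algebraMap_injective _ _).mpr hinj
  haveI : Algebra.IsIntegral (MvPowerSeries (Fin n) k) (A ⧸ q) := Algebra.IsIntegral.of_finite _ _
  haveI : Algebra.HasGoingDown (MvPowerSeries (Fin n) k) (A ⧸ q) := inferInstance
  haveI hpbar : (p.map (Ideal.Quotient.mk q)).IsPrime :=
    Ideal.map_isPrime_of_surjective Ideal.Quotient.mk_surjective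
      (by rw [Ideal.mk_ker]; exact hqp)
  have hcomap : (p.map (Ideal.Quotient.mk q)).comap (Ideal.Quotient.mk q) = p := by
    rw [Ideal.comap_map_of_surjective _ Ideal.Quotient.mk_surjective, ← RingHom.ker_eq_comap_bot,
      Ideal.mk_ker, sup_eq_left.mpr hqp]
  have hunder : (p.map (Ideal.Quotient.mk q)).under (MvPowerSeries (Fin n) k) =
      p.under (MvPowerSeries (Fin n) k) := by
    show Ideal.comap (algebraMap (MvPowerSeries (Fin n) k) (A ⧸ q)) _ =
      Ideal.comap (algebraMap (MvPowerSeries (Fin n) k) A) p
    rw [IsScalarTower.algebraMap_eq (MvPowerSeries (Fin n) k) A (A ⧸ q), ← Ideal.comap_comap]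
    congr 1
  haveI : (p.map (Ideal.Quotient.mk q)).LiesOver (p.under (MvPowerSeries (Fin n) k)) :=
    ⟨hunder.symm⟩
  have hht1 : (p.under (MvPowerSeries (Fin n) k)).height ≤ (p.map (Ideal.Quotient.mk q)).height := by
    rw [Ideal.height_eq_height_add_of_liesOver_of_hasGoingDown
      (p.under (MvPowerSeries (Fin n) k)) (p.map (Ideal.Quotient.mk q))]
    exact le_self_add
  have hht2 : (p.map (Ideal.Quotient.mk q)).height ≤ p.height := height_map_mk_le q p hqp
  -- the local rings
  haveI : IsRegularLocalRing (Localization.AtPrime (p.under (MvPowerSeries (Fin n) k))) :=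
    Groth.Agent.H1.Reg.isRegularLocalRing_localization _ _
  letI : Algebra (Localization.AtPrime (p.under (MvPowerSeries (Fin n) k)))
      (Localization.AtPrime p) :=
    Localization.AtPrime.algebraOfLiesOver (p.under (MvPowerSeries (Fin n) k)) p
  haveI : IsScalarTower (MvPowerSeries (Fin n) k)
      (Localization.AtPrime (p.under (MvPowerSeries (Fin n) k))) (Localization.AtPrime p) :=
    inferInstance
  haveI : IsLocalHom (algebraMap (Localization.AtPrime (p.under (MvPowerSeries (Fin n) k)))
      (Localization.AtPrime p)) := by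
    show IsLocalHom (Localization.localRingHom (p.under (MvPowerSeries (Fin n) k)) p
      (algebraMap (MvPowerSeries (Fin n) k) A) Ideal.LiesOver.over)
    infer_instance
  haveI : Algebra.EssFiniteType (MvPowerSeries (Fin n) k) (Localization.AtPrime p) :=
    Algebra.EssFiniteType.comp (MvPowerSeries (Fin n) k) A (Localization.AtPrime p)
  haveI : Algebra.EssFiniteType (Localization.AtPrime (p.under (MvPowerSeries (Fin n) k)))
      (Localization.AtPrime p) :=
    Algebra.EssFiniteType.of_comp (MvPowerSeries (Fin n) k) _ _
  haveI : Algebra.FormallyUnramified (MvPowerSeries (Fin n) k) (Localization.AtPrime p) := hunr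
  haveI : Algebra.FormallyUnramified (Localization.AtPrime (p.under (MvPowerSeries (Fin n) k)))
      (Localization.AtPrime p) :=
    Algebra.FormallyUnramified.of_restrictScalars (MvPowerSeries (Fin n) k) _ _
  have hm : (maximalIdeal (Localization.AtPrime (p.under (MvPowerSeries (Fin n) k)))).map
      (algebraMap (Localization.AtPrime (p.under (MvPowerSeries (Fin n) k)))
        (Localization.AtPrime p)) = maximalIdeal (Localization.AtPrime p) :=
    Algebra.FormallyUnramified.map_maximalIdeal
  have hdimP : ringKrullDim (Localization.AtPrime (p.under (MvPowerSeries (Fin n) k))) =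
      (p.under (MvPowerSeries (Fin n) k)).height :=
    IsLocalization.AtPrime.ringKrullDim_eq_height _ _
  have hdimA : ringKrullDim (Localization.AtPrime p) = p.height :=
    IsLocalization.AtPrime.ringKrullDim_eq_height _ _
  have hspan : (maximalIdeal (Localization.AtPrime p)).spanFinrank ≤
      (maximalIdeal (Localization.AtPrime (p.under (MvPowerSeries (Fin n) k)))).spanFinrank := by
    rw [← hm]
    exact Ideal.spanFinrank_map_le_of_fg _ (IsNoetherian.noetherian _)
  have hregP := IsRegularLocalRing.spanFinrank_maximalIdeal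
    (R := Localization.AtPrime (p.under (MvPowerSeries (Fin n) k)))
  have hhts : ((p.under (MvPowerSeries (Fin n) k)).height : WithBot ℕ∞) ≤ (p.height : WithBot ℕ∞) := by
    exact_mod_cast hht1.trans hht2
  have hle : ((maximalIdeal (Localization.AtPrime p)).spanFinrank : WithBot ℕ∞) ≤
      ringKrullDim (Localization.AtPrime p) := by
    calc ((maximalIdeal (Localization.AtPrime p)).spanFinrank : WithBot ℕ∞)
        ≤ ((maximalIdeal (Localization.AtPrime
            (p.under (MvPowerSeries (Fin n) k)))).spanFinrank : WithBot ℕ∞) := by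
          exact_mod_cast hspan
      _ = ringKrullDim (Localization.AtPrime (p.under (MvPowerSeries (Fin n) k))) := hregP
      _ = (p.under (MvPowerSeries (Fin n) k)).height := hdimP
      _ ≤ p.height := hhts
      _ = ringKrullDim (Localization.AtPrime p) := hdimA.symm
  haveI hregA : IsRegularLocalRing (Localization.AtPrime p) :=
    IsRegularLocalRing.of_spanFinrank_maximalIdeal_le _ hle
  have hdimeq : ringKrullDim (Localization.AtPrime (p.under (MvPowerSeries (Fin n) k))) =
      ringKrullDim (Localization.AtPrime p) := by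
    apply le_antisymm
    · rw [hdimP, hdimA]; exact hhts
    · rw [← IsRegularLocalRing.spanFinrank_maximalIdeal (R := Localization.AtPrime p), ← hregP]
      exact_mod_cast hspan
  haveI : LocCoh.IsCohenMacaulayLocalRing (Localization.AtPrime p) :=
    Groth.Agent.H1.CMFlat.isCohenMacaulayLocalRing_of_isRegularLocalRing _
  have het : Algebra.IsEtaleAt (MvPowerSeries (Fin n) k) p :=
    ES.isEtaleAt_of_regular_cm (MvPowerSeries (Fin n) k) A p hdimeq
  refine ⟨hregA, het, ?_⟩
  haveI : Module.Flat (Localization.AtPrime (p.under (MvPowerSeries (Fin n) k)))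
      (Localization.AtPrime p) := by
    apply Groth.Agent.H1.Miracle.flat_of_cm
      (A := Localization.AtPrime (p.under (MvPowerSeries (Fin n) k)))
      (B := Localization.AtPrime p) (Localization.AtPrime p)
    · exact LocCoh.IsCohenMacaulayLocalRing.supportDim_eq_depth
    · rw [hm, Module.supportDim_self_eq_ringKrullDim]
      have h1 : (maximalIdeal (Localization.AtPrime p) • ⊤ :
          Submodule (Localization.AtPrime p) (Localization.AtPrime p)) =
          maximalIdeal (Localization.AtPrime p) := by
        rw [smul_eq_mul, Ideal.mul_top]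
      rw [h1, Module.supportDim_quotient_eq_ringKrullDim]
      have h2 : ringKrullDim (Localization.AtPrime p ⧸ maximalIdeal (Localization.AtPrime p)) =
          0 := by
        letI := Ideal.Quotient.field (maximalIdeal (Localization.AtPrime p))
        exact ringKrullDim_eq_zero_of_field _
      rw [h2, add_zero]
      exact hdimeq.symm
  exact Module.Flat.trans (MvPowerSeries (Fin n) k)
    (Localization.AtPrime (p.under (MvPowerSeries (Fin n) k))) (Localization.AtPrime p)

end F2

end Groth.Agent.H5.CD
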