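import Mathlib

set_option autoImplicit false
universe u

open TensorProduct IsLocalRing

namespace Groth.Agent.H5.CD

section F3
variable {A : Type u} [CommRing A] (p q : Ideal A) [p.IsPrime] [q.IsPrime]
  (N : Type u) [AddCommGroup N] [Module A N]

/-- If `A_p` is a domain and `q ⊆ p` is a minimal prime, then `q` is the kernel of `A → A_p`. -/
theorem algebraMap_eq_zero_of_mem_minimalPrime [IsDomain (Localization.AtPrime p)]
    (hq : q ∈ minimalPrimes A) (hqp : q ≤ p) (a : A) (ha : a ∈ q) :
    algebraMap A (Localization.AtPrime p) a = 0 := by
  have hprime : (RingHom.ker (algebraMap A (Localization.AtPrime p))).IsPrime :=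
    RingHom.ker_isPrime _
  have hle : RingHom.ker (algebraMap A (Localization.AtPrime p)) ≤ q := by
    intro b hb
    rw [RingHom.mem_ker, IsLocalization.map_eq_zero_iff p.primeCompl] at hb
    obtain ⟨s, hs⟩ := hb
    have h1 : (s : A) * b ∈ q := by rw [hs]; exact q.zero_mem
    rcases Ideal.IsPrime.mem_or_mem inferInstance h1 with h | h
    · exact absurd (hqp h) s.2
    · exact h
  have := hq.2 ⟨hprime, bot_le⟩ hle
  exact this ha

/-- A module over a local domain `A_p` generated by `n` elements whose fibre at the minimal prime
has dimension at least `n` is free of rank `n`. -/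
theorem free_of_span_of_le_finrank [IsDomain (Localization.AtPrime p)]
    (hq : q ∈ minimalPrimes A) (hqp : q ≤ p) {n : ℕ}
    (g : Fin n → LocalizedModule p.primeCompl N)
    (hg : Submodule.span (Localization.AtPrime p) (Set.range g) = ⊤)
    (hn : n ≤ Module.finrank q.ResidueField (q.ResidueField ⊗[A] N))
    [Module.Finite q.ResidueField (q.ResidueField ⊗[A] N)] :
    Module.Free (Localization.AtPrime p) (LocalizedModule p.primeCompl N) ∧
      Module.finrank (Localization.AtPrime p) (LocalizedModule p.primeCompl N) = n := by
  classical
  -- `κ(q)` as an `A_p`-algebra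
  have hunit : ∀ y : p.primeCompl, IsUnit (algebraMap A q.ResidueField y) := by
    intro y
    rw [isUnit_iff_ne_zero, Ne, Ideal.algebraMap_residueField_eq_zero]
    exact fun h => y.2 (hqp h)
  let ι : Localization.AtPrime p →+* q.ResidueField :=
    IsLocalization.lift (M := p.primeCompl) (g := algebraMap A q.ResidueField) hunit
  letI : Algebra (Localization.AtPrime p) q.ResidueField := ι.toAlgebra
  haveI : IsScalarTower A (Localization.AtPrime p) q.ResidueField :=
    IsScalarTower.of_algebraMap_eq (fun a => (IsLocalization.lift_eq hunit a).symm)
  have hιinj : Function.Injective (algebraMap (Localization.AtPrime p) q.ResidueField) := by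
    rw [injective_iff_map_eq_zero]
    intro x hx
    obtain ⟨a, s, rfl⟩ := IsLocalization.exists_mk'_eq p.primeCompl x
    have h1 : algebraMap A q.ResidueField a = 0 := by
      have h2 : algebraMap (Localization.AtPrime p) q.ResidueField
          (IsLocalization.mk' (Localization.AtPrime p) a s) *
          algebraMap A q.ResidueField s = algebraMap A q.ResidueField a := by
        rw [IsScalarTower.algebraMap_apply A (Localization.AtPrime p) q.ResidueField,
          IsScalarTower.algebraMap_apply A (Localization.AtPrime p) q.ResidueField, ← map_mul,
          IsLocalization.mk'_spec]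
      rw [← h2, hx, zero_mul]
    rw [Ideal.algebraMap_residueField_eq_zero] at h1
    have h3 := algebraMap_eq_zero_of_mem_minimalPrime p q hq hqp a h1
    rw [IsLocalization.mk'_eq_zero_iff]
    exact (IsLocalization.map_eq_zero_iff p.primeCompl _ _).mp h3
  -- the fibre at `q` computed from the localization
  let e : q.ResidueField ⊗[A] N ≃ₗ[q.ResidueField]
      q.ResidueField ⊗[Localization.AtPrime p] LocalizedModule p.primeCompl N :=
    (TensorProduct.AlgebraTensorModule.cancelBaseChange A (Localization.AtPrime p)
      q.ResidueField q.ResidueField N).symm ≪≫ₗ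
      ((LocalizedModule.equivTensorProduct p.primeCompl N).symm.baseChange
        (Localization.AtPrime p) q.ResidueField _ _)
  haveI : Module.Finite q.ResidueField
      (q.ResidueField ⊗[Localization.AtPrime p] LocalizedModule p.primeCompl N) :=
    Module.Finite.equiv e
  have hn' : n ≤ Module.finrank q.ResidueField
      (q.ResidueField ⊗[Localization.AtPrime p] LocalizedModule p.primeCompl N) := by
    rw [← e.finrank_eq]; exact hn
  have h2 := Submodule.baseChange_span (R := Localization.AtPrime p)
    (M := LocalizedModule p.primeCompl N) q.ResidueField (Set.range g)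
  rw [hg, Submodule.baseChange_top] at h2
  have hrange : Set.range (fun i : Fin n =>
      (1 : q.ResidueField) ⊗ₜ[Localization.AtPrime p] g i) =
      TensorProduct.mk (Localization.AtPrime p) q.ResidueField
        (LocalizedModule p.primeCompl N) 1 '' Set.range g := by
    rw [← Set.range_comp]; rfl
  have hspan : Submodule.span q.ResidueField (Set.range (fun i : Fin n =>
      (1 : q.ResidueField) ⊗ₜ[Localization.AtPrime p] g i)) = ⊤ := by
    rw [hrange, ← h2]
  have hle := finrank_range_le_card (R := q.ResidueField) (fun i : Fin n =>
      (1 : q.ResidueField) ⊗ₜ[Localization.AtPrime p] g i)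
  unfold Set.finrank at hle
  rw [hspan, finrank_top, Fintype.card_fin] at hle
  have hli : LinearIndependent q.ResidueField (fun i : Fin n =>
      (1 : q.ResidueField) ⊗ₜ[Localization.AtPrime p] g i) :=
    linearIndependent_of_top_le_span_of_card_eq_finrank (le_of_eq hspan.symm)
      (by rw [Fintype.card_fin]; exact le_antisymm hn' hle)
  -- the presentation
  let φ : (Fin n → Localization.AtPrime p) →ₗ[Localization.AtPrime p]
      LocalizedModule p.primeCompl N := Fintype.linearCombination (Localization.AtPrime p) g
  have hφs : Function.Surjective φ := by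
    rw [← LinearMap.range_eq_top, Fintype.range_linearCombination]; exact hg
  have hφi : Function.Injective φ := by
    rw [injective_iff_map_eq_zero]
    intro c hc
    have h3 : ∑ i, algebraMap (Localization.AtPrime p) q.ResidueField (c i) •
        ((1 : q.ResidueField) ⊗ₜ[Localization.AtPrime p] g i) = 0 := by
      have h4 := congrArg (TensorProduct.mk (Localization.AtPrime p) q.ResidueField
        (LocalizedModule p.primeCompl N) 1) hc
      rw [map_zero, Fintype.linearCombination_apply, map_sum] at h4
      rw [← h4]
      refine Finset.sum_congr rfl fun i _ => ?_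
      rw [TensorProduct.mk_apply, TensorProduct.tmul_smul, algebraMap_smul]
    have h5 := Fintype.linearIndependent_iff.mp hli _ h3
    funext i
    apply hιinj
    rw [h5 i, Pi.zero_apply, map_zero]
  let E := LinearEquiv.ofBijective φ ⟨hφi, hφs⟩
  refine ⟨Module.Free.of_equiv E, ?_⟩
  rw [← E.finrank_eq, Module.finrank_fin_fun]

end F3

end Groth.Agent.H5.CD
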