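import Mathlib
import Groth.Agent.Lib.Helper5.CD.F2
import Groth.Agent.Lib.Helper5.CD.F3
import Groth.Agent.Lib.Helper5.CA.GR3
import Groth.Agent.Lib.Helper5.CA.PSAdicSmooth
import Groth.Agent.Lib.Helper1.RegRing
import Groth.Agent.Lib.Helper7.Reg1

set_option autoImplicit false
universe u

open TensorProduct IsLocalRing

namespace Groth.Agent.H5.CD

section geomreg
variable (k : Type u) [Field k] (n : ℕ)

/-- `k' ⊗_k k[[T_1..T_n]]` is a regular ring for a finite extension `k'` of `k`. -/
theorem isRegularRing_baseChange_mvPowerSeries (k' : Type u) [Field k'] [Algebra k k']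
    [Module.Finite k k'] : IsRegularRing (k' ⊗[k] MvPowerSeries (Fin n) k) := by
  have h := CA.isAdicFormallySmooth_mvPowerSeries k k n
  haveI : IsNoetherianRing (k' ⊗[k] MvPowerSeries (Fin n) k) := by
    haveI : Nonempty (MaximalSpectrum (k' ⊗[k] MvPowerSeries (Fin n) k)) := inferInstance
    obtain ⟨m⟩ := ‹Nonempty (MaximalSpectrum (k' ⊗[k] MvPowerSeries (Fin n) k))›
    haveI := m.isMaximal
    exact (GR.isRegularLocalRing_localization_baseChange k k' (MvPowerSeries (Fin n) k) h
      m.asIdeal).1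
  exact Groth.Agent.H1.Reg.isRegularRing_of_maximal _ fun m hm =>
    haveI := hm
    (GR.isRegularLocalRing_localization_baseChange k k' (MvPowerSeries (Fin n) k) h m).2

/-- an essentially étale algebra over `k[[T_1..T_n]]` is geometrically regular over `k`. -/
theorem isGeometricallyRegular_of_essEtale (B : Type u) [CommRing B] [IsNoetherianRing B]
    [Algebra k B] [Algebra (MvPowerSeries (Fin n) k) B]
    [IsScalarTower k (MvPowerSeries (Fin n) k) B] [Module.Flat (MvPowerSeries (Fin n) k) B]
    [Algebra.FormallyUnramified (MvPowerSeries (Fin n) k) B]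
    [Algebra.EssFiniteType (MvPowerSeries (Fin n) k) B] : CAlg.IsGeometricallyRegular k B := by
  intro k' _ _ hfin
  haveI := hfin
  haveI hR : IsRegularRing (k' ⊗[k] MvPowerSeries (Fin n) k) :=
    isRegularRing_baseChange_mvPowerSeries k n k'
  haveI hR'' : IsRegularRing (MvPowerSeries (Fin n) k ⊗[k] k') :=
    IsRegularRing.of_ringEquiv (Algebra.TensorProduct.comm k k' (MvPowerSeries (Fin n) k)).toRingEquiv
  let e1 : (MvPowerSeries (Fin n) k ⊗[k] k') ⊗[MvPowerSeries (Fin n) k] B ≃+*
      B ⊗[MvPowerSeries (Fin n) k] (MvPowerSeries (Fin n) k ⊗[k] k') :=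
    (Algebra.TensorProduct.comm (MvPowerSeries (Fin n) k) (MvPowerSeries (Fin n) k ⊗[k] k')
      B).toRingEquiv
  let e2 : B ⊗[MvPowerSeries (Fin n) k] (MvPowerSeries (Fin n) k ⊗[k] k') ≃+* B ⊗[k] k' :=
    (Algebra.TensorProduct.cancelBaseChange k (MvPowerSeries (Fin n) k) B B k').toRingEquiv
  let e3 : B ⊗[k] k' ≃+* k' ⊗[k] B := (Algebra.TensorProduct.comm k B k').toRingEquiv
  haveI : IsNoetherianRing (B ⊗[k] k') := IsNoetherianRing.of_finite B _
  haveI : IsNoetherianRing
      ((MvPowerSeries (Fin n) k ⊗[k] k') ⊗[MvPowerSeries (Fin n) k] B) :=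
    isNoetherianRing_of_ringEquiv _ (e1.trans e2).symm
  haveI : IsRegularRing ((MvPowerSeries (Fin n) k ⊗[k] k') ⊗[MvPowerSeries (Fin n) k] B) :=
    isRegularRing_of_flat_of_formallyUnramified (MvPowerSeries (Fin n) k ⊗[k] k') _
  exact IsRegularRing.of_ringEquiv
    (R := (MvPowerSeries (Fin n) k ⊗[k] k') ⊗[MvPowerSeries (Fin n) k] B) (e1.trans (e2.trans e3))

end geomreg

section main
variable (k A : Type u) [Field k] [CommRing A] [IsLocalRing A] [IsNoetherianRing A]
  [Algebra k A] [IsAdicComplete (maximalIdeal A) A] [Module.Finite k (ResidueField A)]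
  (p : Ideal A) [p.IsPrime]

local notation "Ωh" => AdicCompletion (maximalIdeal A) (Ω[A⁄k])

/-- the core: consequences of a finite local `k[[T_1..T_n]]`-structure unramified at `p`. -/
theorem core_of_unramified (n : ℕ) (q : Ideal A) (hqmin : q ∈ minimalPrimes A) (hqp : q ≤ p)
    (hqdim : ringKrullDim (A ⧸ q) = n)
    [Algebra (MvPowerSeries (Fin n) k) A] [IsScalarTower k (MvPowerSeries (Fin n) k) A]
    [IsLocalHom (algebraMap (MvPowerSeries (Fin n) k) A)]
    [Module.Finite (MvPowerSeries (Fin n) k) A]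
    (hunr : Algebra.IsUnramifiedAt (MvPowerSeries (Fin n) k) p) :
    (Module.Free (Localization.AtPrime p) (LocalizedModule p.primeCompl Ωh) ∧
      Module.finrank (Localization.AtPrime p) (LocalizedModule p.primeCompl Ωh) = n) ∧
      CAlg.IsGeometricallyRegular k (Localization.AtPrime p) ∧
      Algebra.IsEtaleAt (MvPowerSeries (Fin n) k) p := by
  obtain ⟨hreg, het, hflat⟩ :=
    regular_etale_flat k n A p q hqmin hqp (le_of_eq hqdim.symm) hunr
  haveI := hreg
  haveI : IsDomain (Localization.AtPrime p) := Groth.Agent.H7.Reg.isDomain _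
  haveI : q.IsPrime := Ideal.minimalPrimes_isPrime hqmin
  haveI := finite_Ωh k A
  have h3847 := main3847 k A q q hqmin le_rfl
  have hnle : n ≤ Module.finrank q.ResidueField (q.ResidueField ⊗[A] Ωh) := by
    rw [hqdim, ← Module.finrank_eq_rank, Cardinal.toENat_nat] at h3847
    exact_mod_cast h3847
  have hgen := span_of_unramified k n A p hunr
  have hfree := free_of_span_of_le_finrank p q Ωh hqmin hqp _ hgen hnle
  refine ⟨hfree, ?_, het⟩
  haveI : Module.Flat (MvPowerSeries (Fin n) k) (Localization.AtPrime p) := hflat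
  haveI : Algebra.FormallyUnramified (MvPowerSeries (Fin n) k) (Localization.AtPrime p) := hunr
  haveI : Algebra.EssFiniteType (MvPowerSeries (Fin n) k) (Localization.AtPrime p) :=
    Algebra.EssFiniteType.comp (MvPowerSeries (Fin n) k) A (Localization.AtPrime p)
  haveI : IsScalarTower k (MvPowerSeries (Fin n) k) (Localization.AtPrime p) :=
    IsScalarTower.of_algebraMap_eq (fun c => by
      rw [IsScalarTower.algebraMap_apply k A (Localization.AtPrime p),
        IsScalarTower.algebraMap_apply k (MvPowerSeries (Fin n) k) A,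
        ← IsScalarTower.algebraMap_apply (MvPowerSeries (Fin n) k) A (Localization.AtPrime p)])
  exact isGeometricallyRegular_of_essEtale k n (Localization.AtPrime p)

theorem main5055 (n : ℕ) (hn : ringKrullDim A = n) (hp : p ≠ maximalIdeal A)
    (hq : ∃ q ∈ minimalPrimes A, q ≤ p ∧ ringKrullDim (A ⧸ q) = n)
    (hgen : ∃ s : Fin n → LocalizedModule p.primeCompl Ωh,
      Submodule.span (Localization.AtPrime p) (Set.range s) = ⊤) :
    (Module.Free (Localization.AtPrime p) (LocalizedModule p.primeCompl Ωh) ∧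
      Module.finrank (Localization.AtPrime p) (LocalizedModule p.primeCompl Ωh) = n) ∧
      CAlg.IsGeometricallyRegular k (Localization.AtPrime p) := by
  obtain ⟨q, hqmin, hqp, hqdim⟩ := hq
  obtain ⟨algP, tower, hloc, hfin, hunr⟩ :=
    exists_algebra_of_span k A p hp ⟨q, hqmin, hqp, hqdim.trans hn.symm⟩ n hgen
  obtain ⟨h1, h2, -⟩ := core_of_unramified k A p n q hqmin hqp hqdim hunr
  exact ⟨h1, h2⟩

theorem main3850 (n : ℕ) (hn : ringKrullDim A = n) (hp : p ≠ maximalIdeal A)
    (hq : ∃ q ∈ minimalPrimes A, q ≤ p ∧ ringKrullDim (A ⧸ q) = n) :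
    (Module.Free (Localization.AtPrime p) (LocalizedModule p.primeCompl Ωh) ∧
      Module.finrank (Localization.AtPrime p) (LocalizedModule p.primeCompl Ωh) = n) ↔
      ∃ (_ : Algebra (MvPowerSeries (Fin n) k) A)
        (_ : IsScalarTower k (MvPowerSeries (Fin n) k) A),
        IsLocalHom (algebraMap (MvPowerSeries (Fin n) k) A) ∧
          Module.Finite (MvPowerSeries (Fin n) k) A ∧
          Algebra.IsEtaleAt (MvPowerSeries (Fin n) k) p := by
  obtain ⟨q, hqmin, hqp, hqdim⟩ := hq
  constructor
  · rintro ⟨hfree, hrank⟩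
    haveI := hfree
    haveI := finite_Ωh k A
    haveI : Module.Finite (Localization.AtPrime p) (LocalizedModule p.primeCompl Ωh) :=
      inferInstance
    have hgen : ∃ s : Fin n → LocalizedModule p.primeCompl Ωh,
        Submodule.span (Localization.AtPrime p) (Set.range s) = ⊤ :=
      ⟨_, (Module.finBasisOfFinrankEq (Localization.AtPrime p)
        (LocalizedModule p.primeCompl Ωh) hrank).span_eq⟩
    obtain ⟨algP, tower, hloc, hfin, hunr⟩ :=
      exists_algebra_of_span k A p hp ⟨q, hqmin, hqp, hqdim.trans hn.symm⟩ n hgen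
    obtain ⟨-, -, het⟩ := core_of_unramified k A p n q hqmin hqp hqdim hunr
    exact ⟨algP, tower, hloc, hfin, het⟩
  · rintro ⟨algP, tower, hloc, hfin, het⟩
    haveI : Algebra.FormallyEtale (MvPowerSeries (Fin n) k) (Localization.AtPrime p) := het
    have hunr : Algebra.IsUnramifiedAt (MvPowerSeries (Fin n) k) p :=
      (inferInstance : Algebra.FormallyUnramified (MvPowerSeries (Fin n) k)
        (Localization.AtPrime p))
    exact (core_of_unramified k A p n q hqmin hqp hqdim hunr).1

end main

end Groth.Agent.H5.CD
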