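import Mathlib
import Groth.Agent.Lib.Helper5.Car.PK6
import Groth.Agent.Lib.Helper5.Car.Car3
import Groth.Agent.Lib.Helper5.Car.Car5

set_option autoImplicit false
universe u

open TensorProduct

namespace Groth.Agent.H5.CD

/-- abstract dimension count: `0 → U → V → W → 0` exact. -/
theorem count_aux {L U V W : Type*} [Field L] [AddCommGroup U] [AddCommGroup V] [AddCommGroup W]
    [Module L U] [Module L V] [Module L W] [Module.Finite L V]
    (x : U →ₗ[L] V) (r : V →ₗ[L] W) (hx : Function.Injective x) (hr : Function.Surjective r)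
    (h0 : ∀ u, r (x u) = 0) (hex : ∀ v, r v = 0 → ∃ u, x u = v) :
    Module.Finite L U ∧ Module.Finite L W ∧
      Module.finrank L U + Module.finrank L W = Module.finrank L V := by
  haveI : IsNoetherian L V := isNoetherian_of_isNoetherianRing_of_finite L V
  haveI hU : Module.Finite L U := Module.Finite.of_injective x hx
  haveI hW : Module.Finite L W := Module.Finite.of_surjective r hr
  refine ⟨hU, hW, ?_⟩
  let x' : U →ₗ[L] LinearMap.ker r := LinearMap.codRestrict _ x (fun u => h0 u)
  have hx' : Function.Injective x' := by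
    intro a b hab
    exact hx (congrArg Subtype.val hab)
  have hx'' : Function.Surjective x' := by
    rintro ⟨v, hv⟩
    obtain ⟨u, hu⟩ := hex v hv
    exact ⟨u, Subtype.ext hu⟩
  have h1 := (LinearEquiv.ofBijective x' ⟨hx', hx''⟩).finrank_eq
  have h2 := LinearMap.finrank_range_add_finrank_ker r
  rw [LinearMap.range_eq_top.mpr hr, finrank_top] at h2
  omega

section
variable (k L' L : Type u) [Field k] [Field L'] [Field L]
  [Algebra k L'] [Algebra L' L] [Algebra k L] [IsScalarTower k L' L]

theorem xi_eq :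
    PK.xi ℤ k L' L =
      ((KaehlerDifferential.mapBaseChange ℤ k L').baseChange L) ∘ₗ
        (TensorProduct.AlgebraTensorModule.cancelBaseChange k L' L L Ω[k⁄ℤ]).symm.toLinearMap := by
  apply H5.JZ.ext_tensor_kaehler
  intro a
  rw [PK.xi_tmul, LinearMap.comp_apply]
  show _ = ((KaehlerDifferential.mapBaseChange ℤ k L').baseChange L)
    ((TensorProduct.AlgebraTensorModule.cancelBaseChange k L' L L Ω[k⁄ℤ]).symm
      ((1 : L) ⊗ₜ KaehlerDifferential.D ℤ k a))
  rw [TensorProduct.AlgebraTensorModule.cancelBaseChange_symm_tmul,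
    LinearMap.baseChange_tmul, KaehlerDifferential.mapBaseChange_tmul, one_smul,
    KaehlerDifferential.map_D]

/-- if `L'` is separable over `k` (absolute differentials of `k` inject), then
`L ⊗_k Ω_k → L ⊗_{L'} Ω_{L'}` is injective. -/
theorem xi_injective_of_injective
    (h : Function.Injective (KaehlerDifferential.mapBaseChange ℤ k L')) :
    Function.Injective (PK.xi ℤ k L' L) := by
  rw [xi_eq]
  have hinj : Function.Injective ((KaehlerDifferential.mapBaseChange ℤ k L').baseChange L) := by
    rw [LinearMap.baseChange_eq_ltensor]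
    exact Module.Flat.lTensor_preserves_injective_linearMap _ h
  intro a b hab
  exact (TensorProduct.AlgebraTensorModule.cancelBaseChange k L' L L Ω[k⁄ℤ]).symm.injective
    (hinj hab)

/-- exactness of `L ⊗_k Ω_k → L ⊗_{L'} Ω_{L'} → L ⊗_{L'} Ω_{L'/k}` in the middle. -/
theorem exists_xi_eq_of_rho_eq_zero (ζ : L ⊗[L'] Ω[L'⁄ℤ]) (hζ : PK.rho ℤ k L' L ζ = 0) :
    ∃ w, PK.xi ℤ k L' L w = ζ := by
  have hex := lTensor_exact L (KaehlerDifferential.exact_mapBaseChange_map ℤ k L')
    (KaehlerDifferential.map_surjective ℤ k L')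
  have hζ' : (LinearMap.lTensor L (KaehlerDifferential.map ℤ k L' L')) ζ = 0 := by
    have : PK.rho ℤ k L' L ζ = (LinearMap.lTensor L (KaehlerDifferential.map ℤ k L' L')) ζ := by
      unfold PK.rho
      rw [LinearMap.baseChange_eq_ltensor]
      rfl
    rw [← this]; exact hζ
  obtain ⟨w', hw'⟩ := (hex ζ).mp hζ'
  refine ⟨(TensorProduct.AlgebraTensorModule.cancelBaseChange k L' L L Ω[k⁄ℤ]) w', ?_⟩
  rw [xi_eq, LinearMap.comp_apply]
  show ((KaehlerDifferential.mapBaseChange ℤ k L').baseChange L)
    ((TensorProduct.AlgebraTensorModule.cancelBaseChange k L' L L Ω[k⁄ℤ]).symm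
      ((TensorProduct.AlgebraTensorModule.cancelBaseChange k L' L L Ω[k⁄ℤ]) w')) = ζ
  rw [LinearEquiv.symm_apply_apply, LinearMap.baseChange_eq_ltensor]
  exact hw'

variable [Module.Finite L' L]

/-- **Cartier-type equality** for a finite extension `L` of a field `L'` separable over `k`. -/
theorem finite_and_rank_eq
    (h : Function.Injective (KaehlerDifferential.mapBaseChange ℤ k L')) :
    Module.Finite L (LinearMap.ker (KaehlerDifferential.mapBaseChange ℤ k L)) ∧
    Module.rank L (L ⊗[L'] Ω[L'⁄k]) +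
        Module.rank L (LinearMap.ker (KaehlerDifferential.mapBaseChange ℤ k L)) =
      Module.rank L Ω[L⁄k] ∧
    (Module.Finite L' Ω[L'⁄k] → Module.Finite L Ω[L⁄k]) := by
  haveI : Algebra.EssFiniteType L' L := inferInstance
  obtain ⟨hfinΩ, hfinH, hcart⟩ := Car.cartier_H1 (K := L') (L := L)
  have htr : Algebra.trdeg L' L = 0 := by
    haveI : Algebra.IsAlgebraic L' L := Algebra.IsAlgebraic.of_finite L' L
    exact trdeg_eq_zero
  rw [htr] at hcart
  have hcart' : Module.finrank L (Algebra.H1Cotangent L' L) = Module.finrank L Ω[L⁄L'] := by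
    have : (Cardinal.toNat (0 : Cardinal) : ℤ) = 0 := by simp
    rw [this] at hcart
    omega
  let eH := Car.imperfectionEquivH1Cotangent L' L
  haveI hfin2 : Module.Finite L (EGA41.imperfection ℤ L' L) := Module.Finite.equiv eH.symm
  have hrank2 : Module.finrank L (EGA41.imperfection ℤ L' L) = Module.finrank L Ω[L⁄L'] := by
    rw [← hcart']; exact eH.finrank_eq
  -- `rho` restricted
  let r : EGA41.imperfection ℤ L' L →ₗ[L]
      LinearMap.ker (KaehlerDifferential.mapBaseChange k L' L) :=
    (PK.rho ℤ k L' L).restrict (by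
      intro ζ hζ
      rw [LinearMap.mem_ker, PK.mapBaseChange_rho]
      have : KaehlerDifferential.mapBaseChange ℤ L' L ζ = 0 := hζ
      rw [this, map_zero])
  have hr : Function.Surjective r := by
    rintro ⟨ξ, hξ⟩
    obtain ⟨ζ, hζ0, hζ⟩ := PK.exists_mem_ker_rho_eq ℤ k L' L ξ hξ
    exact ⟨⟨ζ, hζ0⟩, Subtype.ext hζ⟩
  -- `xi` restricted
  let x : LinearMap.ker (KaehlerDifferential.mapBaseChange ℤ k L) →ₗ[L]
      EGA41.imperfection ℤ L' L :=
    (PK.xi ℤ k L' L).restrict (p := LinearMap.ker (KaehlerDifferential.mapBaseChange ℤ k L))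
        (q := EGA41.imperfection ℤ L' L) (by
        intro z hz
        show _ ∈ LinearMap.ker _
        rw [LinearMap.mem_ker, ← LinearMap.comp_apply, PK.mapBaseChange_comp_xi]
        exact hz)
  have hx : Function.Injective x := by
    intro a b hab
    apply Subtype.ext
    apply xi_injective_of_injective k L' L h
    exact congrArg Subtype.val hab
  have h0 : ∀ u, r (x u) = 0 := by
    intro z
    apply Subtype.ext
    show PK.rho ℤ k L' L (PK.xi ℤ k L' L z.1) = 0
    rw [← LinearMap.comp_apply, PK.rho_comp_xi, LinearMap.zero_apply]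
  have hex : ∀ v, r v = 0 → ∃ u, x u = v := by
    rintro ⟨ζ, hζ⟩ hv
    have hρ : PK.rho ℤ k L' L ζ = 0 := congrArg Subtype.val hv
    obtain ⟨w, hw⟩ := exists_xi_eq_of_rho_eq_zero k L' L ζ hρ
    have hw0 : KaehlerDifferential.mapBaseChange ℤ k L w = 0 := by
      rw [← PK.mapBaseChange_comp_xi ℤ k L' L, LinearMap.comp_apply, hw]
      exact hζ
    exact ⟨⟨w, hw0⟩, Subtype.ext hw⟩
  obtain ⟨hfin0, hfin1, hcount'⟩ := count_aux
    (U := LinearMap.ker (KaehlerDifferential.mapBaseChange ℤ k L))
    (V := EGA41.imperfection ℤ L' L)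
    (W := LinearMap.ker (KaehlerDifferential.mapBaseChange k L' L)) x r hx hr h0 hex
  have hcount : Module.finrank L (LinearMap.ker (KaehlerDifferential.mapBaseChange ℤ k L)) +
      Module.finrank L (LinearMap.ker (KaehlerDifferential.mapBaseChange k L' L)) =
      Module.finrank L Ω[L⁄L'] := by
    rw [← hrank2]; exact hcount'
  -- the cardinal count
  have hexact := KaehlerDifferential.exact_mapBaseChange_map k L' L
  have hsurj := KaehlerDifferential.map_surjective k L' L
  have e1 := LinearMap.rank_range_add_rank_ker (KaehlerDifferential.map k L' L L)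
  rw [LinearMap.range_eq_top.mpr hsurj, rank_top, hexact.linearMap_ker_eq] at e1
  have e2 := LinearMap.rank_range_add_rank_ker (KaehlerDifferential.mapBaseChange k L' L)
  have e3 : Module.rank L (LinearMap.ker (KaehlerDifferential.mapBaseChange ℤ k L)) +
      Module.rank L (LinearMap.ker (KaehlerDifferential.mapBaseChange k L' L)) =
      Module.rank L Ω[L⁄L'] := by
    rw [← Module.finrank_eq_rank, ← Module.finrank_eq_rank, ← Module.finrank_eq_rank]
    exact_mod_cast hcount
  refine ⟨hfin0, ?_, ?_⟩
  · rw [← e1, ← e2, ← e3]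
    ring
  · intro hfin
    haveI : Module.Finite L (L ⊗[L'] Ω[L'⁄k]) := inferInstance
    exact Module.Finite.of_exact hexact hsurj
end

end Groth.Agent.H5.CD
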