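import Mathlib
import Groth.Agent.Lib.Helper5.CD.G1
import Groth.Agent.Lib.Helper5.CD.D6
import Groth.Agent.Lib.Helper5.CD.E2
import Groth.Agent.Lib.Helper5.CA.JZ3
import Groth.Agent.Lib.Helper1.PowSerSep

set_option autoImplicit false
universe u

open TensorProduct IsLocalRing

namespace Groth.Agent.H5.CD

section G2
variable (k : Type u) [Field k] (m : ℕ)
  (L' : Type u) [Field L'] [Algebra (MvPowerSeries (Fin m) k) L']
  [IsFractionRing (MvPowerSeries (Fin m) k) L'] [Algebra k L']
  [IsScalarTower k (MvPowerSeries (Fin m) k) L']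

instance finite_residueField_mvPowerSeries :
    Module.Finite k (ResidueField (MvPowerSeries (Fin m) k)) := by
  haveI : IsLocalHom (algebraMap (MvPowerSeries (Fin m) k) (MvPowerSeries (Fin m) k)) :=
    ⟨fun a h => h⟩
  exact finite_residueField_of_finite k m (MvPowerSeries (Fin m) k)

/-- the differentials of `Frac k[[T_1..T_m]]` over `k` have dimension at least `m`. -/
theorem le_rank_kaehler_frac : (m : Cardinal.{u}) ≤ Module.rank L' Ω[L'⁄k] := by
  haveI := Groth.Agent.H6.PSCot.isAdicComplete_maximalIdeal (k := k) (d := m)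
  haveI : IsDomain (MvPowerSeries (Fin m) k) := NoZeroDivisors.to_isDomain _
  have h := le_finrank k (MvPowerSeries (Fin m) k) (MvPowerSeries (Fin m) k) L' m L'
    (fun x => ⟨x, rfl⟩)
  haveI : Algebra.FormallyEtale (MvPowerSeries (Fin m) k) L' :=
    Algebra.FormallyEtale.of_isLocalization (nonZeroDivisors (MvPowerSeries (Fin m) k))
  let e := KaehlerDifferential.tensorKaehlerEquivOfFormallyEtale k (MvPowerSeries (Fin m) k) L'
  let g : L' ⊗[MvPowerSeries (Fin m) k] Ω[MvPowerSeries (Fin m) k⁄k] →ₗ[L']
      L' ⊗[MvPowerSeries (Fin m) k]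
        AdicCompletion (maximalIdeal (MvPowerSeries (Fin m) k)) (Ω[MvPowerSeries (Fin m) k⁄k]) :=
    (AdicCompletion.of (maximalIdeal (MvPowerSeries (Fin m) k))
      (Ω[MvPowerSeries (Fin m) k⁄k])).baseChange L'
  have hg : Function.Surjective g := by
    have h0 := of_surjective k (MvPowerSeries (Fin m) k)
    intro z
    obtain ⟨w, hw⟩ := LinearMap.lTensor_surjective L' h0 z
    exact ⟨w, by show (LinearMap.baseChange L' _) w = z; rw [LinearMap.baseChange_eq_ltensor]; exact hw⟩
  have h1 := LinearMap.rank_le_of_surjective g hg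
  have h2 := e.rank_eq
  rw [← h2]
  refine le_trans ?_ h1
  rw [← Module.finrank_eq_rank]
  exact_mod_cast h

end G2

section main
variable (k C L : Type u) [Field k] [CommRing C] [IsDomain C]
  [IsNoetherianRing C] [IsLocalRing C] [Algebra k C] [IsAdicComplete (maximalIdeal C) C]
  [Module.Finite k (ResidueField C)]
  [Field L] [Algebra C L] [IsFractionRing C L] [Algebra k L] [IsScalarTower k C L]

/-- the structure: `L` is finite over `L' = Frac k[[T_1..T_m]]`, `m = dim C`, and the Cartier
equality holds. -/
theorem exists_structure :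
    ∃ (m : ℕ), ringKrullDim C = m ∧
    Module.Finite L (LinearMap.ker (KaehlerDifferential.mapBaseChange ℤ k L)) ∧
    (m : Cardinal.{u}) + Module.rank L (LinearMap.ker (KaehlerDifferential.mapBaseChange ℤ k L)) ≤
      Module.rank L Ω[L⁄k] := by
  classical
  obtain ⟨n, w, hinj, -, hfin⟩ := NN.exists_finite_injective_field (k₀ := k) (A := C)
  letI algPB : Algebra (MvPowerSeries (Fin n) k) C := w.toRingHom.toAlgebra
  letI algPL : Algebra (MvPowerSeries (Fin n) k) L :=
    ((algebraMap C L).comp w.toRingHom).toAlgebra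
  haveI : IsScalarTower (MvPowerSeries (Fin n) k) C L :=
    IsScalarTower.of_algebraMap_eq fun _ => rfl
  haveI : IsScalarTower k (MvPowerSeries (Fin n) k) L :=
    IsScalarTower.of_algebraMap_eq (fun c => by
      show algebraMap k L c = algebraMap C L (w (algebraMap k _ c))
      rw [AlgHom.commutes, ← IsScalarTower.algebraMap_apply])
  haveI : Module.Finite (MvPowerSeries (Fin n) k) C := hfin
  have hinj' : Function.Injective (algebraMap (MvPowerSeries (Fin n) k) C) := hinj
  haveI : FaithfulSMul (MvPowerSeries (Fin n) k) C :=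
    (faithfulSMul_iff_algebraMap_injective _ _).mpr hinj'
  haveI : FaithfulSMul (MvPowerSeries (Fin n) k) L :=
    (faithfulSMul_iff_algebraMap_injective _ _).mpr
      ((IsFractionRing.injective C L).comp hinj')
  letI : Algebra (FractionRing (MvPowerSeries (Fin n) k)) L :=
    FractionRing.liftAlgebra _ _
  haveI : IsScalarTower (MvPowerSeries (Fin n) k) (FractionRing (MvPowerSeries (Fin n) k))
      L := FractionRing.isScalarTower_liftAlgebra _ _
  haveI : IsScalarTower k (FractionRing (MvPowerSeries (Fin n) k)) L :=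
    IsScalarTower.of_algebraMap_eq (fun c => by
      rw [IsScalarTower.algebraMap_apply k (MvPowerSeries (Fin n) k)
          (FractionRing (MvPowerSeries (Fin n) k)),
        ← IsScalarTower.algebraMap_apply (MvPowerSeries (Fin n) k)
          (FractionRing (MvPowerSeries (Fin n) k)) L,
        ← IsScalarTower.algebraMap_apply k (MvPowerSeries (Fin n) k) L])
  haveI : Algebra.IsIntegral (MvPowerSeries (Fin n) k) C := Algebra.IsIntegral.of_finite _ _
  haveI : Algebra.IsAlgebraic (MvPowerSeries (Fin n) k) C := Algebra.IsIntegral.isAlgebraic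
  haveI : Module.Finite (FractionRing (MvPowerSeries (Fin n) k)) L :=
    Module.Finite.of_isLocalization (MvPowerSeries (Fin n) k) C
      (nonZeroDivisors (MvPowerSeries (Fin n) k))
  have hdim : ringKrullDim C = ringKrullDim (MvPowerSeries (Fin n) k) :=
    Groth.Agent.H2.DimFG.ringKrullDim_eq_of_integral_injective _ _ hinj'
  have hdimP : ringKrullDim (MvPowerSeries (Fin n) k) = n :=
    le_antisymm (Groth.Agent.H6.PSCot.ringKrullDim_mvPowerSeries_le n)
      (Groth.Agent.H6.PSCot.ringKrullDim_mvPowerSeries_ge n)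
  have hsep :=
    H5.JZ.isGeometricallyReduced_iff_injective.mp (Groth.Agent.H1.PowSerSep.main k n)
  obtain ⟨hfinΥ, hrank, -⟩ :=
    finite_and_rank_eq k (FractionRing (MvPowerSeries (Fin n) k)) L hsep
  refine ⟨n, hdim.trans hdimP, hfinΥ, ?_⟩
  rw [← hrank]
  refine add_le_add ?_ le_rfl
  have h1 := le_rank_kaehler_frac k n (FractionRing (MvPowerSeries (Fin n) k))
  have h2 := Module.rank_baseChange (R := L) (S := FractionRing (MvPowerSeries (Fin n) k))
    (M' := Ω[FractionRing (MvPowerSeries (Fin n) k)⁄k])
  rw [h2, Cardinal.lift_id]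
  exact h1

end main

end Groth.Agent.H5.CD
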