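import Mathlib
import Groth.Agent.Lib.Helper5.CA.NN2

set_option autoImplicit false
universe u

open TensorProduct IsLocalRing

namespace Groth.Agent.H5.CD

section frob
variable (p : ℕ) [Fact p.Prime]

/-- unpacking finiteness of Frobenius. -/
theorem exists_finset_of_frobenius_finite (R : Type*) [CommRing R] [CharP R p]
    (h : (frobenius R p).Finite) :
    ∃ s : Finset R, ∀ x : R, ∃ c : R → R, x = ∑ e ∈ s, (c e) ^ p * e := by
  letI alg : Algebra R R := (frobenius R p).toAlgebra
  have h' : @Module.Finite R R _ _ alg.toModule := h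
  obtain ⟨s, hs⟩ := h'.fg_top
  refine ⟨s, fun x => ?_⟩
  have hx : x ∈ @Submodule.span R R _ _ alg.toModule ↑s := by rw [hs]; trivial
  obtain ⟨c, -, hc⟩ := (@Submodule.mem_span_finset R R _ _ alg.toModule s x).mp hx
  refine ⟨c, ?_⟩
  rw [← hc]
  rfl

/-- finiteness of Frobenius implies finiteness of the module of differentials. -/
theorem finite_kaehler_of_frobenius_finite (A R : Type*) [CommRing A] [CommRing R] [Algebra A R]
    [CharP R p] (h : (frobenius R p).Finite) : Module.Finite R Ω[R⁄A] := by
  classical
  obtain ⟨s, hs⟩ := exists_finset_of_frobenius_finite p R h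
  refine ⟨⟨s.image (KaehlerDifferential.D A R), ?_⟩⟩
  rw [eq_top_iff, ← KaehlerDifferential.span_range_derivation A R]
  refine Submodule.span_le.mpr ?_
  rintro _ ⟨x, rfl⟩
  obtain ⟨c, hc⟩ := hs x
  have hpow : ∀ a : R, KaehlerDifferential.D A R (a ^ p) = 0 := by
    intro a
    rw [Derivation.leibniz_pow, ← Nat.cast_smul_eq_nsmul R, CharP.cast_eq_zero, zero_smul]
  rw [hc, map_sum]
  refine Submodule.sum_mem _ fun e he => ?_
  rw [Derivation.leibniz, hpow, smul_zero, add_zero]
  refine Submodule.smul_mem _ _ (Submodule.subset_span ?_)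
  rw [Finset.coe_image]
  exact ⟨e, he, rfl⟩

/-- a complete Noetherian local ring of characteristic `p` whose residue field has finite
Frobenius has finite Frobenius. -/
theorem frobenius_finite_of_complete (C : Type u) [CommRing C] [IsLocalRing C]
    [IsNoetherianRing C] [IsAdicComplete (maximalIdeal C) C] [CharP C p]
    [CharP (ResidueField C) p]
    (hκ : (frobenius (ResidueField C) p).Finite) : (frobenius C p).Finite := by
  have hJ : (maximalIdeal C).map (frobenius C p) ≤ maximalIdeal C := by
    rw [Ideal.map_le_iff_le_comap]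
    intro x hx
    rw [Ideal.mem_comap]
    show x ^ p ∈ maximalIdeal C
    exact Ideal.pow_mem_of_mem _ hx p (Fact.out : p.Prime).pos
  have hJtop : (maximalIdeal C).map (frobenius C p) ≠ ⊤ := fun h =>
    (maximalIdeal.isMaximal C).ne_top (top_le_iff.mp (h ▸ hJ))
  haveI : IsHausdorff ((maximalIdeal C).map (frobenius C p)) C :=
    IsHausdorff.of_isLocalRing _ _ hJtop
  haveI : Nontrivial (C ⧸ (maximalIdeal C).map (frobenius C p)) :=
    Ideal.Quotient.nontrivial_iff.mpr hJtop
  haveI : IsLocalRing (C ⧸ (maximalIdeal C).map (frobenius C p)) :=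
    IsLocalRing.of_surjective' (Ideal.Quotient.mk _) Ideal.Quotient.mk_surjective
  haveI hloc : IsLocalHom (Ideal.Quotient.mk ((maximalIdeal C).map (frobenius C p))) :=
    IsLocalHom.of_surjective _ Ideal.Quotient.mk_surjective
  haveI : IsArtinianRing (C ⧸ (maximalIdeal C).map (frobenius C p)) := by
    rw [isArtinianRing_iff_isNilpotent_maximalIdeal,
      Ideal.FG.isNilpotent_iff_le_nilradical (IsNoetherian.noetherian _)]
    intro y hy
    obtain ⟨x, rfl⟩ := Ideal.Quotient.mk_surjective y
    have hx : x ∈ maximalIdeal C := by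
      rw [mem_maximalIdeal, mem_nonunits_iff] at hy ⊢
      exact fun hu => hy (hu.map _)
    rw [mem_nilradical]
    refine ⟨p, ?_⟩
    rw [← map_pow, Ideal.Quotient.eq_zero_iff_mem]
    exact Ideal.mem_map_of_mem (frobenius C p) hx
  refine NN.finite_of_finite_quotient (frobenius C p) (maximalIdeal C) ?_
  refine NN.ringHom_finite_of_isArtinianRing _ ?_
  let ρ' : ResidueField C →+* ResidueField (C ⧸ (maximalIdeal C).map (frobenius C p)) :=
    ResidueField.map (Ideal.Quotient.mk _)
  have hρ' : Function.Surjective ρ' := by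
    intro z
    obtain ⟨y, rfl⟩ := residue_surjective z
    obtain ⟨x, rfl⟩ := Ideal.Quotient.mk_surjective y
    exact ⟨residue C x, ResidueField.map_residue _ x⟩
  have heq : (residue (C ⧸ (maximalIdeal C).map (frobenius C p))).comp
      ((Ideal.Quotient.mk ((maximalIdeal C).map (frobenius C p))).comp (frobenius C p)) =
      (ρ'.comp (frobenius (ResidueField C) p)).comp (residue C) := by
    ext x
    show residue _ (Ideal.Quotient.mk _ (x ^ p)) = ρ' ((residue C x) ^ p)
    rw [← map_pow, ResidueField.map_residue]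
  rw [heq]
  exact ((RingHom.Finite.of_surjective ρ' hρ').comp hκ).comp
    (RingHom.Finite.of_surjective _ residue_surjective)

end frob

end Groth.Agent.H5.CD
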