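import Mathlib
import Groth.Agent.Lib.Helper5.CD.G2
import Groth.Agent.Lib.Helper5.CD.G3

set_option autoImplicit false
universe u

open TensorProduct IsLocalRing

namespace Groth.Agent.H5.CD

section G4
variable (k : Type u) [Field k] (m : ℕ)
  (L' : Type u) [Field L'] [Algebra (MvPowerSeries (Fin m) k) L']
  [IsFractionRing (MvPowerSeries (Fin m) k) L'] [Algebra k L']
  [IsScalarTower k (MvPowerSeries (Fin m) k) L']

/-- if `Ω_{k[[T]]/k}` is a finite module then it is generated by the `dT_j`. -/
theorem exists_surjective_of_finite [Module.Finite (MvPowerSeries (Fin m) k) Ω[MvPowerSeries (Fin m) k⁄k]] :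
    ∃ φ : (Fin m → MvPowerSeries (Fin m) k) →ₗ[MvPowerSeries (Fin m) k] Ω[MvPowerSeries (Fin m) k⁄k],
      Function.Surjective φ := by
  haveI := Groth.Agent.H6.PSCot.isAdicComplete_maximalIdeal (k := k) (d := m)
  haveI : IsLocalHom (algebraMap (MvPowerSeries (Fin m) k) (MvPowerSeries (Fin m) k)) :=
    ⟨fun a h => h⟩
  have h1 := gen_T k m (MvPowerSeries (Fin m) k)
  have h2 : (⊤ : Submodule (MvPowerSeries (Fin m) k)
      (MvPowerSeries (Fin m) k ⊗[MvPowerSeries (Fin m) k] Ω[MvPowerSeries (Fin m) k⁄k])) ≤
      LinearMap.range (Fintype.linearCombination (MvPowerSeries (Fin m) k)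
        (tgen k m (MvPowerSeries (Fin m) k))) := by
    refine Submodule.le_of_le_smul_of_le_jacobson_bot (I := maximalIdeal (MvPowerSeries (Fin m) k))
      Module.Finite.fg_top (IsLocalRing.maximalIdeal_le_jacobson ⊥) ?_
    rw [h1]
  refine ⟨(TensorProduct.lid (MvPowerSeries (Fin m) k) Ω[MvPowerSeries (Fin m) k⁄k]).toLinearMap ∘ₗ
    Fintype.linearCombination (MvPowerSeries (Fin m) k) (tgen k m (MvPowerSeries (Fin m) k)), ?_⟩
  intro ω
  obtain ⟨c, hc⟩ := h2 (Submodule.mem_top
    (x := (TensorProduct.lid (MvPowerSeries (Fin m) k) Ω[MvPowerSeries (Fin m) k⁄k]).symm ω))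
  refine ⟨c, ?_⟩
  rw [LinearMap.comp_apply, hc]
  exact LinearEquiv.apply_symm_apply _ _

/-- if `Ω_{k[[T]]/k}` is finite, the differentials of `Frac k[[T_1..T_m]]` over `k` have
dimension exactly `m`. -/
theorem finrank_kaehler_frac_eq
    [Module.Finite (MvPowerSeries (Fin m) k) Ω[MvPowerSeries (Fin m) k⁄k]] :
    Module.Finite L' Ω[L'⁄k] ∧ Module.finrank L' Ω[L'⁄k] = m := by
  haveI : Algebra.FormallyEtale (MvPowerSeries (Fin m) k) L' :=
    Algebra.FormallyEtale.of_isLocalization (nonZeroDivisors (MvPowerSeries (Fin m) k))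
  let e := KaehlerDifferential.tensorKaehlerEquivOfFormallyEtale k (MvPowerSeries (Fin m) k) L'
  haveI hfin : Module.Finite L' Ω[L'⁄k] := Module.Finite.equiv e
  refine ⟨hfin, le_antisymm ?_ ?_⟩
  · obtain ⟨φ, hφ⟩ := exists_surjective_of_finite k m
    have hψ : Function.Surjective (φ.baseChange L') := by
      intro z
      obtain ⟨w, hw⟩ := LinearMap.lTensor_surjective L' hφ z
      exact ⟨w, by rw [LinearMap.baseChange_eq_ltensor]; exact hw⟩
    have h1 := LinearMap.finrank_le_finrank_of_surjective hψ
    have h3 : Module.finrank L' (L' ⊗[MvPowerSeries (Fin m) k] (Fin m → MvPowerSeries (Fin m) k))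
        = m := by
      rw [Module.finrank_baseChange, Module.finrank_fin_fun]
    rw [h3] at h1
    rw [← e.finrank_eq]
    exact h1
  · have h1 := le_rank_kaehler_frac k m L'
    rw [← Module.finrank_eq_rank] at h1
    exact_mod_cast h1

end G4

section main
variable (p : ℕ) [Fact p.Prime]

/-- finiteness of Frobenius passes to finite field extensions. -/
theorem frobenius_finite_of_finite (k κ : Type*) [Field k] [Field κ] [Algebra k κ] [CharP k p]
    [CharP κ p] [Module.Finite k κ] (hk : (frobenius k p).Finite) : (frobenius κ p).Finite := by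
  have h1 : (algebraMap k κ).Finite := RingHom.finite_algebraMap.mpr inferInstance
  have h2 : ((frobenius κ p).comp (algebraMap k κ)).Finite := by
    have : (frobenius κ p).comp (algebraMap k κ) = (algebraMap k κ).comp (frobenius k p) := by
      ext x
      show (algebraMap k κ x) ^ p = algebraMap k κ (x ^ p)
      rw [map_pow]
    rw [this]
    exact h1.comp hk
  exact RingHom.Finite.of_comp_finite h2

variable (k C L : Type u) [Field k] [CharP k p] [CommRing C] [IsDomain C]
  [IsNoetherianRing C] [IsLocalRing C] [Algebra k C] [IsAdicComplete (maximalIdeal C) C]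
  [Module.Finite k (ResidueField C)]
  [Field L] [Algebra C L] [IsFractionRing C L] [Algebra k L] [IsScalarTower k C L]

/-- `Ω_{C/k}` is finite when Frobenius of `k` is finite. -/
theorem finite_kaehler_of_complete (R : Type u) [CommRing R] [IsNoetherianRing R] [IsLocalRing R]
    [Algebra k R] [IsAdicComplete (maximalIdeal R) R] [Module.Finite k (ResidueField R)]
    (hk : (frobenius k p).Finite) : Module.Finite R Ω[R⁄k] := by
  haveI : CharP R p := charP_of_injective_algebraMap (algebraMap k R).injective p
  haveI : CharP (ResidueField R) p :=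
    charP_of_injective_algebraMap (algebraMap k (ResidueField R)).injective p
  have hκ := frobenius_finite_of_finite p k (ResidueField R) hk
  exact finite_kaehler_of_frobenius_finite p k R (frobenius_finite_of_complete p R hκ)

theorem exists_structure_eq (hk : (frobenius k p).Finite) :
    ∃ (m : ℕ), ringKrullDim C = m ∧ Module.Finite L Ω[L⁄k] ∧
    Module.finrank L Ω[L⁄k] =
      m + Module.finrank L (LinearMap.ker (KaehlerDifferential.mapBaseChange ℤ k L)) := by
  classical
  obtain ⟨n, w, hinj, -, hfin⟩ := NN.exists_finite_injective_field (k₀ := k) (A := C)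
  letI algPB : Algebra (MvPowerSeries (Fin n) k) C := w.toRingHom.toAlgebra
  letI algPL : Algebra (MvPowerSeries (Fin n) k) L :=
    ((algebraMap C L).comp w.toRingHom).toAlgebra
  haveI : IsScalarTower (MvPowerSeries (Fin n) k) C L :=
    IsScalarTower.of_algebraMap_eq fun _ => rfl
  haveI : IsScalarTower k (MvPowerSeries (Fin n) k) L :=
    IsScalarTower.of_algebraMap_eq (fun c => by
      show algebraMap k L c = algebraMap C L (w (algebraMap k _ c))
      rw [AlgHom.commutes, ← IsScalarTower.algebraMap_apply])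
  haveI : Module.Finite (MvPowerSeries (Fin n) k) C := hfin
  have hinj' : Function.Injective (algebraMap (MvPowerSeries (Fin n) k) C) := hinj
  haveI : FaithfulSMul (MvPowerSeries (Fin n) k) C :=
    (faithfulSMul_iff_algebraMap_injective _ _).mpr hinj'
  haveI : FaithfulSMul (MvPowerSeries (Fin n) k) L :=
    (faithfulSMul_iff_algebraMap_injective _ _).mpr
      ((IsFractionRing.injective C L).comp hinj')
  letI : Algebra (FractionRing (MvPowerSeries (Fin n) k)) L :=
    FractionRing.liftAlgebra _ _
  haveI : IsScalarTower (MvPowerSeries (Fin n) k) (FractionRing (MvPowerSeries (Fin n) k))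
      L := FractionRing.isScalarTower_liftAlgebra _ _
  haveI : IsScalarTower k (FractionRing (MvPowerSeries (Fin n) k)) L :=
    IsScalarTower.of_algebraMap_eq (fun c => by
      rw [IsScalarTower.algebraMap_apply k (MvPowerSeries (Fin n) k)
          (FractionRing (MvPowerSeries (Fin n) k)),
        ← IsScalarTower.algebraMap_apply (MvPowerSeries (Fin n) k)
          (FractionRing (MvPowerSeries (Fin n) k)) L,
        ← IsScalarTower.algebraMap_apply k (MvPowerSeries (Fin n) k) L])
  haveI : Algebra.IsIntegral (MvPowerSeries (Fin n) k) C := Algebra.IsIntegral.of_finite _ _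
  haveI : Algebra.IsAlgebraic (MvPowerSeries (Fin n) k) C := Algebra.IsIntegral.isAlgebraic
  haveI : Module.Finite (FractionRing (MvPowerSeries (Fin n) k)) L :=
    Module.Finite.of_isLocalization (MvPowerSeries (Fin n) k) C
      (nonZeroDivisors (MvPowerSeries (Fin n) k))
  have hdim : ringKrullDim C = ringKrullDim (MvPowerSeries (Fin n) k) :=
    Groth.Agent.H2.DimFG.ringKrullDim_eq_of_integral_injective _ _ hinj'
  have hdimP : ringKrullDim (MvPowerSeries (Fin n) k) = n :=
    le_antisymm (Groth.Agent.H6.PSCot.ringKrullDim_mvPowerSeries_le n)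
      (Groth.Agent.H6.PSCot.ringKrullDim_mvPowerSeries_ge n)
  have hsep :=
    H5.JZ.isGeometricallyReduced_iff_injective.mp (Groth.Agent.H1.PowSerSep.main k n)
  obtain ⟨hfinΥ, hrank, hfinΩ⟩ :=
    finite_and_rank_eq k (FractionRing (MvPowerSeries (Fin n) k)) L hsep
  haveI := Groth.Agent.H6.PSCot.isAdicComplete_maximalIdeal (k := k) (d := n)
  haveI : Module.Finite (MvPowerSeries (Fin n) k) Ω[MvPowerSeries (Fin n) k⁄k] :=
    finite_kaehler_of_complete p k (MvPowerSeries (Fin n) k) hk
  obtain ⟨hfin', hrank'⟩ :=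
    finrank_kaehler_frac_eq k n (FractionRing (MvPowerSeries (Fin n) k))
  haveI hΩ : Module.Finite L Ω[L⁄k] := hfinΩ hfin'
  refine ⟨n, hdim.trans hdimP, hΩ, ?_⟩
  have h2 := Module.rank_baseChange (R := L) (S := FractionRing (MvPowerSeries (Fin n) k))
    (M' := Ω[FractionRing (MvPowerSeries (Fin n) k)⁄k])
  rw [h2, Cardinal.lift_id, ← Module.finrank_eq_rank, hrank', ← Module.finrank_eq_rank,
    ← Module.finrank_eq_rank] at hrank
  exact_mod_cast hrank.symm

end main

end Groth.Agent.H5.CD
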