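import Mathlib

set_option autoImplicit false
universe u

open TensorProduct IsLocalRing

namespace Groth.Agent.H5.CD

section H1
variable {B : Type u} [CommRing B]

/-- `1 ⊗ x = 0` in `(B/I) ⊗ X` implies `x ∈ I X`. -/
theorem mem_smul_top_of_one_tmul_eq_zero (I : Ideal B) {X : Type*} [AddCommGroup X] [Module B X]
    (x : X) (h : (1 : B ⧸ I) ⊗ₜ[B] x = 0) : x ∈ I • (⊤ : Submodule B X) := by
  have h1 := congrArg (TensorProduct.quotTensorEquivQuotSMul X I) h
  rw [TensorProduct.quotTensorEquivQuotSMul_mk_one_tmul, map_zero,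
    Submodule.Quotient.mk_eq_zero] at h1
  exact h1

theorem one_tmul_eq_zero_of_mem_smul_top (I : Ideal B) {X : Type*} [AddCommGroup X] [Module B X]
    (x : X) (h : x ∈ I • (⊤ : Submodule B X)) : (1 : B ⧸ I) ⊗ₜ[B] x = 0 := by
  apply (TensorProduct.quotTensorEquivQuotSMul X I).injective
  rw [TensorProduct.quotTensorEquivQuotSMul_mk_one_tmul, map_zero, Submodule.Quotient.mk_eq_zero]
  exact h

theorem apply_mem_of_mem_smul_top (I : Ideal B) {d : ℕ} (y : Fin d → B)
    (h : y ∈ I • (⊤ : Submodule B (Fin d → B))) (t : Fin d) : y t ∈ I := by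
  refine Submodule.smul_induction_on h ?_ ?_
  · intro a ha w _
    exact I.mul_mem_right _ ha
  · intro x y hx hy
    exact I.add_mem hx hy

variable [IsLocalRing B] [IsNoetherianRing B]

/-- A finite module over a Noetherian local ring all of whose truncations are projective is free. -/
theorem free_of_projective_quotients (M : Type u) [AddCommGroup M] [Module B M] [Module.Finite B M]
    (h : ∀ j : ℕ, Module.Projective (B ⧸ maximalIdeal B ^ j) ((B ⧸ maximalIdeal B ^ j) ⊗[B] M)) :
    Module.Free B M := by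
  classical
  obtain ⟨d, ⟨bk⟩⟩ : ∃ d : ℕ, Nonempty (Module.Basis (Fin d) (ResidueField B)
      (ResidueField B ⊗[B] M)) := ⟨_, ⟨Module.finBasis _ _⟩⟩
  have hmk : ∀ i, ∃ m : M, (1 : ResidueField B) ⊗ₜ[B] m = bk i := fun i =>
    TensorProduct.mk_surjective B M (ResidueField B) residue_surjective (bk i)
  choose v hv using hmk
  have hspan : Submodule.span B (Set.range v) = ⊤ :=
    IsLocalRing.span_eq_top_of_tmul_eq_basis v bk hv
  let φ : (Fin d → B) →ₗ[B] M := Fintype.linearCombination B v
  have hφs : Function.Surjective φ := by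
    rw [← LinearMap.range_eq_top, Fintype.range_linearCombination]
    exact hspan
  -- the key: `φ y ∈ 𝔪 M → y ∈ 𝔪 F`
  have hkey : ∀ y : Fin d → B, φ y ∈ maximalIdeal B • (⊤ : Submodule B M) →
      ∀ t, y t ∈ maximalIdeal B := by
    intro y hy
    have hgen : ∀ z ∈ maximalIdeal B • (⊤ : Submodule B M),
        (1 : ResidueField B) ⊗ₜ[B] z = 0 := by
      intro z hz
      refine Submodule.smul_induction_on (p := fun z => (1 : ResidueField B) ⊗ₜ[B] z = 0) hz ?_ ?_
      · intro a ha w _
        show (1 : ResidueField B) ⊗ₜ[B] (a • w) = 0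
        rw [← TensorProduct.smul_tmul, Algebra.smul_def, mul_one]
        have : algebraMap B (ResidueField B) a = 0 := (residue_eq_zero_iff a).mpr ha
        rw [this, TensorProduct.zero_tmul]
      · intro x y hx hy
        show (1 : ResidueField B) ⊗ₜ[B] (x + y) = 0
        rw [TensorProduct.tmul_add, hx, hy, add_zero]
    have h0 : (1 : ResidueField B) ⊗ₜ[B] φ y = 0 := hgen _ hy
    have h1 : (1 : ResidueField B) ⊗ₜ[B] φ y = ∑ i, residue B (y i) • bk i := by
      show (1 : ResidueField B) ⊗ₜ[B] (Fintype.linearCombination B v y) = _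
      rw [Fintype.linearCombination_apply, TensorProduct.tmul_sum]
      refine Finset.sum_congr rfl fun i _ => ?_
      rw [TensorProduct.tmul_smul, ← hv i, ← algebraMap_smul (ResidueField B) (y i)]
      rfl
    rw [h1] at h0
    have h2 := Fintype.linearIndependent_iff.mp bk.linearIndependent _ h0
    intro t
    exact (residue_eq_zero_iff _).mp (h2 t)
  -- the truncations
  have hj : ∀ (j : ℕ) (x : Fin d → B), φ x = 0 → ∀ t, x t ∈ maximalIdeal B ^ j := by
    intro j x hx
    have hφj : Function.Surjective (φ.baseChange (B ⧸ maximalIdeal B ^ j)) := by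
      intro z
      obtain ⟨w, hw⟩ := LinearMap.lTensor_surjective (B ⧸ maximalIdeal B ^ j) hφs z
      exact ⟨w, by rw [LinearMap.baseChange_eq_ltensor]; exact hw⟩
    haveI := h j
    obtain ⟨σ, hσ⟩ := Module.projective_lifting_property
      (φ.baseChange (B ⧸ maximalIdeal B ^ j)) LinearMap.id hφj
    have hσ' : ∀ z, (φ.baseChange (B ⧸ maximalIdeal B ^ j)) (σ z) = z := fun z =>
      congrArg (fun f => f z) hσ
    have hbase : 1 ≤ j → ∀ u : Fin d → B,
        (φ.baseChange (B ⧸ maximalIdeal B ^ j)) ((1 : B ⧸ maximalIdeal B ^ j) ⊗ₜ[B] u) = 0 →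
        ∀ t, u t ∈ maximalIdeal B := by
      intro hj1 u hu
      rw [LinearMap.baseChange_tmul] at hu
      have h1 := mem_smul_top_of_one_tmul_eq_zero _ _ hu
      have h2 : maximalIdeal B ^ j • (⊤ : Submodule B M) ≤ maximalIdeal B • ⊤ :=
        Submodule.smul_mono_left (Ideal.pow_le_self (by omega))
      exact hkey u (h2 h1)
    have hind : ∀ i, i ≤ j → ∀ y : Fin d → B,
        (φ.baseChange (B ⧸ maximalIdeal B ^ j)) ((1 : B ⧸ maximalIdeal B ^ j) ⊗ₜ[B] y) = 0 →
        ∀ t, y t ∈ maximalIdeal B ^ i := by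
      intro i
      induction i with
      | zero => intro _ y _ t; rw [pow_zero, Ideal.one_eq_top]; trivial
      | succ i ih =>
        intro hij y hy t'
        have hyi := ih (by omega) y hy
        -- the elements `w_t`
        have hw : ∀ t : Fin d, ∃ u : Fin d → B,
            (1 : B ⧸ maximalIdeal B ^ j) ⊗ₜ[B] u =
              (1 : B ⧸ maximalIdeal B ^ j) ⊗ₜ[B] (Pi.single t (1 : B) : Fin d → B) -
              σ ((φ.baseChange (B ⧸ maximalIdeal B ^ j))
                ((1 : B ⧸ maximalIdeal B ^ j) ⊗ₜ[B] (Pi.single t (1 : B) : Fin d → B))) :=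
          fun t => TensorProduct.mk_surjective B (Fin d → B) (B ⧸ maximalIdeal B ^ j)
            Ideal.Quotient.mk_surjective _
        choose u hu using hw
        have hu0 : ∀ t, (φ.baseChange (B ⧸ maximalIdeal B ^ j))
            ((1 : B ⧸ maximalIdeal B ^ j) ⊗ₜ[B] u t) = 0 := by
          intro t
          rw [hu t, map_sub, hσ', sub_self]
        have hu1 : ∀ t t', u t t' ∈ maximalIdeal B := fun t => hbase (by omega) (u t) (hu0 t)
        have hy1 : y = ∑ t, y t • (Pi.single t (1 : B) : Fin d → B) := by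
          ext s
          simp [Finset.sum_apply, Pi.single_apply]
        have hy2 : (1 : B ⧸ maximalIdeal B ^ j) ⊗ₜ[B] y =
            (1 : B ⧸ maximalIdeal B ^ j) ⊗ₜ[B] (∑ t, y t • u t) := by
          have e1 : (1 : B ⧸ maximalIdeal B ^ j) ⊗ₜ[B] y =
              (1 : B ⧸ maximalIdeal B ^ j) ⊗ₜ[B] y -
                σ ((φ.baseChange (B ⧸ maximalIdeal B ^ j))
                  ((1 : B ⧸ maximalIdeal B ^ j) ⊗ₜ[B] y)) := by
            rw [hy, map_zero, sub_zero]
          rw [e1]
          conv_lhs => rw [hy1]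
          rw [TensorProduct.tmul_sum, map_sum, map_sum, ← Finset.sum_sub_distrib,
            TensorProduct.tmul_sum]
          refine Finset.sum_congr rfl fun t _ => ?_
          rw [TensorProduct.tmul_smul, TensorProduct.tmul_smul, hu t, smul_sub]
          congr 1
          rw [LinearMap.map_smul_of_tower, LinearMap.map_smul_of_tower]
        have hy3 : y - ∑ t, y t • u t ∈
            maximalIdeal B ^ j • (⊤ : Submodule B (Fin d → B)) := by
          apply mem_smul_top_of_one_tmul_eq_zero
          rw [TensorProduct.tmul_sub, hy2, sub_self]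
        have hy4 := apply_mem_of_mem_smul_top _ _ hy3 t'
        have hy5 : (∑ t, y t • u t) t' ∈ maximalIdeal B ^ (i + 1) := by
          rw [Finset.sum_apply]
          refine Ideal.sum_mem _ fun t _ => ?_
          rw [Pi.smul_apply, smul_eq_mul, pow_succ]
          exact Ideal.mul_mem_mul (hyi t) (hu1 t t')
        have hy6 : y t' = (y - ∑ t, y t • u t) t' + (∑ t, y t • u t) t' := by
          rw [Pi.sub_apply, sub_add_cancel]
        rw [hy6]
        exact Ideal.add_mem _ (Ideal.pow_le_pow_right hij hy4) hy5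
    refine hind j le_rfl x ?_
    rw [LinearMap.baseChange_tmul, hx, TensorProduct.tmul_zero]
  have hφi : Function.Injective φ := by
    rw [injective_iff_map_eq_zero]
    intro x hx
    ext t
    have h1 : x t ∈ (⨅ j, maximalIdeal B ^ j : Ideal B) := by
      rw [Ideal.mem_iInf]
      intro j
      exact hj j x hx t
    rw [Ideal.iInf_pow_eq_bot_of_isLocalRing _ (Ideal.IsPrime.ne_top inferInstance)] at h1
    exact h1
  exact Module.Free.of_equiv (LinearEquiv.ofBijective φ ⟨hφi, hφs⟩)

end H1

end Groth.Agent.H5.CD
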