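import Mathlib
import Groth.Agent.Lib.Helper5.CD.H1
import Groth.Agent.Lib.Helper5.CD.G4
import Groth.Agent.Lib.Helper5.CD.F3
import Groth.Agent.Lib.Helper5.CA.NG19
import Groth.Agent.Lib.Helper5.RJ.C
import Groth.Agent.Lib.Helper7.Reg1
import Groth.Agent.Lib.Helper8.Japanese.QE1
import Groth.Agent.Lib.Helper8.HensGN.HensGN2

set_option autoImplicit false
universe u

open TensorProduct IsLocalRing

namespace Groth.Agent.H5.CD

section generic

/-- the imperfection module of a separable extension vanishes. -/
theorem finrank_ker_mapBaseChange_eq_zero (k L : Type u) [Field k] [Field L] [Algebra k L]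
    [Algebra.IsGeometricallyReduced k L] :
    Module.finrank L (LinearMap.ker (KaehlerDifferential.mapBaseChange ℤ k L)) = 0 := by
  have h := H5.JZ.isGeometricallyReduced_iff_injective.mp
    (inferInstance : Algebra.IsGeometricallyReduced k L)
  rw [LinearMap.ker_eq_bot.mpr h]
  exact finrank_bot L _

/-- a localization of a geometrically reduced algebra is geometrically reduced. -/
theorem isGeometricallyReduced_of_isLocalization (k B L : Type u) [Field k] [CommRing B]
    [CommRing L] [Algebra k B] [Algebra k L] [Algebra B L] [IsScalarTower k B L]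
    (M : Submonoid B) [IsLocalization M L] [Algebra.IsGeometricallyReduced k B] :
    Algebra.IsGeometricallyReduced k L := by
  haveI : IsReduced (AlgebraicClosure k ⊗[k] B) :=
    (Algebra.isGeometricallyReduced_field_iff k B).mp inferInstance
  rw [Algebra.isGeometricallyReduced_field_iff]
  exact Groth.Agent.H8.Jap.HensGN.isReduced_tensor_localization k (AlgebraicClosure k) B L M

end generic

section H2
variable (p : ℕ) [Fact p.Prime] (k A : Type u) [Field k] [CharP k p] [CommRing A] [IsLocalRing A]
  [IsNoetherianRing A] [Algebra k A] [IsAdicComplete (maximalIdeal A) A]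
  [Module.Finite k (ResidueField A)] (P : Ideal A) [P.IsPrime]

/-- the localized completed differentials are the differentials of the localization. -/
theorem nonempty_equiv_kaehler_localization (hk : (frobenius k p).Finite) :
    Nonempty (LocalizedModule P.primeCompl (AdicCompletion (maximalIdeal A) (Ω[A⁄k]))
      ≃ₗ[Localization.AtPrime P] Ω[Localization.AtPrime P⁄k]) := by
  haveI : Module.Finite A Ω[A⁄k] := finite_kaehler_of_complete p k A hk
  haveI : IsAdicComplete (maximalIdeal A) (Ω[A⁄k]) :=
    FormalAlg.isAdicComplete_of_finite (maximalIdeal A) _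
  let e₀ := AdicCompletion.ofLinearEquiv (maximalIdeal A) (Ω[A⁄k])
  let f : AdicCompletion (maximalIdeal A) (Ω[A⁄k]) →ₗ[A] Ω[Localization.AtPrime P⁄k] :=
    (KaehlerDifferential.map k k A (Localization.AtPrime P)) ∘ₗ e₀.symm.toLinearMap
  haveI : IsLocalizedModule P.primeCompl f :=
    IsLocalizedModule.of_linearEquiv_right P.primeCompl
      (KaehlerDifferential.map k k A (Localization.AtPrime P)) e₀.symm
  let E := IsLocalizedModule.iso P.primeCompl f
  exact ⟨LinearEquiv.extendScalarsOfIsLocalization P.primeCompl (Localization.AtPrime P) E⟩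

/-- the rank of the differentials of the fraction field of a geometrically reduced localization
which is a domain. -/
theorem finrank_kaehler_frac_of_geomReduced (hk : (frobenius k p).Finite)
    [IsDomain (Localization.AtPrime P)]
    [Algebra.IsGeometricallyReduced k (Localization.AtPrime P)]
    (q : Ideal A) (hq : q ∈ minimalPrimes A) (hqP : q ≤ P) (n : ℕ)
    (hn : ringKrullDim (A ⧸ q) = n)
    (L : Type u) [Field L] [Algebra (Localization.AtPrime P) L]
    [IsFractionRing (Localization.AtPrime P) L] [Algebra k L]
    [IsScalarTower k (Localization.AtPrime P) L] :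
    Module.Finite L Ω[L⁄k] ∧ Module.finrank L Ω[L⁄k] = n := by
  haveI : q.IsPrime := hq.1.1
  letI : Algebra A L := ((algebraMap (Localization.AtPrime P) L).comp
    (algebraMap A (Localization.AtPrime P))).toAlgebra
  haveI : IsScalarTower A (Localization.AtPrime P) L := IsScalarTower.of_algebraMap_eq fun _ => rfl
  haveI : IsScalarTower k A L := IsScalarTower.of_algebraMap_eq (fun c => by
    rw [IsScalarTower.algebraMap_apply k (Localization.AtPrime P) L,
      IsScalarTower.algebraMap_apply k A (Localization.AtPrime P)]
    rfl)
  have hker : ∀ a ∈ q, algebraMap A L a = 0 := by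
    intro a ha
    rw [IsScalarTower.algebraMap_apply A (Localization.AtPrime P) L,
      algebraMap_eq_zero_of_mem_minimalPrime P q hq hqP a ha, map_zero]
  letI : Algebra (A ⧸ q) L := (Ideal.Quotient.lift q (algebraMap A L) hker).toAlgebra
  haveI : IsScalarTower A (A ⧸ q) L := IsScalarTower.of_algebraMap_eq fun _ => rfl
  haveI : IsScalarTower k (A ⧸ q) L := IsScalarTower.of_algebraMap_eq (fun c => by
    rw [IsScalarTower.algebraMap_apply k A (A ⧸ q), ← IsScalarTower.algebraMap_apply A (A ⧸ q) L,
      ← IsScalarTower.algebraMap_apply k A L])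
  have hinj : Function.Injective (algebraMap (A ⧸ q) L) := by
    rw [injective_iff_map_eq_zero]
    intro x hx
    obtain ⟨a, rfl⟩ := Ideal.Quotient.mk_surjective x
    have h1 : algebraMap A L a = 0 := hx
    rw [IsScalarTower.algebraMap_apply A (Localization.AtPrime P) L] at h1
    have h2 : algebraMap A (Localization.AtPrime P) a = 0 :=
      (IsFractionRing.injective (Localization.AtPrime P) L) (h1.trans (map_zero _).symm)
    rw [IsLocalization.map_eq_zero_iff P.primeCompl] at h2
    obtain ⟨s, hs⟩ := h2
    have h3 : (s : A) * a ∈ q := by rw [hs]; exact q.zero_mem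
    rw [Ideal.Quotient.eq_zero_iff_mem]
    rcases Ideal.IsPrime.mem_or_mem inferInstance h3 with h | h
    · exact absurd (hqP h) s.2
    · exact h
  haveI : FaithfulSMul (A ⧸ q) L := (faithfulSMul_iff_algebraMap_injective _ _).mpr hinj
  haveI : IsFractionRing (A ⧸ q) L := by
    refine IsFractionRing.of_field (R := A ⧸ q) (K := L) ?_
    intro z
    obtain ⟨b1, b2, hb2, rfl⟩ := IsFractionRing.div_surjective (A := Localization.AtPrime P) z
    obtain ⟨a1, s1, rfl⟩ := IsLocalization.exists_mk'_eq P.primeCompl b1
    obtain ⟨a2, s2, rfl⟩ := IsLocalization.exists_mk'_eq P.primeCompl b2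
    refine ⟨Ideal.Quotient.mk q (a1 * s2), Ideal.Quotient.mk q (a2 * s1), ?_⟩
    have e1 : algebraMap (Localization.AtPrime P) L (IsLocalization.mk' _ a1 s1) *
        algebraMap A L (s1 : A) = algebraMap A L a1 := by
      rw [IsScalarTower.algebraMap_apply A (Localization.AtPrime P) L, ← map_mul,
        IsLocalization.mk'_spec, ← IsScalarTower.algebraMap_apply]
    have e2 : algebraMap (Localization.AtPrime P) L (IsLocalization.mk' _ a2 s2) *
        algebraMap A L (s2 : A) = algebraMap A L a2 := by
      rw [IsScalarTower.algebraMap_apply A (Localization.AtPrime P) L, ← map_mul,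
        IsLocalization.mk'_spec, ← IsScalarTower.algebraMap_apply]
    have hs1 : algebraMap A L (s1 : A) ≠ 0 := by
      rw [IsScalarTower.algebraMap_apply A (Localization.AtPrime P) L]
      exact IsUnit.ne_zero ((IsLocalization.map_units (Localization.AtPrime P) s1).map
        (algebraMap (Localization.AtPrime P) L))
    have hs2 : algebraMap A L (s2 : A) ≠ 0 := by
      rw [IsScalarTower.algebraMap_apply A (Localization.AtPrime P) L]
      exact IsUnit.ne_zero ((IsLocalization.map_units (Localization.AtPrime P) s2).map
        (algebraMap (Localization.AtPrime P) L))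
    have hb2' : algebraMap (Localization.AtPrime P) L (IsLocalization.mk' _ a2 s2) ≠ 0 := by
      intro h0
      have := (IsFractionRing.injective (Localization.AtPrime P) L) (h0.trans (map_zero _).symm)
      exact (nonZeroDivisors.ne_zero hb2) this
    show _ = algebraMap A L (a1 * s2) / algebraMap A L (a2 * s1)
    rw [map_mul, map_mul, ← e1, ← e2]
    field_simp
  haveI : Algebra.IsGeometricallyReduced k L :=
    isGeometricallyReduced_of_isLocalization k (Localization.AtPrime P) L
      (nonZeroDivisors (Localization.AtPrime P))
  obtain ⟨m, hm, hfin, heq⟩ := exists_structure_eq p k (A ⧸ q) L hk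
  have hmn : m = n := by
    have : (m : WithBot ℕ∞) = (n : WithBot ℕ∞) := hm.symm.trans hn
    exact_mod_cast this
  refine ⟨hfin, ?_⟩
  rw [heq, finrank_ker_mapBaseChange_eq_zero k L, add_zero, hmn]

/-- **the characteristic `p` case**: for a geometrically regular localization, the localized
completed differentials are free of rank `dim A/q`. -/
theorem free_finrank_of_charP (hk : (frobenius k p).Finite)
    (hP : CAlg.IsGeometricallyRegular k (Localization.AtPrime P))
    (q : Ideal A) (hq : q ∈ minimalPrimes A) (hqP : q ≤ P) (n : ℕ)
    (hn : ringKrullDim (A ⧸ q) = n) :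
    Module.Free (Localization.AtPrime P)
        (LocalizedModule P.primeCompl (AdicCompletion (maximalIdeal A) (Ω[A⁄k]))) ∧
      Module.finrank (Localization.AtPrime P)
        (LocalizedModule P.primeCompl (AdicCompletion (maximalIdeal A) (Ω[A⁄k]))) = n := by
  obtain ⟨E⟩ := nonempty_equiv_kaehler_localization p k A P hk
  suffices h : Module.Free (Localization.AtPrime P) Ω[Localization.AtPrime P⁄k] ∧
      Module.finrank (Localization.AtPrime P) Ω[Localization.AtPrime P⁄k] = n by
    haveI := h.1
    exact ⟨Module.Free.of_equiv E.symm, by rw [E.finrank_eq]; exact h.2⟩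
  have hfs := (H5.NG.isGeometricallyRegular_iff_isAdicFormallySmooth k
    (Localization.AtPrime P)).mp hP
  haveI : IsRegularLocalRing (Localization.AtPrime P) :=
    Groth.Agent.H5.GR.isRegularLocalRing_of_isAdicFormallySmooth k _ hfs
  haveI : IsDomain (Localization.AtPrime P) := Groth.Agent.H7.Reg.isDomain _
  haveI : Algebra.IsGeometricallyReduced k (Localization.AtPrime P) :=
    Groth.Agent.H8.Jap.QE.isGeometricallyReduced_of_isGeometricallyRegular k _ hP
  haveI : Module.Finite A Ω[A⁄k] := finite_kaehler_of_complete p k A hk
  haveI : Module.Finite (Localization.AtPrime P) Ω[Localization.AtPrime P⁄k] :=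
    Module.Finite.of_isLocalizedModule P.primeCompl
      (KaehlerDifferential.map k k A (Localization.AtPrime P))
  have hproj : ∀ j : ℕ, Module.Projective
      (Localization.AtPrime P ⧸ maximalIdeal (Localization.AtPrime P) ^ j)
      ((Localization.AtPrime P ⧸ maximalIdeal (Localization.AtPrime P) ^ j)
        ⊗[Localization.AtPrime P] Ω[Localization.AtPrime P⁄k]) := by
    intro j
    refine Groth.Agent.H5.RJ.projective_tensor_kaehler
      (maximalIdeal (Localization.AtPrime P) ^ j) ?_
    intro T _ _ J hJ ψ hψ
    obtain ⟨c, hc⟩ := hψ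
    exact hfs T J hJ ψ ⟨j * c, by rw [pow_mul]; exact hc⟩
  haveI hfree : Module.Free (Localization.AtPrime P) Ω[Localization.AtPrime P⁄k] :=
    free_of_projective_quotients _ hproj
  refine ⟨hfree, ?_⟩
  obtain ⟨-, hrank⟩ := finrank_kaehler_frac_of_geomReduced p k A P hk q hq hqP n hn
    (FractionRing (Localization.AtPrime P))
  haveI : Algebra.FormallyEtale (Localization.AtPrime P) (FractionRing (Localization.AtPrime P)) :=
    Algebra.FormallyEtale.of_isLocalization (nonZeroDivisors (Localization.AtPrime P))
  have e := (KaehlerDifferential.tensorKaehlerEquivOfFormallyEtale k (Localization.AtPrime P)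
    (FractionRing (Localization.AtPrime P))).finrank_eq
  rw [← hrank, ← e, Module.finrank_baseChange]

end H2

end Groth.Agent.H5.CD
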