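import Mathlib
import Groth.Agent.Lib.Helper5.CD.D5

set_option autoImplicit false
universe u

open TensorProduct IsLocalRing

namespace Groth.Agent.H5.CD

section H3
variable (k A D L : Type u) [Field k] [CommRing A] [IsLocalRing A] [IsNoetherianRing A]
  [Algebra k A] [IsAdicComplete (maximalIdeal A) A] [Module.Finite k (ResidueField A)]
  [CommRing D] [IsDomain D] [Algebra A D] [Algebra k D] [IsScalarTower k A D]
  [Field L] [Algebra D L] [IsFractionRing D L] [Algebra A L] [IsScalarTower A D L]
  [Algebra k L] [IsScalarTower k D L] [IsScalarTower k A L]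

local notation "Ωh" => AdicCompletion (maximalIdeal A) (Ω[A⁄k])

theorem yel_add (a b : A) : yel k A L (a + b) = yel k A L a + yel k A L b := by
  unfold yel
  rw [map_add, map_add, TensorProduct.tmul_add]

theorem yel_mul (a b : A) :
    yel k A L (a * b) = algebraMap A L a • yel k A L b + algebraMap A L b • yel k A L a := by
  unfold yel
  rw [Derivation.leibniz, map_add, map_smul, map_smul, TensorProduct.tmul_add,
    TensorProduct.tmul_smul, TensorProduct.tmul_smul, algebraMap_smul, algebraMap_smul]

theorem yel_sum {ι : Type*} (s : Finset ι) (f : ι → A) :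
    yel k A L (∑ i ∈ s, f i) = ∑ i ∈ s, yel k A L (f i) := by
  unfold yel
  rw [map_sum, map_sum, TensorProduct.tmul_sum]

variable {k A L} in
theorem yel_mul_of_mem (P : Ideal A) (hP : ∀ a ∈ P, algebraMap A L a = 0) (c a : A)
    (ha : a ∈ P) : yel k A L (c * a) = algebraMap A L c • yel k A L a := by
  rw [yel_mul, hP a ha, zero_smul, add_zero]

include D in
/-- **Claim 1**: the differentials of elements of `P` span a subspace of dimension at most
`dim A_P` when `A_P` is regular. -/
theorem exists_finset_span_yel (P : Ideal A) [P.IsPrime]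
    (hP : ∀ a, algebraMap A L a = 0 ↔ a ∈ P)
    [IsRegularLocalRing (Localization.AtPrime P)] (r : ℕ)
    (hr : ringKrullDim (Localization.AtPrime P) = r) :
    ∃ T : Finset A, T.card ≤ r ∧
      ∀ a ∈ P, yel k A L a ∈ Submodule.span L ((yel k A L) '' (T : Set A)) := by
  classical
  have hfg : (maximalIdeal (Localization.AtPrime P)).FG := IsNoetherian.noetherian _
  obtain ⟨s, hscard, hsspan⟩ := Submodule.FG.exists_span_finset_card_eq_spanFinrank hfg
  have hreg := IsRegularLocalRing.spanFinrank_maximalIdeal (R := Localization.AtPrime P)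
  have hsr : s.card = r := by
    have : ((maximalIdeal (Localization.AtPrime P)).spanFinrank : WithBot ℕ∞) = (r : WithBot ℕ∞) :=
      hreg.trans hr
    rw [hscard]
    exact_mod_cast this
  -- numerators
  have hnum : ∀ γ : Localization.AtPrime P, ∃ (pγ : A) (tγ : P.primeCompl),
      γ * algebraMap A (Localization.AtPrime P) tγ = algebraMap A (Localization.AtPrime P) pγ := by
    intro γ
    obtain ⟨⟨pγ, tγ⟩, h⟩ := IsLocalization.surj P.primeCompl γ
    exact ⟨pγ, tγ, h⟩
  choose num den hnd using hnum
  refine ⟨s.image num, (Finset.card_image_le).trans hsr.le, ?_⟩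
  -- numerators of elements of `s` lie in `P`
  have hnumP : ∀ γ ∈ s, num γ ∈ P := by
    intro γ hγ
    have h1 : γ ∈ maximalIdeal (Localization.AtPrime P) := by
      rw [← hsspan]; exact Submodule.subset_span hγ
    have h2 : algebraMap A (Localization.AtPrime P) (num γ) ∈
        maximalIdeal (Localization.AtPrime P) := by
      rw [← hnd γ]; exact Ideal.mul_mem_right _ _ h1
    exact (IsLocalization.AtPrime.to_map_mem_maximal_iff (Localization.AtPrime P) P (num γ)).mp h2
  -- the maximal ideal is generated by the numerators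
  have hspan' : maximalIdeal (Localization.AtPrime P) =
      Submodule.span (Localization.AtPrime P)
        ((algebraMap A (Localization.AtPrime P)) '' ((s.image num : Finset A) : Set A)) := by
    apply le_antisymm
    · rw [← hsspan]
      refine Submodule.span_le.mpr ?_
      intro γ hγ
      have hu : IsUnit (algebraMap A (Localization.AtPrime P) (den γ)) :=
        IsLocalization.map_units _ (den γ)
      have h1 : γ = (↑hu.unit⁻¹ : Localization.AtPrime P) •
          algebraMap A (Localization.AtPrime P) (num γ) := by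
        rw [smul_eq_mul, ← hnd γ, mul_comm γ, ← mul_assoc, IsUnit.val_inv_mul, one_mul]
      rw [h1]
      refine Submodule.smul_mem _ _ (Submodule.subset_span ?_)
      exact ⟨num γ, Finset.mem_coe.mpr (Finset.mem_image_of_mem _ hγ), rfl⟩
    · refine Submodule.span_le.mpr ?_
      rintro _ ⟨a, ha, rfl⟩
      rw [Finset.mem_coe, Finset.mem_image] at ha
      obtain ⟨γ, hγ, rfl⟩ := ha
      exact (IsLocalization.AtPrime.to_map_mem_maximal_iff (Localization.AtPrime P) P _).mpr
        (hnumP γ hγ)
  intro a ha
  have h1 : algebraMap A (Localization.AtPrime P) a ∈ maximalIdeal (Localization.AtPrime P) :=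
    (IsLocalization.AtPrime.to_map_mem_maximal_iff (Localization.AtPrime P) P a).mpr ha
  rw [hspan', IsLocalization.mem_span_iff P.primeCompl] at h1
  obtain ⟨y, hy, z, hz⟩ := h1
  -- `y` is the image of an `A`-combination of the numerators
  have hy' : ∃ b ∈ Ideal.span ((s.image num : Finset A) : Set A),
      y = algebraMap A (Localization.AtPrime P) b := by
    refine Submodule.span_induction ?_ ?_ ?_ ?_ hy
    · rintro _ ⟨b, hb, rfl⟩
      exact ⟨b, Ideal.subset_span hb, rfl⟩
    · exact ⟨0, Ideal.zero_mem _, (map_zero _).symm⟩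
    · rintro _ _ _ _ ⟨b, hb, rfl⟩ ⟨c, hc, rfl⟩
      exact ⟨b + c, Ideal.add_mem _ hb hc, (map_add _ _ _).symm⟩
    · rintro c _ _ ⟨b, hb, rfl⟩
      exact ⟨c * b, Ideal.mul_mem_left _ _ hb, by rw [Algebra.smul_def, map_mul]⟩
  obtain ⟨b, hb, rfl⟩ := hy'
  -- `z * a = b` in the localization
  have h2 : algebraMap A (Localization.AtPrime P) ((z : A) * a) =
      algebraMap A (Localization.AtPrime P) b := by
    rw [map_mul, hz, smul_eq_mul, ← mul_assoc, IsLocalization.mk'_spec'_mk, map_one, one_mul]
  obtain ⟨z', hz'⟩ := (IsLocalization.eq_iff_exists P.primeCompl (Localization.AtPrime P)).mp h2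
  have hP0 : ∀ a ∈ P, algebraMap A L a = 0 := fun a ha => (hP a).mpr ha
  obtain ⟨c, -, hc⟩ := Submodule.mem_span_finset.mp hb
  have e1 : yel k A L ((z' : A) * ((z : A) * a)) =
      algebraMap A L ((z' : A) * (z : A)) • yel k A L a := by
    rw [← mul_assoc]
    exact yel_mul_of_mem P hP0 _ a ha
  have e2 : yel k A L ((z' : A) * b) =
      ∑ t ∈ s.image num, algebraMap A L ((z' : A) * c t) • yel k A L t := by
    rw [← hc, Finset.mul_sum, yel_sum]
    refine Finset.sum_congr rfl fun t ht => ?_
    rw [smul_eq_mul, ← mul_assoc]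
    refine yel_mul_of_mem P hP0 _ t ?_
    rw [Finset.mem_image] at ht
    obtain ⟨γ, hγ, rfl⟩ := ht
    exact hnumP γ hγ
  have hne : algebraMap A L ((z' : A) * (z : A)) ≠ 0 := by
    intro h0
    have := (hP _).mp h0
    rcases Ideal.IsPrime.mem_or_mem inferInstance this with h | h
    · exact z'.2 h
    · exact z.2 h
  have e3 : yel k A L a = (algebraMap A L ((z' : A) * (z : A)))⁻¹ •
      ∑ t ∈ s.image num, algebraMap A L ((z' : A) * c t) • yel k A L t := by
    rw [← e2, ← hz', e1, smul_smul, inv_mul_cancel₀ hne, one_smul]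
  rw [e3]
  refine Submodule.smul_mem _ _ (Submodule.sum_mem _ fun t ht => ?_)
  exact Submodule.smul_mem _ _ (Submodule.subset_span ⟨t, Finset.mem_coe.mpr ht, rfl⟩)

end H3

end Groth.Agent.H5.CD
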