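import Mathlib
import Groth.Agent.Lib.Helper5.CD.H3
import Groth.Agent.Lib.Helper5.CD.E2
import Groth.Agent.Lib.Helper8.Japanese.PSNormal

set_option autoImplicit false
universe u

open TensorProduct IsLocalRing

namespace Groth.Agent.H5.CD

section derivQuot
variable {k A D L : Type*} [CommRing k] [CommRing A] [CommRing D] [Algebra k A] [Algebra k D]
  [Algebra A D] [IsScalarTower k A D] [AddCommGroup L] [Module k L] [Module A L] [Module D L]
  [IsScalarTower A D L] [IsScalarTower k A L] [IsScalarTower k D L]

/-- a derivation vanishing on the kernel of a surjection descends to the quotient. -/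
theorem exists_derivation_quot (hsurj : Function.Surjective (algebraMap A D))
    (δ : Derivation k A L) (hδ : ∀ a, algebraMap A D a = 0 → δ a = 0) :
    ∃ δ' : Derivation k D L, ∀ a, δ' (algebraMap A D a) = δ a := by
  classical
  let g : D → L := fun x => δ (Function.surjInv hsurj x)
  have hg : ∀ a, g (algebraMap A D a) = δ a := by
    intro a
    have h1 : algebraMap A D (Function.surjInv hsurj (algebraMap A D a) - a) = 0 := by
      rw [map_sub, Function.surjInv_eq hsurj, sub_self]
    have h2 := hδ _ h1
    rw [map_sub, sub_eq_zero] at h2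
    exact h2
  let gl : D →ₗ[k] L :=
    { toFun := g
      map_add' := by
        intro x y
        obtain ⟨a, rfl⟩ := hsurj x
        obtain ⟨b, rfl⟩ := hsurj y
        rw [← map_add, hg, hg, hg, map_add]
      map_smul' := by
        intro c x
        obtain ⟨a, rfl⟩ := hsurj x
        have h1 : c • algebraMap A D a = algebraMap A D (c • a) :=
          (map_smul (IsScalarTower.toAlgHom k A D) c a).symm
        rw [RingHom.id_apply, h1, hg, hg, Derivation.map_smul] }
  refine ⟨Derivation.mk' gl ?_, fun a => hg a⟩
  intro x y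
  obtain ⟨a, rfl⟩ := hsurj x
  obtain ⟨b, rfl⟩ := hsurj y
  show g (algebraMap A D a * algebraMap A D b) = algebraMap A D a • g (algebraMap A D b) +
    algebraMap A D b • g (algebraMap A D a)
  rw [← map_mul, hg, hg, hg, Derivation.leibniz, algebraMap_smul, algebraMap_smul]

end derivQuot

section sep
variable (k : Type u) [Field k] [CharZero k] (s : ℕ) (D : Type u) [CommRing D] [IsDomain D]
  [Algebra (MvPowerSeries (Fin s) k) D] [Module.Finite (MvPowerSeries (Fin s) k) D]

/-- in characteristic zero a finite injective extension of `k[[T]]` has generically vanishing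
relative differentials. -/
theorem exists_ne_zero_smul_kaehler_eq_zero
    (hinj : Function.Injective (algebraMap (MvPowerSeries (Fin s) k) D)) :
    ∃ s₀ : D, s₀ ≠ 0 ∧ ∀ ω : Ω[D⁄MvPowerSeries (Fin s) k], s₀ • ω = 0 := by
  classical
  haveI : IsDomain (MvPowerSeries (Fin s) k) := NoZeroDivisors.to_isDomain _
  haveI : IsIntegrallyClosed (MvPowerSeries (Fin s) k) :=
    Groth.Agent.H8.Jap.mvPowerSeries_fin_isIntegrallyClosed k s
  haveI : FaithfulSMul (MvPowerSeries (Fin s) k) D :=
    (faithfulSMul_iff_algebraMap_injective _ _).mpr hinj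
  haveI : CharZero (MvPowerSeries (Fin s) k) :=
    charZero_of_injective_algebraMap (algebraMap k (MvPowerSeries (Fin s) k)).injective
  haveI : Algebra.IsIntegral (MvPowerSeries (Fin s) k) D := Algebra.IsIntegral.of_finite _ _
  obtain ⟨d, b, hb⟩ := Module.Finite.exists_fin (R := MvPowerSeries (Fin s) k) (M := D)
  have hQ0 : ∀ i, Polynomial.aeval (b i) (minpoly (MvPowerSeries (Fin s) k) (b i)) = 0 :=
    fun i => minpoly.aeval _ _
  have hQne : ∀ i, Polynomial.aeval (b i)
      (Polynomial.derivative (minpoly (MvPowerSeries (Fin s) k) (b i))) ≠ 0 := by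
    intro i h0
    have hint : IsIntegral (MvPowerSeries (Fin s) k) (b i) := Algebra.IsIntegral.isIntegral _
    have hdvd := minpoly.isIntegrallyClosed_dvd hint h0
    have hpos := minpoly.natDegree_pos hint
    have hne : Polynomial.derivative (minpoly (MvPowerSeries (Fin s) k) (b i)) ≠ 0 :=
      Polynomial.derivative_ne_zero.mpr hpos.ne'
    have h1 := Polynomial.natDegree_le_of_dvd hdvd hne
    have h2 := Polynomial.natDegree_derivative_lt hpos.ne'
    omega
  refine ⟨∏ i, Polynomial.aeval (b i)
    (Polynomial.derivative (minpoly (MvPowerSeries (Fin s) k) (b i))),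
    Finset.prod_ne_zero_iff.mpr fun i _ => hQne i, ?_⟩
  have hsb : ∀ i, (∏ i, Polynomial.aeval (b i)
      (Polynomial.derivative (minpoly (MvPowerSeries (Fin s) k) (b i)))) •
      KaehlerDifferential.D (MvPowerSeries (Fin s) k) D (b i) = 0 := by
    intro i
    have h1 : Polynomial.aeval (b i)
        (Polynomial.derivative (minpoly (MvPowerSeries (Fin s) k) (b i))) •
        KaehlerDifferential.D (MvPowerSeries (Fin s) k) D (b i) = 0 := by
      rw [← Derivation.map_aeval, hQ0 i, map_zero]
    rw [← Finset.mul_prod_erase Finset.univ _ (Finset.mem_univ i), mul_comm, mul_smul,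
      h1, smul_zero]
  intro ω
  have hω : ω ∈ Submodule.span D
      (Set.range (KaehlerDifferential.D (MvPowerSeries (Fin s) k) D)) := by
    rw [KaehlerDifferential.span_range_derivation]; trivial
  induction hω using Submodule.span_induction with
  | mem ω hω =>
    obtain ⟨a, rfl⟩ := hω
    have ha : a ∈ Submodule.span (MvPowerSeries (Fin s) k) (Set.range b) :=
      hb ▸ Submodule.mem_top
    obtain ⟨f, rfl⟩ :=
      (Submodule.mem_span_range_iff_exists_fun (MvPowerSeries (Fin s) k)).mp ha
    rw [map_sum, Finset.smul_sum]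
    refine Finset.sum_eq_zero fun i _ => ?_
    rw [Derivation.map_smul, smul_comm, hsb, smul_zero]
  | zero => rw [smul_zero]
  | add x y _ _ hx hy => rw [smul_add, hx, hy, add_zero]
  | smul a x _ hx => rw [smul_comm, hx, smul_zero]

end sep

section span
variable (k : Type u) [Field k] [CharZero k] (s : ℕ) (D L : Type u) [CommRing D] [IsDomain D]
  [IsLocalRing D] [IsNoetherianRing D] [Algebra k D] [IsAdicComplete (maximalIdeal D) D]
  [Module.Finite k (ResidueField D)]
  [Algebra (MvPowerSeries (Fin s) k) D] [IsScalarTower k (MvPowerSeries (Fin s) k) D]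
  [IsLocalHom (algebraMap (MvPowerSeries (Fin s) k) D)]
  [Module.Finite (MvPowerSeries (Fin s) k) D]
  [Field L] [Algebra D L] [IsFractionRing D L] [Algebra k L] [IsScalarTower k D L]

/-- in characteristic zero, `L ⊗ Ω̂_D` is spanned by the differentials of the parameters. -/
theorem span_yel_X (hinj : Function.Injective (algebraMap (MvPowerSeries (Fin s) k) D)) :
    Submodule.span L (Set.range fun j : Fin s =>
      yel k D L (algebraMap (MvPowerSeries (Fin s) k) D (MvPowerSeries.X j))) = ⊤ := by
  obtain ⟨s₀, hs0, hs⟩ := exists_ne_zero_smul_kaehler_eq_zero k s D hinj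
  rw [eq_top_iff]
  rintro z -
  induction z using TensorProduct.induction_on with
  | zero => exact Submodule.zero_mem _
  | add x y hx hy => exact Submodule.add_mem _ hx hy
  | tmul e x =>
    obtain ⟨c, hc⟩ := exists_smul_eq k s D s₀ hs x
    have hsE : algebraMap D L s₀ ≠ 0 := by
      intro h0
      exact hs0 ((IsFractionRing.injective D L) (h0.trans (map_zero _).symm))
    have h1 : e ⊗ₜ[D] x = (e * (algebraMap D L s₀)⁻¹) •
        ((1 : L) ⊗ₜ[D] (s₀ • x)) := by
      rw [TensorProduct.tmul_smul, ← algebraMap_smul L s₀, smul_smul, mul_assoc,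
        inv_mul_cancel₀ hsE, mul_one, TensorProduct.smul_tmul', smul_eq_mul, mul_one]
    rw [h1, hc, TensorProduct.tmul_sum]
    refine Submodule.smul_mem _ _ (Submodule.sum_mem _ fun j _ => ?_)
    rw [TensorProduct.tmul_smul, ← algebraMap_smul L]
    exact Submodule.smul_mem _ _ (Submodule.subset_span ⟨j, rfl⟩)

end span

end Groth.Agent.H5.CD
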