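import Mathlib
import Groth.Agent.Lib.Helper5.CD.H4
import Groth.Agent.Lib.Helper5.CD.D6

set_option autoImplicit false
universe u

open TensorProduct IsLocalRing

namespace Groth.Agent.H5.CD

section H5
variable (k A L : Type u) [Field k] [CharZero k] [CommRing A] [IsLocalRing A]
  [IsNoetherianRing A]
  [Algebra k A] [IsAdicComplete (maximalIdeal A) A] [Module.Finite k (ResidueField A)]
  (P : Ideal A) [P.IsPrime]
  [Field L] [Algebra (A ⧸ P) L] [IsFractionRing (A ⧸ P) L] [Algebra A L]
  [IsScalarTower A (A ⧸ P) L] [Algebra k L] [IsScalarTower k (A ⧸ P) L] [IsScalarTower k A L]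

local notation "Ωh" => AdicCompletion (maximalIdeal A) (Ω[A⁄k])

theorem algebraMap_eq_zero_iff_mem (a : A) : algebraMap A L a = 0 ↔ a ∈ P := by
  rw [IsScalarTower.algebraMap_apply A (A ⧸ P) L,
    map_eq_zero_iff _ (IsFractionRing.injective (A ⧸ P) L)]
  exact Ideal.Quotient.eq_zero_iff_mem

/-- **the fibre bound in characteristic zero**. -/
theorem finrank_le_add [IsRegularLocalRing (Localization.AtPrime P)] (r s : ℕ)
    (hr : ringKrullDim (Localization.AtPrime P) = r) (hs : ringKrullDim (A ⧸ P) = s) :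
    Module.finrank L (L ⊗[A] Ωh) ≤ r + s := by
  classical
  haveI := finite_Ωh k A
  obtain ⟨T, hTcard, hT⟩ := exists_finset_span_yel k A (A ⧸ P) L P
    (algebraMap_eq_zero_iff_mem A L P) r hr
  obtain ⟨s', w, hinj, hloc, hfin⟩ := NN.exists_finite_injective_field (k₀ := k) (A := A ⧸ P)
  letI algPD : Algebra (MvPowerSeries (Fin s') k) (A ⧸ P) := w.toRingHom.toAlgebra
  haveI : IsScalarTower k (MvPowerSeries (Fin s') k) (A ⧸ P) :=
    IsScalarTower.of_algebraMap_eq (fun c => (w.commutes c).symm)
  haveI : Module.Finite (MvPowerSeries (Fin s') k) (A ⧸ P) := hfin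
  haveI : IsLocalHom (algebraMap (MvPowerSeries (Fin s') k) (A ⧸ P)) := hloc
  have hinj' : Function.Injective (algebraMap (MvPowerSeries (Fin s') k) (A ⧸ P)) := hinj
  haveI : Algebra.IsIntegral (MvPowerSeries (Fin s') k) (A ⧸ P) := Algebra.IsIntegral.of_finite _ _
  have hdim : ringKrullDim (A ⧸ P) = ringKrullDim (MvPowerSeries (Fin s') k) :=
    Groth.Agent.H2.DimFG.ringKrullDim_eq_of_integral_injective _ _ hinj'
  have hdimP : ringKrullDim (MvPowerSeries (Fin s') k) = s' :=
    le_antisymm (Groth.Agent.H6.PSCot.ringKrullDim_mvPowerSeries_le s')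
      (Groth.Agent.H6.PSCot.ringKrullDim_mvPowerSeries_ge s')
  have hss : s' = s := by
    have : (s' : WithBot ℕ∞) = (s : WithBot ℕ∞) := hdimP.symm.trans (hdim.symm.trans hs)
    exact_mod_cast this
  -- lifts of the parameters
  have hlift : ∀ j : Fin s', ∃ a : A, Ideal.Quotient.mk P a = w (MvPowerSeries.X j) :=
    fun j => Ideal.Quotient.mk_surjective _
  choose x hx using hlift
  let G : Finset (L ⊗[A] Ωh) := T.image (yel k A L) ∪ Finset.univ.image (fun j => yel k A L (x j))
  have hGcard : G.card ≤ r + s := by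
    refine (Finset.card_union_le _ _).trans ?_
    refine add_le_add (Finset.card_image_le.trans hTcard) ?_
    refine Finset.card_image_le.trans ?_
    rw [Finset.card_univ, Fintype.card_fin, hss]
  have hGtop : Submodule.span L (G : Set (L ⊗[A] Ωh)) = ⊤ := by
    by_contra hne
    obtain ⟨φ, hφ0, hφ⟩ := Submodule.exists_le_ker_of_lt_top _ (lt_top_iff_ne_top.mpr hne)
    have hφG : ∀ g ∈ G, φ g = 0 := fun g hg => hφ (Submodule.subset_span hg)
    -- the derivation
    let δ : Derivation k A L :=
      ((φ.restrictScalars A) ∘ₗ (TensorProduct.mk A L Ωh 1) ∘ₗ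
        (AdicCompletion.of (maximalIdeal A) (Ω[A⁄k]))).compDer (KaehlerDifferential.D k A)
    have hδ : ∀ a, δ a = φ (yel k A L a) := fun a => rfl
    have hδP : ∀ a ∈ P, δ a = 0 := by
      intro a ha
      rw [hδ]
      refine hφ (Submodule.span_mono ?_ (hT a ha))
      intro v hv
      obtain ⟨t, ht, rfl⟩ := hv
      exact Finset.mem_coe.mpr (Finset.mem_union_left _ (Finset.mem_image_of_mem _ ht))
    obtain ⟨δ', hδ'⟩ := exists_derivation_quot (D := A ⧸ P) Ideal.Quotient.mk_surjective δ
      (fun a ha => hδP a (Ideal.Quotient.eq_zero_iff_mem.mp ha))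
    -- the finitely generated module of values
    obtain ⟨t, ω, hω⟩ := Module.Finite.exists_fin (R := A) (M := Ωh)
    let M : Submodule (A ⧸ P) L :=
      Submodule.span (A ⧸ P) (Set.range fun i => φ ((1 : L) ⊗ₜ[A] ω i))
    have hM : M.FG := Submodule.fg_span (Set.finite_range _)
    have hδ'M : ∀ y, δ' y ∈ M := by
      intro y
      obtain ⟨a, rfl⟩ := Ideal.Quotient.mk_surjective y
      have e0 : δ' (Ideal.Quotient.mk P a) = δ a := hδ' a
      rw [e0, hδ]
      have hmem : AdicCompletion.of (maximalIdeal A) (Ω[A⁄k]) (KaehlerDifferential.D k A a) ∈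
          Submodule.span A (Set.range ω) := hω ▸ Submodule.mem_top
      obtain ⟨c, hc⟩ := (Submodule.mem_span_range_iff_exists_fun A).mp hmem
      unfold yel
      rw [← hc, TensorProduct.tmul_sum, map_sum]
      refine Submodule.sum_mem _ fun i _ => ?_
      rw [TensorProduct.tmul_smul, ← algebraMap_smul L (c i), map_smul,
        IsScalarTower.algebraMap_apply A (A ⧸ P) L, algebraMap_smul]
      exact Submodule.smul_mem _ _ (Submodule.subset_span ⟨i, rfl⟩)
    obtain ⟨ψ, hψ⟩ := exists_dual_of_derivation (maximalIdeal (A ⧸ P)) δ' M hM hδ'M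
    have hψ0 : ψ = 0 := by
      apply LinearMap.ext_on_range (span_yel_X k s' (A ⧸ P) L hinj')
      intro j
      rw [LinearMap.zero_apply]
      show ψ ((1 : L) ⊗ₜ[A ⧸ P] AdicCompletion.of _ _ (KaehlerDifferential.D k (A ⧸ P)
        (w (MvPowerSeries.X j)))) = 0
      rw [hψ, ← hx j]
      have e0 : δ' (Ideal.Quotient.mk P (x j)) = δ (x j) := hδ' (x j)
      rw [e0, hδ]
      exact hφG _ (Finset.mem_union_right _ (Finset.mem_image_of_mem _ (Finset.mem_univ j)))
    have hδ0 : ∀ a, φ (yel k A L a) = 0 := by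
      intro a
      rw [← hδ, ← hδ' a]
      show δ' (Ideal.Quotient.mk P a) = 0
      rw [← hψ, hψ0, LinearMap.zero_apply]
    apply hφ0
    apply LinearMap.ext_on_range (span_yel k A L)
    intro a
    rw [hδ0, LinearMap.zero_apply]
  have h1 := finrank_span_finset_le_card (R := L) G
  unfold Set.finrank at h1
  rw [hGtop, finrank_top] at h1
  exact h1.trans hGcard

end H5

end Groth.Agent.H5.CD
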