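import Mathlib
import Groth.Agent.Lib.Helper5.CD.H2
import Groth.Agent.Lib.Helper5.CD.H5
import Groth.Agent.Lib.Helper6.CMEqui
import Groth.Agent.Lib.Helper6.GorReg

set_option autoImplicit false
universe u

open TensorProduct IsLocalRing

namespace Groth.Agent.H5.CD

section dim
variable {A : Type u} [CommRing A] (P q : Ideal A) [P.IsPrime] [q.IsPrime]

/-- `dim A/P + dim A_P ≤ dim A/q` when `q` is the minimal prime under `P` and `A_P` is a domain. -/
theorem dim_quotient_add_dim_localization_le [IsDomain (Localization.AtPrime P)]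
    (hq : q ∈ minimalPrimes A) (hqP : q ≤ P) :
    ringKrullDim (A ⧸ P) + ringKrullDim (Localization.AtPrime P) ≤ ringKrullDim (A ⧸ q) := by
  haveI hQ : (P.map (Ideal.Quotient.mk q)).IsPrime :=
    Ideal.map_isPrime_of_surjective Ideal.Quotient.mk_surjective (by rw [Ideal.mk_ker]; exact hqP)
  have h1 := Groth.Agent.H6.Bass.height_add_ringKrullDim_quotient_le
    (⟨P.map (Ideal.Quotient.mk q), hQ⟩ : PrimeSpectrum (A ⧸ q))
  have h2 : ringKrullDim ((A ⧸ q) ⧸ P.map (Ideal.Quotient.mk q)) = ringKrullDim (A ⧸ P) :=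
    ringKrullDim_eq_of_ringEquiv (DoubleQuot.quotQuotEquivQuotOfLE hqP)
  have h3 := Groth.Agent.H6.CMEqui.ringKrullDim_localization_quotient_ideal q P hqP
  have h4 : q.map (algebraMap A (Localization.AtPrime P)) = ⊥ := by
    rw [eq_bot_iff, Ideal.map_le_iff_le_comap]
    intro a ha
    rw [Ideal.mem_comap, Ideal.mem_bot]
    exact algebraMap_eq_zero_of_mem_minimalPrime P q hq hqP a ha
  rw [h4] at h3
  have h5 : ringKrullDim (Localization.AtPrime P ⧸ (⊥ : Ideal (Localization.AtPrime P))) =
      ringKrullDim (Localization.AtPrime P) :=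
    ringKrullDim_eq_of_ringEquiv (RingEquiv.quotientBot _)
  change ringKrullDim ((A ⧸ q) ⧸ P.map (Ideal.Quotient.mk q)) +
    ((P.map (Ideal.Quotient.mk q)).height : WithBot ℕ∞) ≤ _ at h1
  rw [h2, ← h3, h5] at h1
  exact h1

end dim

section gen
variable {A : Type u} [CommRing A] (P : Ideal A) [P.IsPrime]
  (N : Type u) [AddCommGroup N] [Module A N] [Module.Finite A N]

/-- a finite module whose fibre at `P` has dimension at most `n` is generated by `n` elements at
`P`. -/
theorem exists_gen_of_finrank_fiber_le (n : ℕ)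
    (h : Module.finrank P.ResidueField (P.ResidueField ⊗[A] N) ≤ n) :
    ∃ g : Fin n → LocalizedModule P.primeCompl N,
      Submodule.span (Localization.AtPrime P) (Set.range g) = ⊤ := by
  classical
  let e1 : Localization.AtPrime P ⊗[A] N ≃ₗ[Localization.AtPrime P]
      LocalizedModule P.primeCompl N :=
    (IsLocalizedModule.isBaseChange P.primeCompl (Localization.AtPrime P)
      (LocalizedModule.mkLinearMap P.primeCompl N)).equiv
  let E : P.ResidueField ⊗[Localization.AtPrime P] LocalizedModule P.primeCompl N ≃ₗ[P.ResidueField]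
      P.ResidueField ⊗[A] N :=
    (e1.symm.baseChange (Localization.AtPrime P) P.ResidueField _ _) ≪≫ₗ
      (TensorProduct.AlgebraTensorModule.cancelBaseChange A (Localization.AtPrime P)
        P.ResidueField P.ResidueField N)
  haveI : Module.Finite (Localization.AtPrime P) (LocalizedModule P.primeCompl N) :=
    Module.Finite.of_isLocalizedModule P.primeCompl (LocalizedModule.mkLinearMap P.primeCompl N)
  obtain ⟨d, ⟨bk⟩⟩ : ∃ d : ℕ, Nonempty (Module.Basis (Fin d) P.ResidueField
      (P.ResidueField ⊗[Localization.AtPrime P] LocalizedModule P.primeCompl N)) :=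
    ⟨_, ⟨Module.finBasis _ _⟩⟩
  have hd : d ≤ n := by
    have h1 := Module.finrank_eq_card_basis bk
    rw [Fintype.card_fin] at h1
    rw [← h1, E.finrank_eq]
    exact h
  have hmk : ∀ i, ∃ m : LocalizedModule P.primeCompl N,
      (1 : P.ResidueField) ⊗ₜ[Localization.AtPrime P] m = bk i := fun i =>
    TensorProduct.mk_surjective (Localization.AtPrime P) (LocalizedModule P.primeCompl N)
      P.ResidueField residue_surjective (bk i)
  choose v hv using hmk
  have hspan : Submodule.span (Localization.AtPrime P) (Set.range v) = ⊤ :=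
    IsLocalRing.span_eq_top_of_tmul_eq_basis v bk hv
  refine ⟨fun i => if h : (i : ℕ) < d then v ⟨i, h⟩ else 0, ?_⟩
  rw [eq_top_iff, ← hspan]
  refine Submodule.span_mono ?_
  rintro _ ⟨j, rfl⟩
  refine ⟨⟨j, lt_of_lt_of_le j.2 hd⟩, ?_⟩
  simp

end gen

end Groth.Agent.H5.CD
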