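import Mathlib
import Groth.Agent.Lib.Helper5.CD.H6

set_option autoImplicit false
universe u

open TensorProduct IsLocalRing

namespace Groth.Agent.H5.CD

section H7
variable (k A : Type u) [Field k] [CommRing A] [IsLocalRing A]
  [IsNoetherianRing A] [Algebra k A] [IsAdicComplete (maximalIdeal A) A]
  [Module.Finite k (ResidueField A)] (P : Ideal A) [P.IsPrime]

/-- **the characteristic zero case**. -/
theorem free_finrank_of_charZero [CharZero k]
    (hP : CAlg.IsGeometricallyRegular k (Localization.AtPrime P))
    (q : Ideal A) (hq : q ∈ minimalPrimes A) (hqP : q ≤ P) (n : ℕ)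
    (hn : ringKrullDim (A ⧸ q) = n) :
    Module.Free (Localization.AtPrime P)
        (LocalizedModule P.primeCompl (AdicCompletion (maximalIdeal A) (Ω[A⁄k]))) ∧
      Module.finrank (Localization.AtPrime P)
        (LocalizedModule P.primeCompl (AdicCompletion (maximalIdeal A) (Ω[A⁄k]))) = n := by
  haveI : q.IsPrime := hq.1.1
  have hfs := (H5.NG.isGeometricallyRegular_iff_isAdicFormallySmooth k
    (Localization.AtPrime P)).mp hP
  haveI : IsRegularLocalRing (Localization.AtPrime P) :=
    Groth.Agent.H5.GR.isRegularLocalRing_of_isAdicFormallySmooth k _ hfs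
  haveI : IsDomain (Localization.AtPrime P) := Groth.Agent.H7.Reg.isDomain _
  haveI := finite_Ωh k A
  -- the two dimensions
  have hr : ringKrullDim (Localization.AtPrime P) =
      ((maximalIdeal (Localization.AtPrime P)).spanFinrank : ℕ) :=
    (IsRegularLocalRing.spanFinrank_maximalIdeal (R := Localization.AtPrime P)).symm
  have hle := dim_quotient_add_dim_localization_le P q hq hqP
  rw [hn, hr] at hle
  obtain ⟨s, hs⟩ : ∃ s : ℕ, ringKrullDim (A ⧸ P) = s := by
    have h0 : (0 : WithBot ℕ∞) ≤ ringKrullDim (A ⧸ P) := ringKrullDim_nonneg_of_nontrivial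
    have h1 : ringKrullDim (A ⧸ P) ≤ (n : WithBot ℕ∞) :=
      le_trans (le_add_of_nonneg_right (by exact_mod_cast Nat.zero_le _)) hle
    generalize ringKrullDim (A ⧸ P) = x at h0 h1
    induction x with
    | bot => exact absurd h0 (by simp)
    | coe y =>
      have hy : y ≤ (n : ℕ∞) := by exact_mod_cast h1
      obtain ⟨c, rfl⟩ := ENat.ne_top_iff_exists.mp (ne_top_of_le_ne_top (ENat.coe_ne_top n) hy)
      exact ⟨c, by norm_cast⟩
  rw [hs] at hle
  have hle' : (maximalIdeal (Localization.AtPrime P)).spanFinrank + s ≤ n := by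
    have : ((s + (maximalIdeal (Localization.AtPrime P)).spanFinrank : ℕ) : WithBot ℕ∞) ≤
        (n : WithBot ℕ∞) := by push_cast; exact hle
    have h2 : s + (maximalIdeal (Localization.AtPrime P)).spanFinrank ≤ n := by exact_mod_cast this
    omega
  have hfib := finrank_le_add k A P.ResidueField P _ s hr hs
  obtain ⟨g, hg⟩ := exists_gen_of_finrank_fiber_le P
    (AdicCompletion (maximalIdeal A) (Ω[A⁄k])) n (hfib.trans hle')
  have hn' : n ≤ Module.finrank q.ResidueField
      (q.ResidueField ⊗[A] AdicCompletion (maximalIdeal A) (Ω[A⁄k])) := by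
    have h1 := le_finrank_fiber k A q
    rw [hn] at h1
    exact_mod_cast h1
  exact free_of_span_of_le_finrank P q _ hq hqP g hg hn'

end H7

end Groth.Agent.H5.CD
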