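import Mathlib

set_option autoImplicit false
universe u

namespace Groth.Agent.H5.CD

/-- linearly independent vectors in `K^r` have a nonvanishing maximal minor. -/
theorem exists_minor_ne_zero {K : Type*} [Field K] {r m : ℕ} (c : Fin m → (Fin r → K))
    (hc : LinearIndependent K c) :
    ∃ σ : Fin m → Fin r, Matrix.det (Matrix.of fun i j => c j (σ i)) ≠ 0 := by
  classical
  let N : Matrix (Fin r) (Fin m) K := Matrix.of fun l j => c j l
  have hNT : N.transpose.row = c := by
    funext j l
    rfl
  have hrank : N.rank = m := by
    rw [← Matrix.rank_transpose]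
    have := LinearIndependent.rank_matrix (M := N.transpose) (by rw [hNT]; exact hc)
    rw [this, Fintype.card_fin]
  have hspan : Submodule.span K (Set.range N.row) = ⊤ := by
    apply Submodule.eq_top_of_finrank_eq
    rw [← Matrix.rank_eq_finrank_span_row, hrank, Module.finrank_fintype_fun_eq_card,
      Fintype.card_fin]
  obtain ⟨b, hbsub, hbspan, hbli⟩ := exists_linearIndependent K (Set.range N.row)
  rw [hspan] at hbspan
  haveI : Finite b := hbli.finite
  haveI : Fintype b := Fintype.ofFinite b
  have hcard : Fintype.card b = m := by
    have h1 := linearIndependent_iff_card_eq_finrank_span.mp hbli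
    rw [h1, Set.finrank, Subtype.range_coe_subtype, Set.setOf_mem_eq, hbspan, finrank_top,
      Module.finrank_fintype_fun_eq_card, Fintype.card_fin]
  let e : Fin m ≃ b := (Fintype.equivFinOfCardEq hcard).symm
  have hex : ∀ i : Fin m, ∃ l : Fin r, N.row l = (e i : Fin m → K) := fun i => hbsub (e i).2
  choose σ hσ using hex
  refine ⟨σ, ?_⟩
  let M' : Matrix (Fin m) (Fin m) K := Matrix.of fun i j => c j (σ i)
  have hrow : M'.row = fun i => (e i : Fin m → K) := by
    funext i
    rw [← hσ i]
    rfl
  have hli : LinearIndependent K M'.row := by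
    rw [hrow]
    exact hbli.comp e e.injective
  have hu := Matrix.linearIndependent_rows_iff_isUnit.mp hli
  have hdet := (Matrix.isUnit_iff_isUnit_det M').mp hu
  exact hdet.ne_zero

end Groth.Agent.H5.CD
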