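import Mathlib
import Groth.Agent.Lib.Helper5.CD.H5

set_option autoImplicit false
universe u

open TensorProduct IsLocalRing

namespace Groth.Agent.H5.CD

section sepI
variable (k : Type u) [Field k] (s : ℕ) (D : Type u) [CommRing D] [IsDomain D]
  [Algebra (MvPowerSeries (Fin s) k) D] [Module.Finite (MvPowerSeries (Fin s) k) D]
  (L' L : Type u) [Field L'] [Field L]
  [Algebra (MvPowerSeries (Fin s) k) L'] [IsFractionRing (MvPowerSeries (Fin s) k) L']
  [Algebra D L] [IsFractionRing D L] [Algebra L' L] [Algebra (MvPowerSeries (Fin s) k) L]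
  [IsScalarTower (MvPowerSeries (Fin s) k) D L] [IsScalarTower (MvPowerSeries (Fin s) k) L' L]
  [Algebra.IsSeparable L' L]

include L' L in
/-- a finite injective extension of `k[[T]]` with separable fraction field extension has
generically vanishing relative differentials. -/
theorem exists_ne_zero_smul_kaehler_eq_zero_of_isSeparable
    (hinj : Function.Injective (algebraMap (MvPowerSeries (Fin s) k) D)) :
    ∃ s₀ : D, s₀ ≠ 0 ∧ ∀ ω : Ω[D⁄MvPowerSeries (Fin s) k], s₀ • ω = 0 := by
  classical
  haveI : IsDomain (MvPowerSeries (Fin s) k) := NoZeroDivisors.to_isDomain _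
  haveI : IsIntegrallyClosed (MvPowerSeries (Fin s) k) :=
    Groth.Agent.H8.Jap.mvPowerSeries_fin_isIntegrallyClosed k s
  haveI : FaithfulSMul (MvPowerSeries (Fin s) k) D :=
    (faithfulSMul_iff_algebraMap_injective _ _).mpr hinj
  haveI : Algebra.IsIntegral (MvPowerSeries (Fin s) k) D := Algebra.IsIntegral.of_finite _ _
  obtain ⟨d, b, hb⟩ := Module.Finite.exists_fin (R := MvPowerSeries (Fin s) k) (M := D)
  have hQ0 : ∀ i, Polynomial.aeval (b i) (minpoly (MvPowerSeries (Fin s) k) (b i)) = 0 :=
    fun i => minpoly.aeval _ _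
  have hQne : ∀ i, Polynomial.aeval (b i)
      (Polynomial.derivative (minpoly (MvPowerSeries (Fin s) k) (b i))) ≠ 0 := by
    intro i h0
    have hint : IsIntegral (MvPowerSeries (Fin s) k) (b i) := Algebra.IsIntegral.isIntegral _
    have hmin := minpoly.isIntegrallyClosed_eq_field_fractions L' L hint
    have hsep : (minpoly L' (algebraMap D L (b i))).Separable :=
      Algebra.IsSeparable.isSeparable L' _
    have h1 := hsep.aeval_derivative_ne_zero (minpoly.aeval L' (algebraMap D L (b i)))
    apply h1
    rw [hmin, Polynomial.derivative_map, Polynomial.aeval_map_algebraMap,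
      Polynomial.aeval_algebraMap_apply, h0, map_zero]
  refine ⟨∏ i, Polynomial.aeval (b i)
    (Polynomial.derivative (minpoly (MvPowerSeries (Fin s) k) (b i))),
    Finset.prod_ne_zero_iff.mpr fun i _ => hQne i, ?_⟩
  have hsb : ∀ i, (∏ i, Polynomial.aeval (b i)
      (Polynomial.derivative (minpoly (MvPowerSeries (Fin s) k) (b i)))) •
      KaehlerDifferential.D (MvPowerSeries (Fin s) k) D (b i) = 0 := by
    intro i
    have h1 : Polynomial.aeval (b i)
        (Polynomial.derivative (minpoly (MvPowerSeries (Fin s) k) (b i))) •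
        KaehlerDifferential.D (MvPowerSeries (Fin s) k) D (b i) = 0 := by
      rw [← Derivation.map_aeval, hQ0 i, map_zero]
    rw [← Finset.mul_prod_erase Finset.univ _ (Finset.mem_univ i), mul_comm, mul_smul,
      h1, smul_zero]
  intro ω
  have hω : ω ∈ Submodule.span D
      (Set.range (KaehlerDifferential.D (MvPowerSeries (Fin s) k) D)) := by
    rw [KaehlerDifferential.span_range_derivation]; trivial
  induction hω using Submodule.span_induction with
  | mem ω hω =>
    obtain ⟨a, rfl⟩ := hω
    have ha : a ∈ Submodule.span (MvPowerSeries (Fin s) k) (Set.range b) :=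
      hb ▸ Submodule.mem_top
    obtain ⟨f, rfl⟩ :=
      (Submodule.mem_span_range_iff_exists_fun (MvPowerSeries (Fin s) k)).mp ha
    rw [map_sum, Finset.smul_sum]
    refine Finset.sum_eq_zero fun i _ => ?_
    rw [Derivation.map_smul, smul_comm, hsb, smul_zero]
  | zero => rw [smul_zero]
  | add x y _ _ hx hy => rw [smul_add, hx, hy, add_zero]
  | smul a x _ hx => rw [smul_comm, hx, smul_zero]

end sepI

section spanI
variable (k : Type u) [Field k] (s : ℕ) (D L : Type u) [CommRing D] [IsDomain D]
  [IsLocalRing D] [IsNoetherianRing D] [Algebra k D] [IsAdicComplete (maximalIdeal D) D]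
  [Module.Finite k (ResidueField D)]
  [Algebra (MvPowerSeries (Fin s) k) D] [IsScalarTower k (MvPowerSeries (Fin s) k) D]
  [IsLocalHom (algebraMap (MvPowerSeries (Fin s) k) D)]
  [Module.Finite (MvPowerSeries (Fin s) k) D]
  [Field L] [Algebra D L] [IsFractionRing D L] [Algebra k L] [IsScalarTower k D L]

/-- `L ⊗ Ω̂_D` is spanned by the differentials of the parameters when the relative differentials
vanish generically. -/
theorem span_yel_X_of_smul (s₀ : D) (hs0 : s₀ ≠ 0)
    (hs : ∀ ω : Ω[D⁄MvPowerSeries (Fin s) k], s₀ • ω = 0) :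
    Submodule.span L (Set.range fun j : Fin s =>
      yel k D L (algebraMap (MvPowerSeries (Fin s) k) D (MvPowerSeries.X j))) = ⊤ := by
  rw [eq_top_iff]
  rintro z -
  induction z using TensorProduct.induction_on with
  | zero => exact Submodule.zero_mem _
  | add x y hx hy => exact Submodule.add_mem _ hx hy
  | tmul e x =>
    obtain ⟨c, hc⟩ := exists_smul_eq k s D s₀ hs x
    have hsE : algebraMap D L s₀ ≠ 0 := by
      intro h0
      exact hs0 ((IsFractionRing.injective D L) (h0.trans (map_zero _).symm))
    have h1 : e ⊗ₜ[D] x = (e * (algebraMap D L s₀)⁻¹) •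
        ((1 : L) ⊗ₜ[D] (s₀ • x)) := by
      rw [TensorProduct.tmul_smul, ← algebraMap_smul L s₀, smul_smul, mul_assoc,
        inv_mul_cancel₀ hsE, mul_one, TensorProduct.smul_tmul', smul_eq_mul, mul_one]
    rw [h1, hc, TensorProduct.tmul_sum]
    refine Submodule.smul_mem _ _ (Submodule.sum_mem _ fun j _ => ?_)
    rw [TensorProduct.tmul_smul, ← algebraMap_smul L]
    exact Submodule.smul_mem _ _ (Submodule.subset_span ⟨j, rfl⟩)

end spanI

end Groth.Agent.H5.CD
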