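import Mathlib
import Groth.Agent.Lib.Helper5.CD.I1

set_option autoImplicit false
universe u

open TensorProduct IsLocalRing

namespace Groth.Agent.H5.CD

section I2
variable (k A L : Type u) [Field k] [CommRing A] [IsLocalRing A]
  [IsNoetherianRing A]
  [Algebra k A] [IsAdicComplete (maximalIdeal A) A] [Module.Finite k (ResidueField A)]
  (P : Ideal A) [P.IsPrime]
  [Field L] [Algebra (A ⧸ P) L] [IsFractionRing (A ⧸ P) L] [Algebra A L]
  [IsScalarTower A (A ⧸ P) L] [Algebra k L] [IsScalarTower k (A ⧸ P) L] [IsScalarTower k A L]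
  (s : ℕ) [Algebra (MvPowerSeries (Fin s) k) (A ⧸ P)]
  [IsScalarTower k (MvPowerSeries (Fin s) k) (A ⧸ P)]
  [Module.Finite (MvPowerSeries (Fin s) k) (A ⧸ P)]
  [IsLocalHom (algebraMap (MvPowerSeries (Fin s) k) (A ⧸ P))]

local notation "Ωh" => AdicCompletion (maximalIdeal A) (Ω[A⁄k])

/-- the differentials of the elements of `P` together with those of lifts of the parameters
span `L ⊗ Ω̂_A`. -/
theorem span_yel_sup_eq_top (s₀ : A ⧸ P) (hs0 : s₀ ≠ 0)
    (hs : ∀ ω : Ω[(A ⧸ P)⁄MvPowerSeries (Fin s) k], s₀ • ω = 0)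
    (x : Fin s → A)
    (hx : ∀ j, Ideal.Quotient.mk P (x j) =
      algebraMap (MvPowerSeries (Fin s) k) (A ⧸ P) (MvPowerSeries.X j)) :
    Submodule.span L ((yel k A L) '' (P : Set A)) ⊔
      Submodule.span L (Set.range fun j => yel k A L (x j)) = ⊤ := by
  classical
  haveI := finite_Ωh k A
  by_contra hne
  obtain ⟨φ, hφ0, hφ⟩ := Submodule.exists_le_ker_of_lt_top _ (lt_top_iff_ne_top.mpr hne)
  -- the derivation
  let δ : Derivation k A L :=
    ((φ.restrictScalars A) ∘ₗ (TensorProduct.mk A L Ωh 1) ∘ₗ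
      (AdicCompletion.of (maximalIdeal A) (Ω[A⁄k]))).compDer (KaehlerDifferential.D k A)
  have hδ : ∀ a, δ a = φ (yel k A L a) := fun a => rfl
  have hδP : ∀ a ∈ P, δ a = 0 := by
    intro a ha
    rw [hδ]
    exact hφ (Submodule.mem_sup_left (Submodule.subset_span ⟨a, ha, rfl⟩))
  obtain ⟨δ', hδ'⟩ := exists_derivation_quot (D := A ⧸ P) Ideal.Quotient.mk_surjective δ
    (fun a ha => hδP a (Ideal.Quotient.eq_zero_iff_mem.mp ha))
  -- the finitely generated module of values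
  obtain ⟨t, ω, hω⟩ := Module.Finite.exists_fin (R := A) (M := Ωh)
  let M : Submodule (A ⧸ P) L :=
    Submodule.span (A ⧸ P) (Set.range fun i => φ ((1 : L) ⊗ₜ[A] ω i))
  have hM : M.FG := Submodule.fg_span (Set.finite_range _)
  have hδ'M : ∀ y, δ' y ∈ M := by
    intro y
    obtain ⟨a, rfl⟩ := Ideal.Quotient.mk_surjective y
    have e0 : δ' (Ideal.Quotient.mk P a) = δ a := hδ' a
    rw [e0, hδ]
    have hmem : AdicCompletion.of (maximalIdeal A) (Ω[A⁄k]) (KaehlerDifferential.D k A a) ∈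
        Submodule.span A (Set.range ω) := hω ▸ Submodule.mem_top
    obtain ⟨c, hc⟩ := (Submodule.mem_span_range_iff_exists_fun A).mp hmem
    unfold yel
    rw [← hc, TensorProduct.tmul_sum, map_sum]
    refine Submodule.sum_mem _ fun i _ => ?_
    rw [TensorProduct.tmul_smul, ← algebraMap_smul L (c i), map_smul,
      IsScalarTower.algebraMap_apply A (A ⧸ P) L, algebraMap_smul]
    exact Submodule.smul_mem _ _ (Submodule.subset_span ⟨i, rfl⟩)
  obtain ⟨ψ, hψ⟩ := exists_dual_of_derivation (maximalIdeal (A ⧸ P)) δ' M hM hδ'M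
  have hψ0 : ψ = 0 := by
    apply LinearMap.ext_on_range (span_yel_X_of_smul k s (A ⧸ P) L s₀ hs0 hs)
    intro j
    rw [LinearMap.zero_apply]
    show ψ ((1 : L) ⊗ₜ[A ⧸ P] AdicCompletion.of _ _ (KaehlerDifferential.D k (A ⧸ P)
      (algebraMap (MvPowerSeries (Fin s) k) (A ⧸ P) (MvPowerSeries.X j)))) = 0
    rw [hψ, ← hx j]
    have e0 : δ' (Ideal.Quotient.mk P (x j)) = δ (x j) := hδ' (x j)
    rw [e0, hδ]
    exact hφ (Submodule.mem_sup_right (Submodule.subset_span ⟨j, rfl⟩))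
  have hδ0 : ∀ a, φ (yel k A L a) = 0 := by
    intro a
    rw [← hδ, ← hδ' a]
    show δ' (Ideal.Quotient.mk P a) = 0
    rw [← hψ, hψ0, LinearMap.zero_apply]
  apply hφ0
  apply LinearMap.ext_on_range (span_yel k A L)
  intro a
  rw [hδ0, LinearMap.zero_apply]

end I2

end Groth.Agent.H5.CD
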