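import Mathlib
import Groth.Agent.Lib.Helper5.CD.I2

set_option autoImplicit false
universe u

open TensorProduct IsLocalRing

namespace Groth.Agent.H5.CD

section I3
variable (k A L : Type u) [Field k] [CommRing A] [IsLocalRing A]
  [IsNoetherianRing A]
  [Algebra k A] [IsAdicComplete (maximalIdeal A) A] [Module.Finite k (ResidueField A)]
  (P : Ideal A) [P.IsPrime]
  [Field L] [Algebra (A ⧸ P) L] [IsFractionRing (A ⧸ P) L] [Algebra A L]
  [IsScalarTower A (A ⧸ P) L] [Algebra k L] [IsScalarTower k (A ⧸ P) L] [IsScalarTower k A L]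

local notation "Ωh" => AdicCompletion (maximalIdeal A) (Ω[A⁄k])

theorem yel_zero : yel k A L (0 : A) = 0 := by
  unfold yel
  rw [map_zero, map_zero, TensorProduct.tmul_zero]

/-- differentials of elements of the ideal generated by `G ⊆ P` lie in the span of the
differentials of `G`. -/
theorem yel_mem_span_of_mem_span (G : Set A) (hG : G ⊆ P) (b : A) (hb : b ∈ Ideal.span G) :
    yel k A L b ∈ Submodule.span L ((yel k A L) '' G) := by
  have hP0 : ∀ a ∈ P, algebraMap A L a = 0 :=
    fun a ha => (algebraMap_eq_zero_iff_mem A L P a).mpr ha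
  have hGP : Ideal.span G ≤ P := Ideal.span_le.mpr hG
  induction hb using Submodule.span_induction with
  | mem b hb => exact Submodule.subset_span ⟨b, hb, rfl⟩
  | zero => rw [yel_zero]; exact Submodule.zero_mem _
  | add x y _ _ hx hy => rw [yel_add]; exact Submodule.add_mem _ hx hy
  | smul c x hx ih =>
    rw [smul_eq_mul, yel_mul_of_mem P hP0 c x (hGP hx)]
    exact Submodule.smul_mem _ _ ih

/-- if the images of `G ⊆ P` generate the maximal ideal of `A_P`, the differentials of `G`
span those of `P`. -/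
theorem yel_mem_span_of_span_eq (G : Set A) (hG : G ⊆ P)
    (hspan : maximalIdeal (Localization.AtPrime P) =
      Ideal.span ((algebraMap A (Localization.AtPrime P)) '' G))
    (a : A) (ha : a ∈ P) :
    yel k A L a ∈ Submodule.span L ((yel k A L) '' G) := by
  have hP0 : ∀ a ∈ P, algebraMap A L a = 0 :=
    fun a ha => (algebraMap_eq_zero_iff_mem A L P a).mpr ha
  have h1 : algebraMap A (Localization.AtPrime P) a ∈ maximalIdeal (Localization.AtPrime P) :=
    (IsLocalization.AtPrime.to_map_mem_maximal_iff (Localization.AtPrime P) P a).mpr ha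
  rw [hspan] at h1
  have h1' : algebraMap A (Localization.AtPrime P) a ∈
      Submodule.span (Localization.AtPrime P) ((algebraMap A (Localization.AtPrime P)) '' G) := h1
  rw [IsLocalization.mem_span_iff P.primeCompl] at h1'
  obtain ⟨y, hy, z, hz⟩ := h1'
  have hy' : ∃ b ∈ Ideal.span G, y = algebraMap A (Localization.AtPrime P) b := by
    refine Submodule.span_induction ?_ ?_ ?_ ?_ hy
    · rintro _ ⟨b, hb, rfl⟩
      exact ⟨b, Ideal.subset_span hb, rfl⟩
    · exact ⟨0, Ideal.zero_mem _, (map_zero _).symm⟩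
    · rintro _ _ _ _ ⟨b, hb, rfl⟩ ⟨c, hc, rfl⟩
      exact ⟨b + c, Ideal.add_mem _ hb hc, (map_add _ _ _).symm⟩
    · rintro c _ _ ⟨b, hb, rfl⟩
      exact ⟨c * b, Ideal.mul_mem_left _ _ hb, by rw [Algebra.smul_def, map_mul]⟩
  obtain ⟨b, hb, rfl⟩ := hy'
  have h2 : algebraMap A (Localization.AtPrime P) ((z : A) * a) =
      algebraMap A (Localization.AtPrime P) b := by
    rw [map_mul, hz, smul_eq_mul, ← mul_assoc, IsLocalization.mk'_spec'_mk, map_one, one_mul]
  obtain ⟨z', hz'⟩ := (IsLocalization.eq_iff_exists P.primeCompl (Localization.AtPrime P)).mp h2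
  have hbP : b ∈ P := (Ideal.span_le.mpr hG) hb
  have e1 : yel k A L ((z' : A) * ((z : A) * a)) =
      algebraMap A L ((z' : A) * (z : A)) • yel k A L a := by
    rw [← mul_assoc]
    exact yel_mul_of_mem P hP0 _ a ha
  have e2 : yel k A L ((z' : A) * b) = algebraMap A L (z' : A) • yel k A L b :=
    yel_mul_of_mem P hP0 _ b hbP
  have hne : algebraMap A L ((z' : A) * (z : A)) ≠ 0 := by
    intro h0
    have := (algebraMap_eq_zero_iff_mem A L P _).mp h0
    rcases Ideal.IsPrime.mem_or_mem inferInstance this with h | h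
    · exact z'.2 h
    · exact z.2 h
  have e3 : yel k A L a = (algebraMap A L ((z' : A) * (z : A)))⁻¹ •
      (algebraMap A L (z' : A) • yel k A L b) := by
    rw [← e2, ← hz', e1, smul_smul, inv_mul_cancel₀ hne, one_smul]
  rw [e3]
  exact Submodule.smul_mem _ _ (Submodule.smul_mem _ _
    (yel_mem_span_of_mem_span k A L P G hG b hb))

end I3

end Groth.Agent.H5.CD
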