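import Mathlib
import Groth.Agent.Lib.Helper5.CD.I3
import Groth.Agent.Lib.Helper5.CD.I0

set_option autoImplicit false
universe u

open TensorProduct IsLocalRing

namespace Groth.Agent.H5.CD

section I4
variable (k A L : Type u) [Field k] [CommRing A] [IsLocalRing A]
  [IsNoetherianRing A]
  [Algebra k A] [IsAdicComplete (maximalIdeal A) A] [Module.Finite k (ResidueField A)]
  (P : Ideal A) [P.IsPrime]
  [Field L] [Algebra (A ⧸ P) L] [IsFractionRing (A ⧸ P) L] [Algebra A L]
  [IsScalarTower A (A ⧸ P) L] [Algebra k L] [IsScalarTower k (A ⧸ P) L] [IsScalarTower k A L]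

local notation "Ωh" => AdicCompletion (maximalIdeal A) (Ω[A⁄k])

/-- a derivation of `A` induces a linear form on `L ⊗ Ω̂_A`. -/
theorem exists_dual_of_self_derivation (D : Derivation k A A) :
    ∃ ψ : L ⊗[A] Ωh →ₗ[L] L, ∀ a, ψ (yel k A L a) = algebraMap A L (D a) := by
  let DL : Derivation k A L := (Algebra.linearMap A L).compDer D
  have hDL : ∀ a, DL a = algebraMap A L (D a) := fun a => rfl
  let M : Submodule A L := Submodule.span A {(1 : L)}
  have hM : M.FG := Submodule.fg_span_singleton 1
  have hD : ∀ a, DL a ∈ M := by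
    intro a
    rw [hDL]
    exact Submodule.mem_span_singleton.mpr ⟨D a, by rw [Algebra.smul_def, mul_one]⟩
  obtain ⟨ψ, hψ⟩ := exists_dual_of_derivation (maximalIdeal A) DL M hM hD
  exact ⟨ψ, fun a => hψ a⟩


variable (s : ℕ) [Algebra (MvPowerSeries (Fin s) k) (A ⧸ P)]
  [IsScalarTower k (MvPowerSeries (Fin s) k) (A ⧸ P)]
  [Module.Finite (MvPowerSeries (Fin s) k) (A ⧸ P)]
  [IsLocalHom (algebraMap (MvPowerSeries (Fin s) k) (A ⧸ P))]

include L in
/-- **Jacobian minors**: elements of `P` independent in the cotangent space of the regular ring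
`A_P` have a nonvanishing Jacobian minor with respect to a coordinate system of derivations. -/
theorem exists_minor_not_mem (s₀ : A ⧸ P) (hs0 : s₀ ≠ 0)
    (hs : ∀ ω : Ω[(A ⧸ P)⁄MvPowerSeries (Fin s) k], s₀ • ω = 0)
    (r : ℕ) (Dr : Fin r → Derivation k A A) (t : Fin r → A)
    (hDt : ∀ l l', Dr l (t l') = if l = l' then 1 else 0)
    [IsRegularLocalRing (Localization.AtPrime P)]
    (hdim : ringKrullDim (Localization.AtPrime P) + (s : WithBot ℕ∞) = (r : WithBot ℕ∞))
    {m : ℕ} (f : Fin m → A) (hf : ∀ j, f j ∈ P)
    (hli : LinearIndependent (ResidueField (Localization.AtPrime P))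
      (fun j => (maximalIdeal (Localization.AtPrime P)).toCotangent
        ⟨algebraMap A (Localization.AtPrime P) (f j),
          (IsLocalization.AtPrime.to_map_mem_maximal_iff (Localization.AtPrime P) P (f j)).mpr
            (hf j)⟩)) :
    ∃ σ : Fin m → Fin r, Matrix.det (Matrix.of fun i j => Dr (σ i) (f j)) ∉ P := by
  classical
  haveI := finite_Ωh k A
  haveI : Module.Finite L (L ⊗[A] Ωh) := inferInstance
  -- the linear forms
  choose ψ hψ using fun l => exists_dual_of_self_derivation k A L (Dr l)
  let Ψ : L ⊗[A] Ωh →ₗ[L] (Fin r → L) := LinearMap.pi ψ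
  have hΨ : ∀ a l, Ψ (yel k A L a) l = algebraMap A L (Dr l a) := fun a l => hψ l a
  have hΨt : ∀ l', Ψ (yel k A L (t l')) = Pi.single l' (1 : L) := by
    intro l'
    funext l
    rw [hΨ, hDt, Pi.single_apply]
    by_cases h : l = l'
    · rw [if_pos h, if_pos h, map_one]
    · rw [if_neg h, if_neg h, map_zero]
  have hΨsurj : Function.Surjective Ψ := by
    rw [← LinearMap.range_eq_top, eq_top_iff, ← (Pi.basisFun L (Fin r)).span_eq,
      Submodule.span_le]
    rintro _ ⟨l, rfl⟩
    exact ⟨yel k A L (t l), by rw [hΨt, Pi.basisFun_apply]⟩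
  have hrle : r ≤ Module.finrank L (L ⊗[A] Ωh) := by
    have := LinearMap.finrank_le_finrank_of_surjective hΨsurj  
    rwa [Module.finrank_fintype_fun_eq_card, Fintype.card_fin] at this
  -- the cotangent space of `A_P`
  have hmem : ∀ a : P, algebraMap A (Localization.AtPrime P) (a : A) ∈
      maximalIdeal (Localization.AtPrime P) := fun a =>
    (IsLocalization.AtPrime.to_map_mem_maximal_iff (Localization.AtPrime P) P _).mpr a.2
  let g : P → maximalIdeal (Localization.AtPrime P) := fun a =>
    ⟨algebraMap A (Localization.AtPrime P) a, hmem a⟩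
  let v : P → CotangentSpace (Localization.AtPrime P) := fun a =>
    (maximalIdeal (Localization.AtPrime P)).toCotangent (g a)
  have hspanR : Submodule.span (Localization.AtPrime P) (Set.range g) = ⊤ := by
    apply Submodule.map_injective_of_injective
      (maximalIdeal (Localization.AtPrime P)).injective_subtype
    rw [Submodule.map_span, Submodule.map_top, Submodule.range_subtype, ← Set.range_comp]
    have h1 : (Set.range ((maximalIdeal (Localization.AtPrime P)).subtype ∘ g)) =
        (algebraMap A (Localization.AtPrime P)) '' (P : Set A) := by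
      ext x
      constructor
      · rintro ⟨a, rfl⟩
        exact ⟨a, a.2, rfl⟩
      · rintro ⟨a, ha, rfl⟩
        exact ⟨⟨a, ha⟩, rfl⟩
    rw [h1]
    exact IsLocalization.AtPrime.map_eq_maximalIdeal P (Localization.AtPrime P)
  have hspanκ : Submodule.span (ResidueField (Localization.AtPrime P)) (Set.range v) = ⊤ := by
    have h1 := (CotangentSpace.span_image_eq_top_iff (s := Set.range g)).mpr hspanR
    rwa [← Set.range_comp] at h1
  -- extend the given family
  let φ : Fin m → P := fun j => ⟨f j, hf j⟩
  have hliφ : LinearIndependent (ResidueField (Localization.AtPrime P)) (v ∘ φ) := hli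
  have hφinj : Function.Injective φ := by
    intro i j hij
    exact hliφ.injective (by show v (φ i) = v (φ j); rw [hij])
  have hs1 : LinearIndepOn (ResidueField (Localization.AtPrime P)) v (Set.range φ) :=
    (linearIndepOn_range_iff hφinj v).mpr hliφ
  obtain ⟨b, -, hsb, hbspan, hbli⟩ := exists_linearIndepOn_extension hs1 (Set.subset_univ _)
  have hbtop : Submodule.span (ResidueField (Localization.AtPrime P)) (v '' b) = ⊤ := by
    rw [eq_top_iff, ← hspanκ, Submodule.span_le, ← Set.image_univ]
    exact hbspan
  have hbli' : LinearIndependent (ResidueField (Localization.AtPrime P))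
      (fun x : b => v x) := hbli
  haveI : Finite b := hbli'.finite
  haveI : Fintype b := Fintype.ofFinite b
  obtain ⟨h, hh⟩ : ∃ h : ℕ, Module.finrank (ResidueField (Localization.AtPrime P))
      (CotangentSpace (Localization.AtPrime P)) = h := ⟨_, rfl⟩
  have hcardb : Fintype.card b = h := by
    have h1 := linearIndependent_iff_card_eq_finrank_span.mp hbli'
    have h2 : Set.range (fun x : b => v x) = v '' b := by
      ext z
      constructor
      · rintro ⟨x, rfl⟩
        exact ⟨x, x.2, rfl⟩
      · rintro ⟨x, hx, rfl⟩
        exact ⟨⟨x, hx⟩, rfl⟩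
    rw [h1, Set.finrank, h2, hbtop, finrank_top, hh]
  have hhdim : (h : WithBot ℕ∞) = ringKrullDim (Localization.AtPrime P) := by
    rw [← hh]
    exact (IsRegularLocalRing.iff_finrank_cotangentSpace (Localization.AtPrime P)).mp
      inferInstance
  have hhs : h + s = r := by
    rw [← hhdim] at hdim
    exact_mod_cast hdim
  -- the generating set
  let G : Set A := Subtype.val '' b
  have hGP : G ⊆ P := by
    rintro _ ⟨a, -, rfl⟩
    exact a.2
  have hspanG : maximalIdeal (Localization.AtPrime P) =
      Ideal.span ((algebraMap A (Localization.AtPrime P)) '' G) := by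
    have h1 : Submodule.span (Localization.AtPrime P) (g '' b) = ⊤ := by
      apply CotangentSpace.span_image_eq_top_iff.mp
      rw [Set.image_image]
      exact hbtop
    have h2 := congrArg (Submodule.map (maximalIdeal (Localization.AtPrime P)).subtype) h1
    rw [Submodule.map_span, Submodule.map_top, Submodule.range_subtype, Set.image_image] at h2
    rw [← h2]
    show _ = Ideal.span ((algebraMap A (Localization.AtPrime P)) '' (Subtype.val '' b))
    rw [Set.image_image]
    rfl
  let w : b → L ⊗[A] Ωh := fun x => yel k A L ((x : P) : A)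
  have hrangew : Set.range w = (yel k A L) '' G := by
    ext z
    constructor
    · rintro ⟨x, rfl⟩
      exact ⟨_, ⟨x, x.2, rfl⟩, rfl⟩
    · rintro ⟨_, ⟨a, ha, rfl⟩, rfl⟩
      exact ⟨⟨a, ha⟩, rfl⟩
  have hU : Submodule.span L ((yel k A L) '' (P : Set A)) ≤ Submodule.span L (Set.range w) := by
    rw [hrangew, Submodule.span_le]
    rintro _ ⟨a, ha, rfl⟩
    exact yel_mem_span_of_span_eq k A L P G hGP hspanG a ha
  -- lifts of the parameters
  choose x hx using fun j : Fin s => Ideal.Quotient.mk_surjective (I := P)
    (algebraMap (MvPowerSeries (Fin s) k) (A ⧸ P) (MvPowerSeries.X j))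
  have htop := span_yel_sup_eq_top k A L P s s₀ hs0 hs x hx
  have hfin : Module.finrank L (L ⊗[A] Ωh) ≤
      Module.finrank L (Submodule.span L (Set.range w)) + s := by
    have h1 : (⊤ : Submodule L (L ⊗[A] Ωh)) ≤ Submodule.span L (Set.range w) ⊔
        Submodule.span L (Set.range fun j => yel k A L (x j)) := by
      rw [← htop]
      exact sup_le_sup_right hU _
    have h2 := Submodule.finrank_mono h1
    rw [finrank_top] at h2
    have h3 := Submodule.finrank_add_le_finrank_add_finrank (Submodule.span L (Set.range w))
      (Submodule.span L (Set.range fun j => yel k A L (x j)))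
    have h4 : Module.finrank L (Submodule.span L (Set.range fun j => yel k A L (x j))) ≤ s := by
      have := finrank_range_le_card (R := L) (fun j => yel k A L (x j))
      rwa [Fintype.card_fin] at this
    omega
  have hwle : Module.finrank L (Submodule.span L (Set.range w)) ≤ Fintype.card b :=
    finrank_range_le_card (R := L) w
  have hwcard : Fintype.card b ≤ (Set.range w).finrank L := by
    show _ ≤ Module.finrank L (Submodule.span L (Set.range w))
    omega
  have hwli : LinearIndependent L w := linearIndependent_iff_card_le_finrank_span.mpr hwcard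
  have hVr : Module.finrank L (L ⊗[A] Ωh) = r := by omega
  -- the given family is independent
  have hyelf : LinearIndependent L (fun j => yel k A L (f j)) := by
    let e : Fin m → b := fun j => ⟨φ j, hsb ⟨j, rfl⟩⟩
    have hinj : Function.Injective e := by
      intro i j hij
      exact hφinj (congrArg (fun z : b => (z : P)) hij)
    have h1 : LinearIndependent L (w ∘ e) := hwli.comp e hinj
    have h2 : (fun j => yel k A L (f j)) = w ∘ e := by
      funext j
      rfl
    rw [h2]
    exact h1
  have hΨinj : Function.Injective Ψ :=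
    (LinearMap.injective_iff_surjective_of_finrank_eq_finrank
      (by rw [hVr, Module.finrank_fintype_fun_eq_card, Fintype.card_fin])).mpr hΨsurj
  have hc : LinearIndependent L (fun j => Ψ (yel k A L (f j))) :=
    hyelf.map' Ψ (LinearMap.ker_eq_bot.mpr hΨinj)
  obtain ⟨σ, hσ⟩ := exists_minor_ne_zero _ hc
  refine ⟨σ, fun hdet => hσ ?_⟩
  have h0 : algebraMap A L (Matrix.det (Matrix.of fun i j => Dr (σ i) (f j))) = 0 :=
    (algebraMap_eq_zero_iff_mem A L P _).mpr hdet
  rw [RingHom.map_det] at h0
  rw [← h0]
  congr 1
  ext i j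
  rw [Matrix.of_apply, hΨ]
  rfl

end I4

end Groth.Agent.H5.CD
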