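import Mathlib
import Groth.Agent.Lib.Helper5.CD.I4
import Groth.Agent.Lib.Helper9.Misc.SEI2
import Groth.Agent.Lib.Helper1.RegDer
import Groth.Agent.Lib.Helper8.J2.J3

set_option autoImplicit false
universe u

open TensorProduct IsLocalRing

namespace Groth.Agent.H5.CD

theorem exists_int_derivation {k R' : Type*} [CommRing k] [CommRing R'] [Algebra k R']
    (E : Derivation k R' R') : ∃ E' : Derivation ℤ R' R', ∀ x, E' x = E x :=
  ⟨E.restrictScalars ℤ, fun _ => rfl⟩

section I5c
variable {k A : Type u} [Field k] [CommRing A] [Algebra k A]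
  (q p : Ideal A) [p.IsPrime] (hqp : q ≤ p) [(p.map (Ideal.Quotient.mk q)).IsPrime]

include hqp in
/-- **Jacobian criterion, sufficiency**. -/
theorem regular_of_jacobian [IsRegularLocalRing (Localization.AtPrime p)]
    (m : ℕ) (D : Fin m → Derivation k A A) (f : Fin m → A) (hfq : ∀ i, f i ∈ q)
    (hspan : q.map (algebraMap A (Localization.AtPrime p)) =
      Ideal.span (Set.range fun i => algebraMap A (Localization.AtPrime p) (f i)))
    (hdet : Matrix.det (Matrix.of fun i j => D i (f j)) ∉ p) :
    IsRegularLocalRing (Localization.AtPrime (p.map (Ideal.Quotient.mk q))) := by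
  classical
  choose D' hD'0 using fun i => exists_int_derivation
    (Groth.Agent.H9.SEI.extLoc (Q := Localization.AtPrime p) p.primeCompl (D i))
  have hD' : ∀ i a, D' i (algebraMap A (Localization.AtPrime p) a) =
      algebraMap A (Localization.AtPrime p) (D i a) := fun i a =>
    (hD'0 i _).trans (Groth.Agent.H9.SEI.extLoc_algebraMap p.primeCompl (D i) a)
  let F : Fin m → Localization.AtPrime p := fun j => algebraMap A (Localization.AtPrime p) (f j)
  have hF : ∀ j, F j ∈ maximalIdeal (Localization.AtPrime p) := fun j =>
    (IsLocalization.AtPrime.to_map_mem_maximal_iff (Localization.AtPrime p) p (f j)).mpr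
      (hqp (hfq j))
  have hdet' : IsUnit (Matrix.det (Matrix.of (fun i j : Fin m => D' i (F j)))) := by
    have h1 : (Matrix.of (fun i j : Fin m => D' i (F j))) =
        (algebraMap A (Localization.AtPrime p)).mapMatrix (Matrix.of fun i j => D i (f j)) := by
      ext i j
      simp only [Matrix.of_apply, RingHom.mapMatrix_apply, Matrix.map_apply]
      exact hD' i (f j)
    rw [h1, ← RingHom.map_det]
    exact IsLocalization.map_units (Localization.AtPrime p)
      (⟨_, hdet⟩ : p.primeCompl)
  obtain ⟨hreg, -⟩ := Groth.Agent.H1.RegDer.regular_of_derivations (Localization.AtPrime p) m F hF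
    D' hdet'
  have hspan' : Ideal.span (Set.range F) = q.map (algebraMap A (Localization.AtPrime p)) :=
    hspan.symm
  rw [hspan'] at hreg
  exact IsRegularLocalRing.of_ringEquiv (Groth.Agent.H8.J2.quotLocEquiv q p hqp).symm

end I5c

end Groth.Agent.H5.CD
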