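import Mathlib
import Groth.Agent.Lib.Helper5.CD.I5
import Groth.Agent.Lib.Helper8.CI.CIId

set_option autoImplicit false
universe u

open TensorProduct IsLocalRing

namespace Groth.Agent.H5.CD

section I6
variable (k A L : Type u) [Field k] [CommRing A] [IsLocalRing A]
  [IsNoetherianRing A]
  [Algebra k A] [IsAdicComplete (maximalIdeal A) A] [Module.Finite k (ResidueField A)]
  (P : Ideal A) [P.IsPrime]
  [Field L] [Algebra (A ⧸ P) L] [IsFractionRing (A ⧸ P) L] [Algebra A L]
  [IsScalarTower A (A ⧸ P) L] [Algebra k L] [IsScalarTower k (A ⧸ P) L] [IsScalarTower k A L]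
  (s : ℕ) [Algebra (MvPowerSeries (Fin s) k) (A ⧸ P)]
  [IsScalarTower k (MvPowerSeries (Fin s) k) (A ⧸ P)]
  [Module.Finite (MvPowerSeries (Fin s) k) (A ⧸ P)]
  [IsLocalHom (algebraMap (MvPowerSeries (Fin s) k) (A ⧸ P))]

include L in
/-- **Jacobian criterion, necessity**. -/
theorem exists_jacobian_of_regular (s₀ : A ⧸ P) (hs0 : s₀ ≠ 0)
    (hs : ∀ ω : Ω[(A ⧸ P)⁄MvPowerSeries (Fin s) k], s₀ • ω = 0)
    (r : ℕ) (Dr : Fin r → Derivation k A A) (t : Fin r → A)
    (hDt : ∀ l l', Dr l (t l') = if l = l' then 1 else 0)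
    [IsRegularLocalRing (Localization.AtPrime P)]
    (hdim : ringKrullDim (Localization.AtPrime P) + (s : WithBot ℕ∞) = (r : WithBot ℕ∞))
    (q : Ideal A) (hqP : q ≤ P) [(P.map (Ideal.Quotient.mk q)).IsPrime]
    [IsRegularLocalRing (Localization.AtPrime (P.map (Ideal.Quotient.mk q)))] :
    ∃ (m : ℕ) (σ : Fin m → Fin r) (f : Fin m → A), (∀ i, f i ∈ q) ∧
      q.map (algebraMap A (Localization.AtPrime P)) =
        Ideal.span (Set.range fun i => algebraMap A (Localization.AtPrime P) (f i)) ∧
      Matrix.det (Matrix.of fun i j => Dr (σ i) (f j)) ∉ P := by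
  classical
  haveI : IsRegularLocalRing (Localization.AtPrime P ⧸
      q.map (algebraMap A (Localization.AtPrime P))) :=
    IsRegularLocalRing.of_ringEquiv (Groth.Agent.H8.J2.quotLocEquiv q P hqP)
  have hJm : q.map (algebraMap A (Localization.AtPrime P)) ≤
      maximalIdeal (Localization.AtPrime P) := by
    rw [← IsLocalization.AtPrime.map_eq_maximalIdeal P (Localization.AtPrime P)]
    exact Ideal.map_mono hqP
  obtain ⟨m, x, hxJ, hxli, -, hxspan⟩ := Groth.Agent.H8.CIId.exists_regular_generators'
    (Localization.AtPrime P) (q.map (algebraMap A (Localization.AtPrime P))) hJm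
  have hex : ∀ i, ∃ y : q × P.primeCompl, x i * algebraMap A (Localization.AtPrime P) y.2 =
      algebraMap A (Localization.AtPrime P) y.1 := fun i =>
    (IsLocalization.mem_map_algebraMap_iff P.primeCompl (Localization.AtPrime P)).mp (hxJ i)
  choose y hy using hex
  let f : Fin m → A := fun i => ((y i).1 : A)
  have hfq : ∀ i, f i ∈ q := fun i => (y i).1.2
  have hf : ∀ i, f i ∈ P := fun i => hqP (hfq i)
  have hu : ∀ i, IsUnit (algebraMap A (Localization.AtPrime P) ((y i).2 : A)) := fun i =>
    IsLocalization.map_units _ (y i).2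
  have hF : ∀ i, algebraMap A (Localization.AtPrime P) (f i) =
      x i * algebraMap A (Localization.AtPrime P) ((y i).2 : A) := fun i => (hy i).symm
  have hspan : q.map (algebraMap A (Localization.AtPrime P)) =
      Ideal.span (Set.range fun i => algebraMap A (Localization.AtPrime P) (f i)) := by
    rw [← hxspan]
    apply le_antisymm
    · rw [Ideal.span_le]
      rintro _ ⟨i, rfl⟩
      have h1 : x i = algebraMap A (Localization.AtPrime P) (f i) * ↑(hu i).unit⁻¹ := by
        rw [hF, mul_assoc, IsUnit.mul_val_inv, mul_one]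
      rw [h1]
      exact Ideal.mul_mem_right _ _ (Ideal.subset_span ⟨i, rfl⟩)
    · rw [Ideal.span_le]
      rintro _ ⟨i, rfl⟩
      show algebraMap A (Localization.AtPrime P) (f i) ∈ _
      rw [hF]
      exact Ideal.mul_mem_right _ _ (Ideal.subset_span ⟨i, rfl⟩)
  -- independence in the cotangent space
  have hli : LinearIndependent (ResidueField (Localization.AtPrime P))
      (fun j => (maximalIdeal (Localization.AtPrime P)).toCotangent
        ⟨algebraMap A (Localization.AtPrime P) (f j),
          (IsLocalization.AtPrime.to_map_mem_maximal_iff (Localization.AtPrime P) P (f j)).mpr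
            (hf j)⟩) := by
    let w : Fin m → (ResidueField (Localization.AtPrime P))ˣ := fun i =>
      ((hu i).map (residue (Localization.AtPrime P))).unit
    have h1 := hxli.units_smul w
    convert h1 using 1
    funext j
    rw [Pi.smul_apply']
    show _ = residue (Localization.AtPrime P)
      (algebraMap A (Localization.AtPrime P) ((y j).2 : A)) •
        (maximalIdeal (Localization.AtPrime P)).toCotangent ⟨x j, hJm (hxJ j)⟩
    have h2 : (⟨algebraMap A (Localization.AtPrime P) (f j),
          (IsLocalization.AtPrime.to_map_mem_maximal_iff (Localization.AtPrime P) P (f j)).mpr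
            (hf j)⟩ : maximalIdeal (Localization.AtPrime P)) =
        algebraMap A (Localization.AtPrime P) ((y j).2 : A) •
          (⟨x j, hJm (hxJ j)⟩ : maximalIdeal (Localization.AtPrime P)) := by
      apply Subtype.ext
      show algebraMap A (Localization.AtPrime P) (f j) = _ • x j
      rw [hF, smul_eq_mul, mul_comm]
    rw [h2, map_smul]
    rfl
  obtain ⟨σ, hσ⟩ := exists_minor_not_mem k A L P s s₀ hs0 hs r Dr t hDt hdim f hf hli
  exact ⟨m, σ, f, hfq, hspan, hσ⟩

end I6

end Groth.Agent.H5.CD
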