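import Mathlib
import Groth.Agent.Lib.Helper1.PowSerSep
import Groth.Agent.Lib.Helper8.Japanese.SepGR
import Groth.Agent.Lib.Helper8.ASK.ShA

set_option autoImplicit false
universe u

open TensorProduct IsLocalRing

namespace Groth.Agent.H5.CD

section I7a
variable {k A : Type u} [Field k] [CommRing A] [Algebra k A]
  (q p : Ideal A) [p.IsPrime] (hqp : q ≤ p) [(p.map (Ideal.Quotient.mk q)).IsPrime]
  (L : Type u) [Field L] [Algebra (A ⧸ p) L] [IsFractionRing (A ⧸ p) L] [Algebra k L]
  [IsScalarTower k (A ⧸ p) L]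

include hqp in
/-- the residue field of `(A/q)_p` embeds into the fraction field of `A/p`. -/
theorem isGeometricallyReduced_residueField [Algebra.IsGeometricallyReduced k L] :
    Algebra.IsGeometricallyReduced k
      (ResidueField (Localization.AtPrime (p.map (Ideal.Quotient.mk q)))) := by
  classical
  let θ : (A ⧸ q) →+* L := (algebraMap (A ⧸ p) L).comp (Ideal.Quotient.factor hqp)
  have hθmk : ∀ a : A, θ (Ideal.Quotient.mk q a) = algebraMap (A ⧸ p) L (Ideal.Quotient.mk p a) :=
    fun a => rfl
  have hθ0 : ∀ y ∈ p.map (Ideal.Quotient.mk q), θ y = 0 := by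
    intro y hy
    obtain ⟨a, rfl⟩ := Ideal.Quotient.mk_surjective y
    rw [Ideal.mem_quotient_iff_mem hqp] at hy
    rw [hθmk, Ideal.Quotient.eq_zero_iff_mem.mpr hy, map_zero]
  have hθu : ∀ y : (p.map (Ideal.Quotient.mk q)).primeCompl, IsUnit (θ y) := by
    rintro ⟨y, hy⟩
    obtain ⟨a, rfl⟩ := Ideal.Quotient.mk_surjective y
    have hy' : Ideal.Quotient.mk q a ∉ p.map (Ideal.Quotient.mk q) := hy
    rw [Ideal.mem_quotient_iff_mem hqp] at hy'
    rw [isUnit_iff_ne_zero]
    show θ (Ideal.Quotient.mk q a) ≠ 0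
    rw [hθmk]
    intro h0
    apply hy'
    rw [← Ideal.Quotient.eq_zero_iff_mem]
    exact (IsFractionRing.injective (A ⧸ p) L) (h0.trans (map_zero _).symm)
  let Θ : Localization.AtPrime (p.map (Ideal.Quotient.mk q)) →+* L := IsLocalization.lift hθu
  have hΘ : ∀ y, Θ (algebraMap (A ⧸ q) _ y) = θ y := fun y => IsLocalization.lift_eq hθu y
  have hΘ0 : ∀ x ∈ maximalIdeal (Localization.AtPrime (p.map (Ideal.Quotient.mk q))), Θ x = 0 := by
    intro x hx
    rw [← IsLocalization.AtPrime.map_eq_maximalIdeal (p.map (Ideal.Quotient.mk q))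
      (Localization.AtPrime (p.map (Ideal.Quotient.mk q)))] at hx
    have hle : (p.map (Ideal.Quotient.mk q)).map (algebraMap (A ⧸ q)
        (Localization.AtPrime (p.map (Ideal.Quotient.mk q)))) ≤ RingHom.ker Θ := by
      rw [Ideal.map_le_iff_le_comap]
      intro y hy
      rw [Ideal.mem_comap, RingHom.mem_ker, hΘ]
      exact hθ0 y hy
    exact hle hx
  haveI : IsLocalHom Θ := by
    refine ⟨fun x hx => ?_⟩
    by_contra hnu
    have hxm : x ∈ maximalIdeal (Localization.AtPrime (p.map (Ideal.Quotient.mk q))) :=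
      (IsLocalRing.mem_maximalIdeal x).mpr hnu
    rw [hΘ0 x hxm] at hx
    exact not_isUnit_zero hx
  let ι₀ : ResidueField (Localization.AtPrime (p.map (Ideal.Quotient.mk q))) →+* L :=
    IsLocalRing.ResidueField.lift Θ
  let ι : ResidueField (Localization.AtPrime (p.map (Ideal.Quotient.mk q))) →ₐ[k] L :=
    { toRingHom := ι₀
      commutes' := fun c => by
        show ι₀ (algebraMap k _ c) = algebraMap k L c
        rw [IsScalarTower.algebraMap_apply k (Localization.AtPrime (p.map (Ideal.Quotient.mk q)))
          (ResidueField (Localization.AtPrime (p.map (Ideal.Quotient.mk q))))]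
        show ι₀ (residue _ (algebraMap k _ c)) = _
        rw [IsLocalRing.ResidueField.lift_residue_apply,
          IsScalarTower.algebraMap_apply k (A ⧸ q)
            (Localization.AtPrime (p.map (Ideal.Quotient.mk q))), hΘ,
          IsScalarTower.algebraMap_apply k (A ⧸ p) L]
        rfl }
  exact Algebra.IsGeometricallyReduced.of_injective ι ι.toRingHom.injective

end I7a

section I7b
variable (k : Type u) [Field k] (s : ℕ) (L' L : Type u) [Field L'] [Field L]
  [Algebra (MvPowerSeries (Fin s) k) L'] [IsFractionRing (MvPowerSeries (Fin s) k) L']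
  [Algebra k L'] [IsScalarTower k (MvPowerSeries (Fin s) k) L']
  [Algebra L' L] [Algebra k L] [IsScalarTower k L' L] [Algebra.IsSeparable L' L]

include s L' in
/-- a separable algebraic extension of `Frac k[[X_1..X_s]]` is geometrically reduced over `k`. -/
theorem isGeometricallyReduced_of_isSeparable : Algebra.IsGeometricallyReduced k L := by
  haveI : IsDomain (MvPowerSeries (Fin s) k) := NoZeroDivisors.to_isDomain _
  haveI h0 : Algebra.IsGeometricallyReduced k (FractionRing (MvPowerSeries (Fin s) k)) :=
    Groth.Agent.H1.PowSerSep.main k s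
  let e : L' ≃ₐ[MvPowerSeries (Fin s) k] FractionRing (MvPowerSeries (Fin s) k) :=
    (FractionRing.algEquiv (MvPowerSeries (Fin s) k) L').symm
  let e' : L' →ₐ[k] FractionRing (MvPowerSeries (Fin s) k) :=
    (e.restrictScalars k).toAlgHom
  haveI : Algebra.IsGeometricallyReduced k L' :=
    Algebra.IsGeometricallyReduced.of_injective e' e.injective
  haveI : Algebra.IsGeometricallyReduced L' L :=
    Groth.Agent.H8.Jap.isGeometricallyReduced_of_isSeparable L' L
  exact Groth.Agent.H8.Sh.geomRed_trans k L' L

end I7b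

end Groth.Agent.H5.CD
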