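import Mathlib
import Groth.Prelude
import Groth.Agent.Lib.Helper5.CD.I6
import Groth.Agent.Lib.Helper5.CD.I7
import Groth.Agent.Lib.Helper5.CD.G2
import Groth.Agent.Lib.Helper5.CA.FSField
import Groth.Agent.Lib.Helper1.RegLoc
import Groth.Agent.Lib.Helper6.CMChain
import Groth.Agent.Lib.Helper8.CI.CILocal
import Groth.Agent.Lib.Helper2.DimFG

set_option autoImplicit false
universe u

open TensorProduct IsLocalRing

namespace Groth.Agent.H5.CD

set_option maxHeartbeats 1600000 in
/-- **Nagata's Jacobian criterion** for quotients of power series rings. -/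
theorem main4612 {k : Type u} [Field k] (r : ℕ)
    (q p : Ideal (MvPowerSeries (Fin r) k)) [p.IsPrime] (hqp : q ≤ p)
    [(p.map (Ideal.Quotient.mk q)).IsPrime]
    (s : ℕ) [Algebra (MvPowerSeries (Fin s) k) (MvPowerSeries (Fin r) k ⧸ p)]
    [IsScalarTower k (MvPowerSeries (Fin s) k) (MvPowerSeries (Fin r) k ⧸ p)]
    [Module.Finite (MvPowerSeries (Fin s) k) (MvPowerSeries (Fin r) k ⧸ p)]
    (hinj : Function.Injective (algebraMap (MvPowerSeries (Fin s) k) (MvPowerSeries (Fin r) k ⧸ p)))
    {L' L : Type u} [Field L'] [Field L]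
    [Algebra (MvPowerSeries (Fin s) k) L'] [IsFractionRing (MvPowerSeries (Fin s) k) L']
    [Algebra (MvPowerSeries (Fin r) k ⧸ p) L] [IsFractionRing (MvPowerSeries (Fin r) k ⧸ p) L]
    [Algebra L' L] [Algebra (MvPowerSeries (Fin s) k) L]
    [IsScalarTower (MvPowerSeries (Fin s) k) (MvPowerSeries (Fin r) k ⧸ p) L]
    [IsScalarTower (MvPowerSeries (Fin s) k) L' L] [Algebra.IsSeparable L' L] :
    [CAlgX.IsAdicFormallySmooth k (Localization.AtPrime (p.map (Ideal.Quotient.mk q)))
        (maximalIdeal (Localization.AtPrime (p.map (Ideal.Quotient.mk q)))),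
     ∃ (m : ℕ) (D : Fin m → Derivation k (MvPowerSeries (Fin r) k) (MvPowerSeries (Fin r) k))
        (f : Fin m → MvPowerSeries (Fin r) k), (∀ i, f i ∈ q) ∧
        q.map (algebraMap (MvPowerSeries (Fin r) k) (Localization.AtPrime p)) =
          Ideal.span (Set.range fun i => algebraMap (MvPowerSeries (Fin r) k) (Localization.AtPrime p) (f i)) ∧
        Matrix.det (Matrix.of fun i j => D i (f j)) ∉ p,
     IsRegularLocalRing (Localization.AtPrime (p.map (Ideal.Quotient.mk q)))].TFAE := by
  classical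
  letI algAL : Algebra (MvPowerSeries (Fin r) k) L :=
    ((algebraMap (MvPowerSeries (Fin r) k ⧸ p) L).comp (Ideal.Quotient.mk p)).toAlgebra
  haveI : IsScalarTower (MvPowerSeries (Fin r) k) (MvPowerSeries (Fin r) k ⧸ p) L :=
    IsScalarTower.of_algebraMap_eq (R := MvPowerSeries (Fin r) k)
      (S := MvPowerSeries (Fin r) k ⧸ p) (A := L) (fun _ => rfl)
  letI algkL : Algebra k L :=
    ((algebraMap (MvPowerSeries (Fin r) k ⧸ p) L).comp
      (algebraMap k (MvPowerSeries (Fin r) k ⧸ p))).toAlgebra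
  haveI : IsScalarTower k (MvPowerSeries (Fin r) k ⧸ p) L :=
    IsScalarTower.of_algebraMap_eq (R := k)
      (S := MvPowerSeries (Fin r) k ⧸ p) (A := L) (fun _ => rfl)
  haveI : IsScalarTower k (MvPowerSeries (Fin r) k) L :=
    IsScalarTower.of_algebraMap_eq (fun _ => rfl)
  letI algkL' : Algebra k L' :=
    ((algebraMap (MvPowerSeries (Fin s) k) L').comp (algebraMap k (MvPowerSeries (Fin s) k))).toAlgebra
  haveI : IsScalarTower k (MvPowerSeries (Fin s) k) L' :=
    IsScalarTower.of_algebraMap_eq (fun _ => rfl)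
  haveI : IsScalarTower k L' L := IsScalarTower.of_algebraMap_eq (fun c => by
    show algebraMap (MvPowerSeries (Fin r) k ⧸ p) L
        (algebraMap k (MvPowerSeries (Fin r) k ⧸ p) c) =
      algebraMap L' L (algebraMap (MvPowerSeries (Fin s) k) L'
        (algebraMap k (MvPowerSeries (Fin s) k) c))
    rw [← IsScalarTower.algebraMap_apply (MvPowerSeries (Fin s) k) L' L,
      IsScalarTower.algebraMap_apply (MvPowerSeries (Fin s) k) (MvPowerSeries (Fin r) k ⧸ p) L,
      ← IsScalarTower.algebraMap_apply k (MvPowerSeries (Fin s) k) (MvPowerSeries (Fin r) k ⧸ p)])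
  haveI : FaithfulSMul (MvPowerSeries (Fin s) k) (MvPowerSeries (Fin r) k ⧸ p) :=
    (faithfulSMul_iff_algebraMap_injective _ _).mpr hinj
  haveI : Algebra.IsIntegral (MvPowerSeries (Fin s) k) (MvPowerSeries (Fin r) k ⧸ p) :=
    Algebra.IsIntegral.of_finite _ _
  haveI : IsLocalHom (algebraMap (MvPowerSeries (Fin s) k) (MvPowerSeries (Fin r) k ⧸ p)) :=
    inferInstance
  haveI hgrL : Algebra.IsGeometricallyReduced k L := isGeometricallyReduced_of_isSeparable k s L' L
  haveI hgr : Algebra.IsGeometricallyReduced k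
      (ResidueField (Localization.AtPrime (p.map (Ideal.Quotient.mk q)))) :=
    isGeometricallyReduced_residueField q p hqp L
  haveI hAreg : IsRegularLocalRing (MvPowerSeries (Fin r) k) :=
    Groth.Agent.H6.PSCot.isRegularLocalRing_mvPowerSeries r
  haveI hApreg : IsRegularLocalRing (Localization.AtPrime p) :=
    Groth.Agent.H1.Reg.isRegularLocalRing_localization (MvPowerSeries (Fin r) k) p
  have h13 := (Groth.Agent.H5.FSField.tfae k
    (Localization.AtPrime (p.map (Ideal.Quotient.mk q)))).out 0 3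
  tfae_have 1 ↔ 3 := h13
  tfae_have 2 → 3 := by
    rintro ⟨m, D, f, hfq, hspan, hdet⟩
    exact regular_of_jacobian q p hqp m D f hfq hspan hdet
  tfae_have 3 → 2 := by
    intro hreg
    haveI := hreg
    obtain ⟨s₀, hs0, hs⟩ := exists_ne_zero_smul_kaehler_eq_zero_of_isSeparable k s
      (MvPowerSeries (Fin r) k ⧸ p) L' L hinj
    haveI : IsDomain (MvPowerSeries (Fin r) k) := NoZeroDivisors.to_isDomain _
    have hdimA : ringKrullDim (MvPowerSeries (Fin r) k) = r :=
      le_antisymm (Groth.Agent.H6.PSCot.ringKrullDim_mvPowerSeries_le r)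
        (Groth.Agent.H6.PSCot.ringKrullDim_mvPowerSeries_ge r)
    have hdimP : ringKrullDim (MvPowerSeries (Fin s) k) = s :=
      le_antisymm (Groth.Agent.H6.PSCot.ringKrullDim_mvPowerSeries_le s)
        (Groth.Agent.H6.PSCot.ringKrullDim_mvPowerSeries_ge s)
    have hdimQ : ringKrullDim (MvPowerSeries (Fin r) k ⧸ p) = s :=
      (Groth.Agent.H2.DimFG.ringKrullDim_eq_of_integral_injective _ _ hinj).trans hdimP
    have hadd := Groth.Agent.H6.CMChain.ringKrullDim_eq_add (R := MvPowerSeries (Fin r) k)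
      (M := MvPowerSeries (Fin r) k)
      (Groth.Agent.H8.CILocal.cm_of_regular (MvPowerSeries (Fin r) k))
      Module.support_of_noZeroSMulDivisors ⟨p, inferInstance⟩
    have hht := IsLocalization.AtPrime.ringKrullDim_eq_height p (Localization.AtPrime p)
    have hdim : ringKrullDim (Localization.AtPrime p) + (s : WithBot ℕ∞) = (r : WithBot ℕ∞) := by
      rw [hht, add_comm, ← hdimQ, ← hdimA]
      exact hadd.symm
    have hDt : ∀ l l' : Fin r, MvPowerSeries.pderiv k l (MvPowerSeries.X l' : MvPowerSeries (Fin r) k) =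
        if l = l' then 1 else 0 := by
      intro l l'
      by_cases h : l = l'
      · subst h
        rw [if_pos rfl, MvPowerSeries.pderiv_X_self]
      · rw [if_neg h, MvPowerSeries.pderiv_X_of_ne (Ne.symm h)]
    obtain ⟨m, σ, f, hfq, hspan, hdet⟩ := exists_jacobian_of_regular k (MvPowerSeries (Fin r) k) L p s
      s₀ hs0 hs r (fun l => MvPowerSeries.pderiv k l) (fun l => MvPowerSeries.X l) hDt hdim q hqp
    exact ⟨m, fun i => MvPowerSeries.pderiv k (σ i), f, hfq, hspan, hdet⟩
  tfae_finish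

end Groth.Agent.H5.CD
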