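import Mathlib
import Groth.Prelude
import Groth.Agent.Lib.Helper5.CA.NG33

set_option autoImplicit false
universe u

open TensorProduct IsLocalRing

namespace Groth.Agent.H5.CD

/-- a regular ring over a field of characteristic zero is geometrically regular. -/
theorem isGeometricallyRegular_of_charZero (k S : Type u) [Field k] [CharZero k] [CommRing S]
    [Algebra k S] [IsRegularRing S] : CAlg.IsGeometricallyRegular k S := by
  rw [H5.NG.isGeometricallyRegular_iff_purelyInseparable]
  intro k' _ _ hfin hpi
  haveI := hfin
  haveI : Algebra.IsSeparable k k' := inferInstance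
  have hsurj := IsPurelyInseparable.surjective_algebraMap_of_isSeparable k k'
  let e : k ≃ₐ[k] k' := AlgEquiv.ofBijective (Algebra.ofId k k')
    ⟨(algebraMap k k').injective, hsurj⟩
  let E : k' ⊗[k] S ≃ₐ[k] S :=
    (Algebra.TensorProduct.congr e.symm (AlgEquiv.refl : S ≃ₐ[k] S)).trans
      (Algebra.TensorProduct.lid k S)
  exact IsRegularRing.of_ringEquiv E.symm.toRingEquiv

end Groth.Agent.H5.CD
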