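import Mathlib
import Groth.Prelude
import Groth.Agent.Lib.Helper5.CD.J1
import Groth.Agent.Lib.Helper3.CA.QFFormal4
import Groth.Agent.Lib.Helper3.CA.GRingFF1
import Groth.Agent.S0548
import Groth.Agent.Lib.Helper1.RegRing
import Groth.Agent.Lib.Helper1.RegLoc
import Groth.Agent.Lib.Helper5.CA.NG8
import Groth.Agent.Lib.Helper7.Reg1

set_option autoImplicit false
universe u

open TensorProduct IsLocalRing

namespace Groth.Agent.H5.CD

section J2a
variable (C : Type u) [CommRing C] [IsDomain C] [IsLocalRing C]

/-- a prime of the completion lying over zero is a localisation of the generic formal fibre. -/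
theorem isRegularLocalRing_of_isRegularRing_formalFibre
    (hreg : IsRegularRing (EGA4.formalFibre C (⊥ : Ideal C)))
    (q : Ideal (AdicCompletion (maximalIdeal C) C)) [q.IsPrime]
    (hq : q.comap (algebraMap C (AdicCompletion (maximalIdeal C) C)) = ⊥) :
    IsRegularLocalRing (Localization.AtPrime q) := by
  classical
  letI algR : Algebra (AdicCompletion (maximalIdeal C) C) (EGA4.formalFibre C (⊥ : Ideal C)) :=
    Algebra.TensorProduct.rightAlgebra
  haveI hloc : IsLocalization (Algebra.algebraMapSubmonoid (AdicCompletion (maximalIdeal C) C)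
      (nonZeroDivisors C)) (EGA4.formalFibre C (⊥ : Ideal C)) :=
    IsLocalization.tensorRight (S := AdicCompletion (maximalIdeal C) C)
      (A := (⊥ : Ideal C).ResidueField) (nonZeroDivisors C)
  have hdisj : Disjoint ((Algebra.algebraMapSubmonoid (AdicCompletion (maximalIdeal C) C)
      (nonZeroDivisors C) : Submonoid _) : Set (AdicCompletion (maximalIdeal C) C))
      (q : Set (AdicCompletion (maximalIdeal C) C)) := by
    rw [Set.disjoint_left]
    rintro _ ⟨c, hc, rfl⟩ hcq
    have h1 : c ∈ q.comap (algebraMap C (AdicCompletion (maximalIdeal C) C)) := hcq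
    rw [hq, Ideal.mem_bot] at h1
    exact (nonZeroDivisors.ne_zero hc) h1
  let P : Ideal (EGA4.formalFibre C (⊥ : Ideal C)) :=
    q.map (algebraMap (AdicCompletion (maximalIdeal C) C) (EGA4.formalFibre C (⊥ : Ideal C)))
  haveI hP : P.IsPrime := IsLocalization.isPrime_of_isPrime_disjoint
    (Algebra.algebraMapSubmonoid (AdicCompletion (maximalIdeal C) C) (nonZeroDivisors C))
    (EGA4.formalFibre C (⊥ : Ideal C)) q inferInstance hdisj
  have hPc : P.comap (algebraMap (AdicCompletion (maximalIdeal C) C)
      (EGA4.formalFibre C (⊥ : Ideal C))) = q :=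
    IsLocalization.under_map_of_isPrime_disjoint
      (Algebra.algebraMapSubmonoid (AdicCompletion (maximalIdeal C) C) (nonZeroDivisors C))
      (EGA4.formalFibre C (⊥ : Ideal C)) inferInstance hdisj
  haveI : IsRegularLocalRing (Localization.AtPrime P) :=
    hreg.isRegularLocalRing_localization P
  have h2 : IsLocalization.AtPrime (Localization.AtPrime P)
      (P.comap (algebraMap (AdicCompletion (maximalIdeal C) C)
        (EGA4.formalFibre C (⊥ : Ideal C)))) :=
    IsLocalization.isLocalization_isLocalization_atPrime_isLocalization
      (Algebra.algebraMapSubmonoid (AdicCompletion (maximalIdeal C) C) (nonZeroDivisors C))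
      (Localization.AtPrime P) P
  have h3 : IsLocalization q.primeCompl (Localization.AtPrime P) := by
    have hpc : (P.comap (algebraMap (AdicCompletion (maximalIdeal C) C)
        (EGA4.formalFibre C (⊥ : Ideal C)))).primeCompl = q.primeCompl := by
      ext a
      show a ∉ P.comap _ ↔ a ∉ q
      rw [hPc]
    change IsLocalization _ _ at h2
    rw [hpc] at h2
    exact h2
  exact IsRegularLocalRing.of_ringEquiv (R := Localization.AtPrime P)
    (IsLocalization.algEquiv q.primeCompl (Localization.AtPrime P)
      (Localization.AtPrime q)).toRingEquiv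

end J2a

section J2b
variable {A B : Type u} [CommRing A] [IsRegularLocalRing A] [CharZero A] [CommRing B] [IsDomain B]
  [Algebra A B] [Module.Finite A B]

/-- the generic formal fibre of a regular local ring of characteristic zero is geometrically
regular. -/
theorem isGeometricallyRegular_formalFibre_bot (A₀ : Type u) [CommRing A₀] [IsRegularLocalRing A₀]
    [IsDomain A₀] [CharZero A₀] :
    CAlg.IsGeometricallyRegular (⊥ : Ideal A₀).ResidueField
      (EGA4.formalFibre A₀ (⊥ : Ideal A₀)) := by
  haveI : IsRegularLocalRing (AdicCompletion (maximalIdeal A₀) A₀) :=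
    (Groth.Agent.S0548.result A₀).mp inferInstance
  haveI : IsRegularRing (AdicCompletion (maximalIdeal A₀) A₀) :=
    H5.NG.isRegularRing_of_isRegularLocalRing _
  haveI : CharZero (⊥ : Ideal A₀).ResidueField :=
    charZero_of_injective_algebraMap (IsFractionRing.injective A₀ (⊥ : Ideal A₀).ResidueField)
  letI algR : Algebra (AdicCompletion (maximalIdeal A₀) A₀) (EGA4.formalFibre A₀ (⊥ : Ideal A₀)) :=
    Algebra.TensorProduct.rightAlgebra
  haveI hloc : IsLocalization (Algebra.algebraMapSubmonoid (AdicCompletion (maximalIdeal A₀) A₀)
      (nonZeroDivisors A₀)) (EGA4.formalFibre A₀ (⊥ : Ideal A₀)) :=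
    IsLocalization.tensorRight (S := AdicCompletion (maximalIdeal A₀) A₀)
      (A := (⊥ : Ideal A₀).ResidueField) (nonZeroDivisors A₀)
  haveI : IsRegularRing (EGA4.formalFibre A₀ (⊥ : Ideal A₀)) :=
    Groth.Agent.H1.Reg.isRegularRing_of_isLocalization (AdicCompletion (maximalIdeal A₀) A₀)
      (Algebra.algebraMapSubmonoid (AdicCompletion (maximalIdeal A₀) A₀) (nonZeroDivisors A₀)) _
  exact isGeometricallyRegular_of_charZero _ _

theorem isRegularRing_formalFibre_of_finite (hinj : Function.Injective (algebraMap A B))
    (n : Ideal B) [n.IsPrime] :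
    IsRegularRing (EGA4.formalFibre (Localization.AtPrime n)
      (⊥ : Ideal (Localization.AtPrime n))) := by
  classical
  haveI : IsDomain A := Groth.Agent.H7.Reg.isDomain A
  haveI : IsNoetherianRing B := IsNoetherianRing.of_finite A B
  haveI : IsRegularLocalRing (Localization.AtPrime (n.under A)) :=
    Groth.Agent.H1.Reg.isRegularLocalRing_localization A (n.under A)
  haveI : IsDomain (Localization.AtPrime (n.under A)) := Groth.Agent.H7.Reg.isDomain _
  haveI : CharZero (Localization.AtPrime (n.under A)) :=
    charZero_of_injective_algebraMap (R := A)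
      (IsLocalization.injective (Localization.AtPrime (n.under A))
        (n.under A).primeCompl_le_nonZeroDivisors)
  have hgr0 := isGeometricallyRegular_formalFibre_bot (Localization.AtPrime (n.under A))
  have hQ : Ideal.comap (algebraMap A (Localization.AtPrime (n.under A)))
      (⊥ : Ideal (Localization.AtPrime (n.under A))) =
      Ideal.comap (algebraMap A (Localization.AtPrime n)) (⊥ : Ideal (Localization.AtPrime n)) := by
    have h1 : Function.Injective (algebraMap A (Localization.AtPrime (n.under A))) :=
      IsLocalization.injective (Localization.AtPrime (n.under A))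
        (n.under A).primeCompl_le_nonZeroDivisors
    have h2 : Function.Injective (algebraMap A (Localization.AtPrime n)) := by
      rw [IsScalarTower.algebraMap_eq A B (Localization.AtPrime n)]
      exact (IsLocalization.injective (Localization.AtPrime n)
        n.primeCompl_le_nonZeroDivisors).comp hinj
    rw [Ideal.comap_bot_of_injective _ h1, Ideal.comap_bot_of_injective _ h2]
  have hgrC := Groth.Agent.H3.QFFormal.main_pt A B n (⊥ : Ideal (Localization.AtPrime n))
    (⊥ : Ideal (Localization.AtPrime (n.under A))) hQ hgr0
  exact Groth.Agent.H3.GRingFF.isRegularRing_of_isGeometricallyRegular _ _ hgrC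

end J2b

end Groth.Agent.H5.CD
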