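import Mathlib
import Groth.Prelude
import Groth.Agent.Lib.Helper5.CD.J2
import Groth.Agent.Lib.Helper5.CA.FSField
import Groth.Agent.Lib.Helper5.CA.PerfGR

set_option autoImplicit false
universe u

open TensorProduct IsLocalRing

namespace Groth.Agent.H5.CD

theorem main4602
    {A B : Type u} [CommRing A] [IsRegularLocalRing A] [CharZero A] [CommRing B] [IsDomain B] [Algebra A B]
    [Module.Finite A B] (hinj : Function.Injective (algebraMap A B)) (n : Ideal B) [n.IsPrime]
    (q : Ideal (AdicCompletion (maximalIdeal (Localization.AtPrime n)) (Localization.AtPrime n))) [q.IsPrime]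
    (hq : q.comap (algebraMap (Localization.AtPrime n)
      (AdicCompletion (maximalIdeal (Localization.AtPrime n)) (Localization.AtPrime n))) = ⊥)
    [Algebra (FractionRing B) (Localization.AtPrime q)] :
    CAlgX.IsAdicFormallySmooth (FractionRing B) (Localization.AtPrime q) (maximalIdeal (Localization.AtPrime q)) := by
  haveI hreg : IsRegularLocalRing (Localization.AtPrime q) :=
    isRegularLocalRing_of_isRegularRing_formalFibre (Localization.AtPrime n)
      (isRegularRing_formalFibre_of_finite hinj n) q hq
  haveI : CharZero B := charZero_of_injective_algebraMap hinj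
  haveI : CharZero (FractionRing B) :=
    charZero_of_injective_algebraMap (IsFractionRing.injective B (FractionRing B))
  haveI : Algebra.IsGeometricallyReduced (FractionRing B)
      (ResidueField (Localization.AtPrime q)) :=
    Groth.Agent.H5.isGeometricallyReduced_of_perfectField _ _
  exact ((Groth.Agent.H5.FSField.tfae (FractionRing B) (Localization.AtPrime q)).out 0 3).mpr hreg

end Groth.Agent.H5.CD
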