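import Mathlib

set_option autoImplicit false
universe u

namespace Groth.Agent.H5.GRC

section INT
variable {K : Type*} [Field K] {I : Type*} [Nonempty I]
  (E : I → Subfield K) (hdir : ∀ a b, ∃ c, E c ≤ E a ⊓ E b)

include hdir in
theorem exists_linearIndependent_fin : ∀ (n : ℕ) (v : Fin n → K),
    LinearIndependent (↥(⨅ i, E i)) v → ∃ i, LinearIndependent (↥(E i)) v := by
  classical
  intro n
  induction n with
  | zero =>
    intro v _
    obtain ⟨i⟩ := ‹Nonempty I›
    exact ⟨i, linearIndependent_empty_type⟩
  | succ n ih =>
    intro v hv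
    have hcons : v = Fin.cons (v 0) (fun t : Fin n => v t.succ) := by
      funext j
      refine Fin.cases ?_ (fun t => ?_) j
      · rfl
      · rfl
    rw [hcons] at hv
    rw [linearIndependent_fin_cons] at hv
    obtain ⟨hv', hv0⟩ := hv
    obtain ⟨i₀, hi₀⟩ := ih _ hv'
    by_contra hcon
    push_neg at hcon
    -- for every smaller member, `v 0` lies in the span of the tail
    have hmem : ∀ i, E i ≤ E i₀ → ∃ c : Fin n → ↥(E i), ∑ t, c t • v t.succ = v 0 := by
      intro i hi
      have hli : LinearIndependent (↥(E i)) (fun t : Fin n => v t.succ) := by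
        rw [linearIndependent_iff'] at hi₀ ⊢
        intro s g hg j hj
        have := hi₀ s (fun t => ⟨(g t : K), hi (g t).2⟩) hg j hj
        have h2 : (g j : K) = 0 := congrArg Subtype.val this
        exact Subtype.ext h2
      have hnot := hcon i
      rw [hcons, linearIndependent_fin_cons] at hnot
      push_neg at hnot
      have h1 := hnot hli
      exact (Submodule.mem_span_range_iff_exists_fun _).mp h1
    obtain ⟨c₀, hc₀⟩ := hmem i₀ le_rfl
    -- the coefficients lie in every member
    have hall : ∀ i t, (c₀ t : K) ∈ E i := by
      intro i t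
      obtain ⟨l, hl⟩ := hdir i i₀
      obtain ⟨c, hc⟩ := hmem l (hl.trans inf_le_right)
      have heq : ∀ t, (c t : K) = (c₀ t : K) := by
        rw [linearIndependent_iff'] at hi₀
        have hsum : ∑ t ∈ Finset.univ,
            (⟨(c t : K) - (c₀ t : K), sub_mem ((hl.trans inf_le_right) (c t).2) (c₀ t).2⟩ :
              ↥(E i₀)) • v t.succ = 0 := by
          have : ∀ t, (⟨(c t : K) - (c₀ t : K),
              sub_mem ((hl.trans inf_le_right) (c t).2) (c₀ t).2⟩ : ↥(E i₀)) • v t.succ =
              c t • v t.succ - c₀ t • v t.succ := by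
            intro t
            show ((c t : K) - (c₀ t : K)) * v t.succ = (c t : K) * v t.succ - (c₀ t : K) * v t.succ
            ring
          simp_rw [this]
          rw [Finset.sum_sub_distrib, hc, hc₀, sub_self]
        intro t
        have := hi₀ Finset.univ _ hsum t (Finset.mem_univ t)
        have h2 : (c t : K) - (c₀ t : K) = 0 := congrArg Subtype.val this
        exact sub_eq_zero.mp h2
      rw [← heq t]
      exact (hl.trans inf_le_left) (c t).2
    apply hv0
    refine (Submodule.mem_span_range_iff_exists_fun _).mpr
      ⟨fun t => ⟨(c₀ t : K), ?_⟩, ?_⟩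
    · rw [Subfield.mem_iInf]
      exact fun i => hall i t
    · rw [← hc₀]
      rfl

include hdir in
/-- **Linear independence over an intersection of a directed family of subfields**: a finite
family linearly independent over the intersection is already linearly independent over a member of
the family. -/
theorem exists_linearIndependent_of_iInf {ι : Type*} [Finite ι] (v : ι → K)
    (hv : LinearIndependent (↥(⨅ i, E i)) v) :
    ∃ i, LinearIndependent (↥(E i)) v := by
  obtain ⟨n, ⟨e⟩⟩ := Finite.exists_equiv_fin ι
  have h1 : LinearIndependent (↥(⨅ i, E i)) (v ∘ e.symm) := hv.comp _ e.symm.injective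
  obtain ⟨i, hi⟩ := exists_linearIndependent_fin E hdir n _ h1
  refine ⟨i, ?_⟩
  have h2 := hi.comp e e.injective
  have h3 : (v ∘ e.symm) ∘ e = v := by
    funext x
    simp
  rwa [h3] at h2

end INT

end Groth.Agent.H5.GRC
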