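import Mathlib
import Groth.Prelude
import Groth.Agent.Lib.Helper5.CD.K1
import Groth.Agent.Lib.Helper5.Imp.Imp7

set_option autoImplicit false
universe u

open EGA41

namespace Groth.Agent.H5.GRC

section K2
variable (p : ℕ) [hpp : Fact p.Prime] {K : Type u} [Field K] [CharP K p]
  {I : Type*} [Nonempty I] (κ : I → Subfield K) (hdir : ∀ a b, ∃ c, κ c ≤ κ a ⊓ κ b)
  (hInt : ((⨅ i, κ i : Subfield K) : Set K) = Set.range (fun y : K => y ^ p))
  {J : Type u} [Finite J] (x : J → K)

omit hpp [CharP K p] [Finite J] in
theorem finite_exponents [Finite J] : Finite {e : J →₀ ℕ // ∀ i, e i < p} := by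
  classical
  let f : {e : J →₀ ℕ // ∀ i, e i < p} → (J → Fin p) := fun e i => ⟨e.1 i, e.2 i⟩
  have hf : Function.Injective f := by
    intro e e' h
    apply Subtype.ext
    ext i
    exact congrArg (fun g : J → Fin p => (g i : ℕ)) h
  exact Finite.of_injective f hf

include hdir hInt in
/-- differentials independent absolutely stay independent relative to a member of the family. -/
theorem exists_linearIndependent_D
    (hx : LinearIndependent K (fun j => KaehlerDifferential.D ℤ K (x j))) :
    ∃ i, LinearIndependent K (fun j => KaehlerDifferential.D (↥(κ i)) K (x j)) := by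
  classical
  let F : Subfield K := ⊥
  -- step 1: independence over the prime field
  have hβ : Function.Injective (KaehlerDifferential.map ℤ F K K) :=
    H5.JZ.map_injective_of_surjective ℤ F K (Groth.Agent.H5.Imp.algebraMap_int_bot_surjective p K)
  have h1 : LinearIndependent K (fun j => KaehlerDifferential.D F K (x j)) := by
    have h2 := hx.map' (KaehlerDifferential.map ℤ F K K) (LinearMap.ker_eq_bot.mpr hβ)
    have h3 : (fun j => KaehlerDifferential.D F K (x j)) =
        (KaehlerDifferential.map ℤ F K K) ∘ fun j => KaehlerDifferential.D ℤ K (x j) := by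
      funext j
      show _ = KaehlerDifferential.map ℤ F K K (KaehlerDifferential.D ℤ K (x j))
      rw [KaehlerDifferential.map_D, Algebra.algebraMap_self_apply]
    rw [h3]
    exact h2
  have hpi : IsPIndependent p F x := H5.PB.isPIndependent_of_linearIndependent_D p x h1
  -- step 2: independence over the intersection
  haveI := finite_exponents p (J := J)
  have hpow : ∀ y : K, y ^ p ∈ (⨅ i, κ i : Subfield K) := by
    intro y
    have : y ^ p ∈ ((⨅ i, κ i : Subfield K) : Set K) := by
      rw [hInt]
      exact ⟨y, rfl⟩
    exact this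
  have hli : LinearIndependent (↥(⨅ i, κ i : Subfield K))
      (fun e : {e : J →₀ ℕ // ∀ i, e i < p} => pMonomial x e.1) := by
    have hpi' : LinearIndependent (↥(pPowerSubalgebra p F K))
        (fun e : {e : J →₀ ℕ // ∀ i, e i < p} => pMonomial x e.1) := hpi
    rw [linearIndependent_iff'] at hpi' ⊢
    intro s g hg e he
    have hmem : ∀ y ∈ (⨅ i, κ i : Subfield K), y ∈ pPowerSubalgebra p F K := by
      intro y hy
      have hy' : y ∈ ((⨅ i, κ i : Subfield K) : Set K) := hy
      rw [hInt] at hy'
      exact Algebra.subset_adjoin hy'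
    have := hpi' s (fun t => ⟨(g t : K), hmem _ (g t).2⟩) hg e he
    have h2 : (g e : K) = 0 := congrArg Subtype.val this
    exact Subtype.ext h2
  obtain ⟨i, hi⟩ := exists_linearIndependent_of_iInf κ hdir _ hli
  refine ⟨i, ?_⟩
  -- step 3: `p`-independence over the member
  have hpi2 : IsPIndependent p (↥(κ i)) x := by
    show LinearIndependent (↥(pPowerSubalgebra p (↥(κ i)) K))
      (fun e : {e : J →₀ ℕ // ∀ i, e i < p} => pMonomial x e.1)
    have hmem : ∀ y ∈ pPowerSubalgebra p (↥(κ i)) K, y ∈ κ i := by
      intro y hy
      refine Algebra.adjoin_induction ?_ ?_ ?_ ?_ hy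
      · rintro _ ⟨z, rfl⟩
        exact (iInf_le κ i) (hpow z)
      · intro c
        exact c.2
      · intro a b _ _ ha hb
        exact add_mem ha hb
      · intro a b _ _ ha hb
        exact mul_mem ha hb
    rw [linearIndependent_iff'] at hi ⊢
    intro s g hg e he
    have := hi s (fun t => ⟨(g t : K), hmem _ (g t).2⟩) hg e he
    have h2 : (g e : K) = 0 := congrArg Subtype.val this
    exact Subtype.ext h2
  exact H5.PB.linearIndependent_D_of_isPIndependent p x hpi2

end K2

end Groth.Agent.H5.GRC
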