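import Mathlib

set_option autoImplicit false
universe u

namespace Groth.Agent.H5.GRC

section K3
variable {R K : Type u} [CommRing R] [IsDomain R] [Field K] [Algebra R K] [IsFractionRing R K]
  (S₀ : Subring R) [Module.Finite (↥S₀) R]
  {J : Type u} [Fintype J] [DecidableEq J] (x : J → R)

/-- **derivations with nonvanishing Jacobian**: elements of `R` whose differentials relative to
the fraction field of a subring `S₀` (over which `R` is finite) are independent admit
`S₀`-derivations of `R` with nonzero Jacobian determinant. -/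
theorem exists_leibniz_det_ne_zero
    (hx : LinearIndependent K (fun j => KaehlerDifferential.D
      (↥(Subfield.closure ((algebraMap R K) '' (S₀ : Set R)))) K (algebraMap R K (x j)))) :
    ∃ δ : J → (R →+ R), (∀ l a b, δ l (a * b) = a * δ l b + b * δ l a) ∧
      (∀ l, ∀ s ∈ S₀, δ l s = 0) ∧ Matrix.det (Matrix.of fun l j => δ l (x j)) ≠ 0 := by
  classical
  set κ₀ : Subfield K := Subfield.closure ((algebraMap R K) '' (S₀ : Set R)) with hκ₀
  have hinj : Function.Injective (algebraMap R K) := IsFractionRing.injective R K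
  -- dual coordinates
  have hφ := (linearIndependent_iff_injective_fintypeLinearCombination.mp hx)
  obtain ⟨g, hg⟩ := LinearMap.exists_leftInverse_of_injective
    (Fintype.linearCombination K (fun j => KaehlerDifferential.D (↥κ₀) K (algebraMap R K (x j))))
    (LinearMap.ker_eq_bot.mpr hφ)
  have hgx : ∀ j, g (KaehlerDifferential.D (↥κ₀) K (algebraMap R K (x j))) = Pi.single j 1 := by
    intro j
    have h1 := congrArg (fun f => f (Pi.single j (1 : K))) hg
    simp only [LinearMap.comp_apply, LinearMap.id_apply] at h1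
    rw [Fintype.linearCombination_apply_single, one_smul] at h1
    exact h1
  -- the derivations of `K`
  let Λ : J → K → K := fun l y => g (KaehlerDifferential.D (↥κ₀) K y) l
  have hΛadd : ∀ l y z, Λ l (y + z) = Λ l y + Λ l z := by
    intro l y z
    show g (KaehlerDifferential.D (↥κ₀) K (y + z)) l = _
    rw [map_add, map_add]
    rfl
  have hΛmul : ∀ l y z, Λ l (y * z) = y * Λ l z + z * Λ l y := by
    intro l y z
    show g (KaehlerDifferential.D (↥κ₀) K (y * z)) l = _
    rw [Derivation.leibniz, map_add, map_smul, map_smul]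
    rfl
  have hΛκ : ∀ l, ∀ y ∈ κ₀, Λ l y = 0 := by
    intro l y hy
    show g (KaehlerDifferential.D (↥κ₀) K y) l = 0
    have h1 : KaehlerDifferential.D (↥κ₀) K y = 0 := by
      have : y = algebraMap (↥κ₀) K ⟨y, hy⟩ := rfl
      rw [this, Derivation.map_algebraMap]
    rw [h1, map_zero]
    rfl
  have hΛS : ∀ l, ∀ s ∈ S₀, Λ l (algebraMap R K s) = 0 := fun l s hs =>
    hΛκ l _ (Subfield.subset_closure ⟨s, hs, rfl⟩)
  have hΛx : ∀ l j, Λ l (algebraMap R K (x j)) = if j = l then 1 else 0 := by
    intro l j
    show g (KaehlerDifferential.D (↥κ₀) K (algebraMap R K (x j))) l = _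
    rw [hgx, Pi.single_apply]
    by_cases h : l = j
    · rw [if_pos h, if_pos h.symm]
    · rw [if_neg h, if_neg (Ne.symm h)]
  -- generators and a common denominator
  obtain ⟨N, γ, hγ⟩ := Module.Finite.exists_fin (R := ↥S₀) (M := R)
  obtain ⟨c, hc⟩ := IsLocalization.exist_integer_multiples (nonZeroDivisors R)
    (Finset.univ : Finset (J × Fin N)) (fun lt => Λ lt.1 (algebraMap R K (γ lt.2)))
  have hc0 : (c : R) ≠ 0 := nonZeroDivisors.ne_zero c.2
  have hint : ∀ l (r : R), ∃ r' : R, algebraMap R K r' = algebraMap R K c * Λ l (algebraMap R K r) := by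
    intro l r
    have hr : r ∈ Submodule.span (↥S₀) (Set.range γ) := hγ ▸ Submodule.mem_top
    obtain ⟨σ, rfl⟩ := (Submodule.mem_span_range_iff_exists_fun (↥S₀)).mp hr
    have hterm : ∀ t, ∃ r' : R, algebraMap R K r' =
        algebraMap R K c * Λ l (algebraMap R K (σ t • γ t)) := by
      intro t
      obtain ⟨r₁, hr₁⟩ := hc (l, t) (Finset.mem_univ _)
      refine ⟨(σ t : R) * r₁, ?_⟩
      have h1 : σ t • γ t = (σ t : R) * γ t := rfl
      rw [h1, map_mul, map_mul, hΛmul, hΛS l _ (σ t).2, mul_zero, add_zero, hr₁,
        Algebra.smul_def]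
      ring
    choose r' hr' using hterm
    refine ⟨∑ t, r' t, ?_⟩
    rw [map_sum, map_sum]
    have hsum : ∀ (s : Finset (Fin N)) (f : Fin N → K), Λ l (∑ t ∈ s, f t) = ∑ t ∈ s, Λ l (f t) := by
      intro s f
      induction s using Finset.induction_on with
      | empty =>
        rw [Finset.sum_empty, Finset.sum_empty]
        have := hΛκ l 0 (zero_mem _)
        exact this
      | insert a s ha ih => rw [Finset.sum_insert ha, Finset.sum_insert ha, hΛadd, ih]
    rw [hsum, Finset.mul_sum]
    exact Finset.sum_congr rfl fun t _ => hr' t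
  choose d hd using hint
  have hdadd : ∀ l a b, d l (a + b) = d l a + d l b := by
    intro l a b
    apply hinj
    rw [hd, map_add, hΛadd, mul_add, map_add, hd, hd]
  refine ⟨fun l => AddMonoidHom.mk' (d l) (hdadd l), ?_, ?_, ?_⟩
  · intro l a b
    apply hinj
    show algebraMap R K (d l (a * b)) = algebraMap R K (a * d l b + b * d l a)
    rw [hd, map_mul, hΛmul, map_add, map_mul, map_mul, hd, hd]
    ring
  · intro l s hs
    apply hinj
    show algebraMap R K (d l s) = algebraMap R K 0
    rw [hd, hΛS l s hs, mul_zero, map_zero]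
  · intro hdet
    have h1 : (algebraMap R K).mapMatrix (Matrix.of fun l j => d l (x j)) =
        algebraMap R K c • (1 : Matrix J J K) := by
      ext l j
      simp only [RingHom.mapMatrix_apply, Matrix.map_apply, Matrix.of_apply, Matrix.smul_apply,
        smul_eq_mul]
      rw [hd, hΛx, Matrix.one_apply]
      by_cases h : l = j
      · rw [if_pos h, if_pos h.symm]
      · rw [if_neg h, if_neg (Ne.symm h)]
    have h2 : Matrix.det (Matrix.of fun l j => (AddMonoidHom.mk' (d l) (hdadd l)) (x j)) =
        Matrix.det (Matrix.of fun l j => d l (x j)) := rfl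
    rw [h2] at hdet
    have h3 := congrArg (algebraMap R K) hdet
    rw [RingHom.map_det, h1, Matrix.det_smul, Matrix.det_one, mul_one, map_zero] at h3
    have hcK : algebraMap R K c ≠ 0 := fun h0 => hc0 (hinj (h0.trans (map_zero _).symm))
    exact pow_ne_zero _ hcK h3

end K3

end Groth.Agent.H5.GRC
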