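import Mathlib

set_option autoImplicit false
universe u

open TensorProduct IsLocalRing

namespace Groth.Agent.H5.GRC

section K4
variable {K D : Type u} [Field K] [CommRing D] [IsLocalRing D] [Algebra K D]
  {ι : Type u} [DecidableEq ι] (x : ι → K) (b : Module.Basis ι K (Ω[K⁄ℤ]))
  (hb : ∀ i, b i = KaehlerDifferential.D ℤ K (x i))

/-- the linear form on `E ⊗ Ω_D` attached to an additive Leibniz map. -/
theorem exists_form_of_leibniz (δ : D →+ D) (hδ : ∀ a c, δ (a * c) = a * δ c + c * δ a) :
    ∃ lam : ResidueField D ⊗[D] Ω[D⁄ℤ] →ₗ[ResidueField D] ResidueField D,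
      ∀ y : D, lam ((1 : ResidueField D) ⊗ₜ[D] KaehlerDifferential.D ℤ D y) = residue D (δ y) := by
  let Dδ : Derivation ℤ D D := Derivation.mk' δ.toIntLinearMap (fun a c => by
    show δ (a * c) = a • δ c + c • δ a
    rw [hδ, smul_eq_mul, smul_eq_mul])
  refine ⟨LinearMap.liftBaseChange (ResidueField D)
    ((Algebra.linearMap D (ResidueField D)) ∘ₗ Dδ.liftKaehlerDifferential), fun y => ?_⟩
  rw [LinearMap.liftBaseChange_tmul, one_smul, LinearMap.comp_apply,
    Derivation.liftKaehlerDifferential_comp_D]
  rfl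

include hb in
/-- **injectivity from derivations**: if every finite part of a differential basis of `K` admits
derivations of `D` with invertible Jacobian, then `Ω_K ⊗ E → Ω_D ⊗ E` is injective. -/
theorem injective_lTensor_mapBaseChange_of_leibniz
    (H : ∀ s : Finset ι, ∃ δ : ↥s → (D →+ D), (∀ l a c, δ l (a * c) = a * δ l c + c * δ l a) ∧
      IsUnit (Matrix.det (Matrix.of fun (l j : ↥s) => δ l (algebraMap K D (x j))))) :
    Function.Injective ((KaehlerDifferential.mapBaseChange ℤ K D).lTensor (ResidueField D)) := by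
  let Bs : Module.Basis ι (ResidueField D) (ResidueField D ⊗[D] (D ⊗[K] Ω[K⁄ℤ])) :=
    (b.baseChange D).baseChange (ResidueField D)
  let f : ResidueField D ⊗[D] (D ⊗[K] Ω[K⁄ℤ]) →ₗ[ResidueField D] ResidueField D ⊗[D] Ω[D⁄ℤ] :=
    LinearMap.baseChange (ResidueField D) (KaehlerDifferential.mapBaseChange ℤ K D)
  have hfB : ∀ i, f (Bs i) = (1 : ResidueField D) ⊗ₜ[D]
      KaehlerDifferential.D ℤ D (algebraMap K D (x i)) := by
    intro i
    show f (((b.baseChange D).baseChange (ResidueField D)) i) = _
    rw [Module.Basis.baseChange_apply, Module.Basis.baseChange_apply, LinearMap.baseChange_tmul,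
      hb, KaehlerDifferential.mapBaseChange_tmul, one_smul, KaehlerDifferential.map_D]
  have hf : ∀ z, (KaehlerDifferential.mapBaseChange ℤ K D).lTensor (ResidueField D) z = f z := by
    intro z
    show _ = LinearMap.baseChange (ResidueField D) (KaehlerDifferential.mapBaseChange ℤ K D) z
    rw [LinearMap.baseChange_eq_ltensor]
  rw [injective_iff_map_eq_zero]
  intro z hz
  rw [hf] at hz
  -- expand `z` in the basis
  set c := Bs.repr z with hc
  set s := c.support with hs
  have hzsum : z = ∑ i ∈ s, c i • Bs i := by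
    have h1 := Bs.linearCombination_repr z
    rw [Finsupp.linearCombination_apply, Finsupp.sum] at h1
    exact h1.symm
  obtain ⟨δ, hδ, hdet⟩ := H s
  choose lam hlam using fun l => exists_form_of_leibniz (δ l) (hδ l)
  -- apply the forms
  have hrel : ∀ l : ↥s, ∑ i ∈ s, c i * residue D (δ l (algebraMap K D (x i))) = 0 := by
    intro l
    have h1 := congrArg (lam l) hz
    rw [map_zero, hzsum, map_sum, map_sum] at h1
    rw [← h1]
    refine Finset.sum_congr rfl fun i _ => ?_
    rw [map_smul, map_smul, hfB, hlam, smul_eq_mul]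
  -- matrix form
  let M : Matrix ↥s ↥s D := Matrix.of fun (l j : ↥s) => δ l (algebraMap K D (x j))
  let Mbar : Matrix ↥s ↥s (ResidueField D) := (residue D).mapMatrix M
  have hMbar : Mbar.det ≠ 0 := by
    show ((residue D).mapMatrix M).det ≠ 0
    rw [← RingHom.map_det]
    exact (hdet.map (residue D)).ne_zero
  have hvec : Mbar.mulVec (fun j : ↥s => c j) = 0 := by
    funext l
    rw [Matrix.mulVec, Pi.zero_apply]
    show ∑ j : ↥s, Mbar l j * c j = 0
    have h2 := hrel l
    rw [← Finset.sum_coe_sort s] at h2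
    rw [← h2]
    refine Finset.sum_congr rfl fun j _ => ?_
    rw [mul_comm]
    rfl
  have hc0 := Matrix.eq_zero_of_mulVec_eq_zero hMbar hvec
  rw [hzsum]
  refine Finset.sum_eq_zero fun i hi => ?_
  have : c i = 0 := congrFun hc0 ⟨i, hi⟩
  rw [this, zero_smul]

end K4

end Groth.Agent.H5.GRC
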