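import Mathlib
import Groth.Agent.Lib.Helper5.RJ.F

set_option autoImplicit false
universe u

open TensorProduct IsLocalRing

namespace Groth.Agent.H5.GRC

/-- an additive map satisfying the Leibniz rule. -/
def IsLeibniz {A : Type*} [CommRing A] (δ : A →+ A) : Prop :=
  ∀ a c, δ (a * c) = a * δ c + c * δ a

section loc
variable {A Q : Type u} [CommRing A] [CommRing Q] [Algebra A Q] (M : Submonoid A)
  [IsLocalization M Q]

include M in
/-- Leibniz maps extend to localisations. -/
theorem exists_leibniz_localization (δ : A →+ A) (hδ : IsLeibniz δ) :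
    ∃ δ' : Q →+ Q, IsLeibniz δ' ∧ ∀ a, δ' (algebraMap A Q a) = algebraMap A Q (δ a) := by
  let Dδ : Derivation ℤ A A := Derivation.mk' δ.toIntLinearMap (fun a c => by
    show δ (a * c) = a • δ c + c • δ a
    rw [hδ, smul_eq_mul, smul_eq_mul])
  haveI := Algebra.FormallyEtale.of_isLocalization (Rₘ := Q) M
  let D' : Derivation ℤ Q Q :=
    ((KaehlerDifferential.isBaseChange_of_formallyEtale ℤ A Q).lift
      ((Algebra.linearMap A Q) ∘ₗ Dδ.liftKaehlerDifferential)).compDer (KaehlerDifferential.D ℤ Q)
  refine ⟨D'.toLinearMap.toAddMonoidHom, ?_, ?_⟩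
  · intro a c
    show D' (a * c) = a * D' c + c * D' a
    rw [Derivation.leibniz, smul_eq_mul, smul_eq_mul]
  · intro a
    show D' (algebraMap A Q a) = _
    show ((KaehlerDifferential.isBaseChange_of_formallyEtale ℤ A Q).lift
      ((Algebra.linearMap A Q) ∘ₗ Dδ.liftKaehlerDifferential))
        (KaehlerDifferential.D ℤ Q (algebraMap A Q a)) = _
    rw [← KaehlerDifferential.map_D ℤ ℤ A Q, IsBaseChange.lift_eq]
    simp only [LinearMap.comp_apply, Derivation.liftKaehlerDifferential_comp_D]
    rfl

end loc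

section compl
variable {A : Type u} [CommRing A] (I : Ideal A)

/-- Leibniz maps extend to adic completions. -/
theorem exists_leibniz_completion (δ : A →+ A) (hδ : IsLeibniz δ) :
    ∃ δ' : AdicCompletion I A →+ AdicCompletion I A, IsLeibniz δ' ∧
      ∀ a, δ' (algebraMap A (AdicCompletion I A) a) = algebraMap A (AdicCompletion I A) (δ a) := by
  let Dδ : Derivation ℤ A A := Derivation.mk' δ.toIntLinearMap (fun a c => by
    show δ (a * c) = a • δ c + c • δ a
    rw [hδ, smul_eq_mul, smul_eq_mul])
  let D' := Groth.Agent.H5.RJ.Dhat I Dδ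
  refine ⟨D'.toLinearMap.toAddMonoidHom, ?_, ?_⟩
  · intro a c
    show D' (a * c) = a * D' c + c * D' a
    rw [Derivation.leibniz]
    rfl
  · intro a
    exact Groth.Agent.H5.RJ.Dhat_of I Dδ a

end compl

end Groth.Agent.H5.GRC
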