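import Mathlib
import Groth.Prelude
import Groth.Agent.Lib.Helper5.CD.K2
import Groth.Agent.Lib.Helper5.CD.K3
import Groth.Agent.Lib.Helper5.CD.K4
import Groth.Agent.Lib.Helper5.CD.K5

set_option autoImplicit false
universe u

open TensorProduct IsLocalRing

namespace Groth.Agent.H5.GRC

section K6
variable (p : ℕ) [hpp : Fact p.Prime] {R K D : Type u} [CommRing R] [IsDomain R] [CharP R p]
  [Field K] [Algebra R K] [IsFractionRing R K]
  [CommRing D] [IsLocalRing D] [Algebra K D] [Algebra R D] [IsScalarTower R K D]
  {I : Type*} [Nonempty I] (S : I → Subring R) (hdir : ∀ a b, ∃ c, S c ≤ S a ⊓ S b)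
  (hfin : ∀ i, Module.Finite (↥(S i)) R)
  (hInt : ((⨅ i, Subfield.closure ((algebraMap R K) '' (S i : Set R)) : Subfield K) : Set K) =
    Set.range (fun y : K => y ^ p))
  (hext : ∀ δ : R →+ R, IsLeibniz δ → ∃ δ' : D →+ D, IsLeibniz δ' ∧
    ∀ a, δ' (algebraMap R D a) = algebraMap R D (δ a))

include hdir hfin hInt hext in
/-- **abstract injectivity criterion**: if the fraction field `K` of `R` has `K^p` cut out by the
fraction fields of a directed family of subrings over which `R` is finite, and every Leibniz map
of `R` extends to the local `K`-algebra `D`, then `Ω_K ⊗ κ(D) → Ω_D ⊗ κ(D)` is injective. -/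
theorem injective_lTensor_mapBaseChange :
    Function.Injective
      ((KaehlerDifferential.mapBaseChange ℤ K D).lTensor (ResidueField D)) := by
  classical
  haveI : CharP K p := charP_of_injective_algebraMap (IsFractionRing.injective R K) p
  -- a differential basis coming from `R`
  have hspan : (⊤ : Submodule K (Ω[K⁄ℤ])) ≤ Submodule.span K
      (Set.range fun a : R => KaehlerDifferential.D ℤ K (algebraMap R K a)) := by
    have h := KaehlerDifferential.span_range_map_derivation_of_isLocalization ℤ R K
      (nonZeroDivisors R)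
    rw [← h]
    apply Submodule.span_mono
    rintro _ ⟨a, rfl⟩
    exact ⟨a, by simp [KaehlerDifferential.map_D]⟩
  let b := Module.Basis.ofSpan hspan
  have hbmem : ∀ i, ∃ a : R, KaehlerDifferential.D ℤ K (algebraMap R K a) = b i := fun i =>
    Module.Basis.ofSpan_subset hspan ⟨i, rfl⟩
  choose a ha using hbmem
  refine injective_lTensor_mapBaseChange_of_leibniz (D := D) (fun i => algebraMap R K (a i)) b
    (fun i => (ha i).symm) ?_
  intro s
  -- independence of the finite subfamily
  have hLI : LinearIndependent K
      (fun j : ↥s => KaehlerDifferential.D ℤ K (algebraMap R K (a j))) := by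
    have h1 : LinearIndependent K (fun j : ↥s => b j) :=
      b.linearIndependent.comp (fun j : ↥s => (j : _)) Subtype.val_injective
    have h2 : (fun j : ↥s => KaehlerDifferential.D ℤ K (algebraMap R K (a j))) =
        fun j : ↥s => b j := by
      funext j; exact ha j
    rw [h2]; exact h1
  -- pass to a member of the family
  have hdir' : ∀ i j, ∃ c, Subfield.closure ((algebraMap R K) '' (S c : Set R)) ≤
      Subfield.closure ((algebraMap R K) '' (S i : Set R)) ⊓
        Subfield.closure ((algebraMap R K) '' (S j : Set R)) := by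
    intro i j
    obtain ⟨c, hc⟩ := hdir i j
    refine ⟨c, le_inf ?_ ?_⟩
    · apply Subfield.closure_mono
      apply Set.image_mono
      exact fun x hx => (hc hx).1
    · apply Subfield.closure_mono
      apply Set.image_mono
      exact fun x hx => (hc hx).2
  obtain ⟨i, hi⟩ := exists_linearIndependent_D p
    (fun i => Subfield.closure ((algebraMap R K) '' (S i : Set R))) hdir' hInt
    (fun j : ↥s => algebraMap R K (a j)) hLI
  haveI := hfin i
  obtain ⟨δ, hδL, -, hδdet⟩ := exists_leibniz_det_ne_zero (K := K) (S i) (fun j : ↥s => a j) hi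
  -- extend to `D`
  have hex : ∀ l, ∃ δ' : D →+ D, IsLeibniz δ' ∧
      ∀ c, δ' (algebraMap R D c) = algebraMap R D (δ l c) := fun l => hext (δ l) (hδL l)
  choose δ' hδ'L hδ' using hex
  refine ⟨δ', fun l c d => hδ'L l c d, ?_⟩
  have hmat : (Matrix.of fun (l j : ↥s) => δ' l (algebraMap K D (algebraMap R K (a j)))) =
      (algebraMap R D).mapMatrix (Matrix.of fun (l j : ↥s) => δ l (a j)) := by
    ext l j
    show δ' l (algebraMap K D (algebraMap R K (a j))) = algebraMap R D (δ l (a j))
    rw [← IsScalarTower.algebraMap_apply R K D, hδ']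
  rw [hmat, ← RingHom.map_det, IsScalarTower.algebraMap_apply R K D]
  apply IsUnit.map
  rw [isUnit_iff_ne_zero]
  intro h0
  apply hδdet
  exact (IsFractionRing.injective R K) (by rw [h0, map_zero])

end K6

end Groth.Agent.H5.GRC
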