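import Mathlib
import Groth.Prelude
import Groth.Agent.Lib.Helper5.CD.K5

set_option autoImplicit false
universe u

open TensorProduct IsLocalRing

namespace Groth.Agent.H5.GRC

section K7a
variable (C : Type u) [CommRing C] [IsDomain C] [IsLocalRing C]
  (m : Ideal (EGA4.formalFibre C (⊥ : Ideal C))) [m.IsPrime]
  (D : Type u) [CommRing D] [Algebra (EGA4.formalFibre C (⊥ : Ideal C)) D]
  [IsLocalization.AtPrime D m] [Algebra (⊥ : Ideal C).ResidueField D]
  [IsScalarTower (⊥ : Ideal C).ResidueField (EGA4.formalFibre C (⊥ : Ideal C)) D]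

include m in
/-- Leibniz maps of a local domain extend to the local rings of its generic formal fibre. -/
theorem exists_leibniz_formalFibre (δ : C →+ C) (hδ : IsLeibniz δ) :
    ∃ δ' : D →+ D, IsLeibniz δ' ∧
      ∀ c, δ' (algebraMap (⊥ : Ideal C).ResidueField D
          (algebraMap C (⊥ : Ideal C).ResidueField c)) =
        algebraMap (⊥ : Ideal C).ResidueField D
          (algebraMap C (⊥ : Ideal C).ResidueField (δ c)) := by
  classical
  obtain ⟨δ₂, h₂L, h₂⟩ := exists_leibniz_completion (maximalIdeal C) δ hδ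
  letI algR : Algebra (AdicCompletion (maximalIdeal C) C) (EGA4.formalFibre C (⊥ : Ideal C)) :=
    Algebra.TensorProduct.rightAlgebra
  haveI hloc : IsLocalization (Algebra.algebraMapSubmonoid (AdicCompletion (maximalIdeal C) C)
      (nonZeroDivisors C)) (EGA4.formalFibre C (⊥ : Ideal C)) :=
    IsLocalization.tensorRight (S := AdicCompletion (maximalIdeal C) C)
      (A := (⊥ : Ideal C).ResidueField) (nonZeroDivisors C)
  obtain ⟨δ₃, h₃L, h₃⟩ := exists_leibniz_localization
    (Q := EGA4.formalFibre C (⊥ : Ideal C))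
    (Algebra.algebraMapSubmonoid (AdicCompletion (maximalIdeal C) C) (nonZeroDivisors C)) δ₂ h₂L
  obtain ⟨δ₄, h₄L, h₄⟩ := exists_leibniz_localization
    (Q := D) m.primeCompl δ₃ h₃L
  refine ⟨δ₄, h₄L, ?_⟩
  have key : ∀ c : C, algebraMap (⊥ : Ideal C).ResidueField D
      (algebraMap C (⊥ : Ideal C).ResidueField c) =
      algebraMap (EGA4.formalFibre C (⊥ : Ideal C)) D
        (algebraMap (AdicCompletion (maximalIdeal C) C) (EGA4.formalFibre C (⊥ : Ideal C))
          (algebraMap C (AdicCompletion (maximalIdeal C) C) c)) := by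
    intro c
    rw [IsScalarTower.algebraMap_apply (⊥ : Ideal C).ResidueField
      (EGA4.formalFibre C (⊥ : Ideal C)) D]
    congr 1
    rw [Algebra.TensorProduct.algebraMap_apply]
    show _ = (1 : (⊥ : Ideal C).ResidueField) ⊗ₜ[C] (algebraMap C (AdicCompletion (maximalIdeal C) C) c)
    rw [Algebra.algebraMap_eq_smul_one (R := C) (A := (⊥ : Ideal C).ResidueField) c,
      Algebra.algebraMap_eq_smul_one (R := C) (A := AdicCompletion (maximalIdeal C) C) c]
    exact TensorProduct.smul_tmul c 1 1
  intro c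
  rw [key, key, h₄, h₃, h₂]

end K7a

end Groth.Agent.H5.GRC
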