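import Mathlib
import Groth.Prelude
import Groth.Agent.Lib.Helper5.CD.K6
import Groth.Agent.Lib.Helper5.CD.K7
import Groth.Agent.Lib.Helper5.CD.J2
import Groth.Agent.Lib.Helper9.Misc.PBS3
import Groth.Agent.Lib.Helper5.CA.NG19
import Groth.Agent.Lib.Helper5.CA.NG22
import Groth.Agent.Lib.Helper5.CA.KF5
import Groth.Agent.Lib.Helper6.PSCotC

set_option autoImplicit false
universe u

open TensorProduct IsLocalRing

namespace Groth.Agent.H5.GRC

section transfer
variable {R : Type*} [CommRing R] [IsDomain R] (K L : Type*) [Field K] [Field L] [Algebra R K]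
  [Algebra R L] [IsFractionRing R K] [IsFractionRing R L] (p : ℕ) {I : Type*} (S : I → Subring R)

/-- the description of `p`-th powers as an intersection is independent of the model of the
fraction field. -/
theorem iInf_closure_transfer
    (h : (⨅ i, (Subfield.closure ((algebraMap R K) '' (S i : Set R)) : Set K)) =
      Set.range (fun x : K => x ^ p)) :
    ((⨅ i, Subfield.closure ((algebraMap R L) '' (S i : Set R)) : Subfield L) : Set L) =
      Set.range (fun y : L => y ^ p) := by
  let e : K ≃ₐ[R] L := IsLocalization.algEquiv (nonZeroDivisors R) K L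
  have hcl : ∀ i, Subfield.closure ((algebraMap R L) '' (S i : Set R)) =
      (Subfield.closure ((algebraMap R K) '' (S i : Set R))).map (e : K →+* L) := by
    intro i
    rw [RingHom.map_field_closure, Set.image_image]
    congr 1
    ext z
    constructor
    · rintro ⟨a, ha, rfl⟩
      exact ⟨a, ha, by simp⟩
    · rintro ⟨a, ha, rfl⟩
      exact ⟨a, ha, by simp⟩
  ext z
  have h1 : z ∈ ((⨅ i, Subfield.closure ((algebraMap R L) '' (S i : Set R)) : Subfield L) : Set L) ↔
      e.symm z ∈ (⨅ i, (Subfield.closure ((algebraMap R K) '' (S i : Set R)) : Set K)) := by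
    rw [SetLike.mem_coe, Subfield.mem_iInf, Set.iInf_eq_iInter, Set.mem_iInter]
    apply forall_congr'
    intro i
    rw [hcl i, Subfield.mem_map]
    constructor
    · rintro ⟨y, hy, rfl⟩
      simpa using hy
    · intro hz
      exact ⟨e.symm z, hz, by simp⟩
  rw [h1, h]
  constructor
  · rintro ⟨y, hy⟩
    refine ⟨e y, ?_⟩
    show (e y) ^ p = z
    rw [← map_pow]
    have : y ^ p = e.symm z := hy
    rw [this]; simp
  · rintro ⟨y, rfl⟩
    exact ⟨e.symm y, by simp⟩

end transfer

section tower

/-- the fraction field of a localisation is a fraction field of the ring. -/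
theorem isFractionRing_of_tower (R B K : Type*) [CommRing R] [IsDomain R] [CommRing B] [Field K]
    [Algebra R B] [Algebra B K] [Algebra R K] [IsScalarTower R B K] (M : Submonoid R)
    (hM : M ≤ nonZeroDivisors R) [IsLocalization M B] [IsFractionRing B K] :
    IsFractionRing R K := by
  haveI : IsDomain B := IsLocalization.isDomain_of_le_nonZeroDivisors B hM
  have h := IsLocalization.localization_localization_isLocalization_of_has_all_units M
    (nonZeroDivisors B) K (fun x hx => hx.mem_nonZeroDivisors)
  have heq : (nonZeroDivisors B).comap (algebraMap R B) = nonZeroDivisors R := by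
    ext a
    simp only [Submonoid.mem_comap, mem_nonZeroDivisors_iff_ne_zero]
    exact (map_ne_zero_iff _ (IsLocalization.injective B hM))
  rw [heq] at h
  exact h

end tower

section X

/-- **Theorem X**, abstract form: if `R₀` is a regular local domain of characteristic `p` whose
fraction field has its `p`-th powers cut out by the fraction fields of a directed family of
subrings over which `R₀` is finite, then the generic formal fibre of any localisation of `R₀`
at a prime is geometrically regular. -/
theorem isGeometricallyRegular_formalFibre_of_family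
    (R₀ : Type u) [CommRing R₀] [IsDomain R₀] [IsRegularLocalRing R₀] (p : ℕ) [hpp : Fact p.Prime]
    [CharP R₀ p] {I : Type*} [Nonempty I] (S : I → Subring R₀)
    (hdir : ∀ a b, ∃ c, S c ≤ S a ⊓ S b) (hfin : ∀ i, Module.Finite (↥(S i)) R₀)
    (hInt : (⨅ i, (Subfield.closure ((algebraMap R₀ (FractionRing R₀)) '' (S i : Set R₀)) :
      Set (FractionRing R₀))) = Set.range (fun x : FractionRing R₀ => x ^ p))
    (P₀ : Ideal R₀) [P₀.IsPrime] :
    CAlg.IsGeometricallyRegular (⊥ : Ideal (Localization.AtPrime P₀)).ResidueField
      (EGA4.formalFibre (Localization.AtPrime P₀) (⊥ : Ideal (Localization.AtPrime P₀))) := by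
  classical
  haveI : IsRegularLocalRing (Localization.AtPrime P₀) :=
    Groth.Agent.H1.Reg.isRegularLocalRing_localization _ P₀
  haveI : IsDomain (Localization.AtPrime P₀) := Groth.Agent.H7.Reg.isDomain _
  haveI : IsRegularLocalRing
      (AdicCompletion (maximalIdeal (Localization.AtPrime P₀)) (Localization.AtPrime P₀)) :=
    (Groth.Agent.S0548.result (Localization.AtPrime P₀)).mp inferInstance
  haveI : IsRegularRing
      (AdicCompletion (maximalIdeal (Localization.AtPrime P₀)) (Localization.AtPrime P₀)) :=
    H5.NG.isRegularRing_of_isRegularLocalRing _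
  letI algR : Algebra
      (AdicCompletion (maximalIdeal (Localization.AtPrime P₀)) (Localization.AtPrime P₀))
      (EGA4.formalFibre (Localization.AtPrime P₀) (⊥ : Ideal (Localization.AtPrime P₀))) :=
    Algebra.TensorProduct.rightAlgebra
  haveI hloc : IsLocalization (Algebra.algebraMapSubmonoid
      (AdicCompletion (maximalIdeal (Localization.AtPrime P₀)) (Localization.AtPrime P₀))
      (nonZeroDivisors (Localization.AtPrime P₀)))
      (EGA4.formalFibre (Localization.AtPrime P₀) (⊥ : Ideal (Localization.AtPrime P₀))) :=
    IsLocalization.tensorRight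
      (S := AdicCompletion (maximalIdeal (Localization.AtPrime P₀)) (Localization.AtPrime P₀))
      (A := (⊥ : Ideal (Localization.AtPrime P₀)).ResidueField)
      (nonZeroDivisors (Localization.AtPrime P₀))
  haveI hregF : IsRegularRing
      (EGA4.formalFibre (Localization.AtPrime P₀) (⊥ : Ideal (Localization.AtPrime P₀))) :=
    Groth.Agent.H1.Reg.isRegularRing_of_isLocalization
      (AdicCompletion (maximalIdeal (Localization.AtPrime P₀)) (Localization.AtPrime P₀))
      (Algebra.algebraMapSubmonoid
        (AdicCompletion (maximalIdeal (Localization.AtPrime P₀)) (Localization.AtPrime P₀))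
        (nonZeroDivisors (Localization.AtPrime P₀))) _
  haveI hnF : IsNoetherianRing
      (EGA4.formalFibre (Localization.AtPrime P₀) (⊥ : Ideal (Localization.AtPrime P₀))) :=
    IsLocalization.isNoetherianRing (Algebra.algebraMapSubmonoid
        (AdicCompletion (maximalIdeal (Localization.AtPrime P₀)) (Localization.AtPrime P₀))
        (nonZeroDivisors (Localization.AtPrime P₀))) _ inferInstance
  apply H5.NG.isGeometricallyRegular_of_forall_maximal
  intro m hm
  haveI : IsNoetherianRing (Localization.AtPrime m) :=
    IsLocalization.isNoetherianRing m.primeCompl _ inferInstance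
  rw [H5.NG.isGeometricallyRegular_iff_isAdicFormallySmooth,
    Groth.Agent.H5.KF.isAdicFormallySmooth_iff_regular_and_injective]
  refine ⟨hregF.isRegularLocalRing_localization m, ?_⟩
  haveI : IsScalarTower R₀
      (⊥ : Ideal (Localization.AtPrime P₀)).ResidueField (Localization.AtPrime m) :=
    inferInstance
  haveI : IsFractionRing R₀ (⊥ : Ideal (Localization.AtPrime P₀)).ResidueField :=
    isFractionRing_of_tower R₀ (Localization.AtPrime P₀) _
      P₀.primeCompl P₀.primeCompl_le_nonZeroDivisors
  refine injective_lTensor_mapBaseChange p S hdir hfin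
    (iInf_closure_transfer (FractionRing R₀) _ p S hInt) ?_
  intro δ hδ
  obtain ⟨δ₁, h₁L, h₁⟩ := exists_leibniz_localization (Q := Localization.AtPrime P₀)
    P₀.primeCompl δ hδ
  obtain ⟨δ', hL, h'⟩ := exists_leibniz_formalFibre (Localization.AtPrime P₀) m
    (Localization.AtPrime m) δ₁ h₁L
  refine ⟨δ', hL, fun a => ?_⟩
  rw [IsScalarTower.algebraMap_apply R₀
      (⊥ : Ideal (Localization.AtPrime P₀)).ResidueField (Localization.AtPrime m),
    IsScalarTower.algebraMap_apply R₀
      (⊥ : Ideal (Localization.AtPrime P₀)).ResidueField (Localization.AtPrime m),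
    IsScalarTower.algebraMap_apply R₀ (Localization.AtPrime P₀)
      (⊥ : Ideal (Localization.AtPrime P₀)).ResidueField, h', h₁,
    ← IsScalarTower.algebraMap_apply R₀ (Localization.AtPrime P₀)
      (⊥ : Ideal (Localization.AtPrime P₀)).ResidueField]

/-- **Theorem X**: the generic formal fibre of a localisation of `k[[T_1..T_r]]` (`char k = p`)
is geometrically regular. -/
theorem isGeometricallyRegular_formalFibre_powerSeries
    (k : Type u) [Field k] (p : ℕ) [hpp : Fact p.Prime] [CharP k p] (r : ℕ)
    (P₀ : Ideal (MvPowerSeries (Fin r) k)) [P₀.IsPrime] :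
    CAlg.IsGeometricallyRegular (⊥ : Ideal (Localization.AtPrime P₀)).ResidueField
      (EGA4.formalFibre (Localization.AtPrime P₀) (⊥ : Ideal (Localization.AtPrime P₀))) := by
  haveI : IsRegularLocalRing (MvPowerSeries (Fin r) k) :=
    Groth.Agent.H6.PSCot.isRegularLocalRing_mvPowerSeries r
  haveI : CharP (MvPowerSeries (Fin r) k) p :=
    charP_of_injective_algebraMap (algebraMap k (MvPowerSeries (Fin r) k)).injective p
  haveI : IsDomain (MvPowerSeries (Fin r) k) := NoZeroDivisors.to_isDomain _
  obtain ⟨ι, hne, S, hdir, hS, hInt⟩ := Groth.Agent.H9.PBS3.main k p r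
  exact isGeometricallyRegular_formalFibre_of_family (MvPowerSeries (Fin r) k) p S hdir
    (fun i => (hS i).2.2) hInt P₀

end X

end Groth.Agent.H5.GRC
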