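import Mathlib
import Groth.Prelude
import Groth.Agent.Lib.Helper5.CD.K8
import Groth.Agent.Lib.Helper5.CD.J2
import Groth.Agent.Lib.Helper5.CA.NN4
import Groth.Agent.Lib.Helper5.CA.CF2
import Groth.Agent.Lib.Helper3.CA.QFFormal4

set_option autoImplicit false
universe u

open TensorProduct IsLocalRing

namespace Groth.Agent.H5.GRC

section K9a
variable {A₀ A : Type u} [CommRing A₀] [IsDomain A₀] [IsRegularLocalRing A₀] [CommRing A]
  [IsDomain A]
  [Algebra A₀ A] [Module.Finite A₀ A]

/-- transfer of geometric regularity of generic formal fibres along a finite injective extension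
of a regular local ring. -/
theorem isGeometricallyRegular_formalFibre_of_finite
    (hinj : Function.Injective (algebraMap A₀ A))
    (H : ∀ (P₀ : Ideal A₀) [P₀.IsPrime],
      CAlg.IsGeometricallyRegular (⊥ : Ideal (Localization.AtPrime P₀)).ResidueField
        (EGA4.formalFibre (Localization.AtPrime P₀) (⊥ : Ideal (Localization.AtPrime P₀))))
    (P : Ideal A) [P.IsPrime] :
    CAlg.IsGeometricallyRegular (⊥ : Ideal (Localization.AtPrime P)).ResidueField
      (EGA4.formalFibre (Localization.AtPrime P) (⊥ : Ideal (Localization.AtPrime P))) := by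
  classical
  haveI : IsNoetherianRing A := IsNoetherianRing.of_finite A₀ A
  haveI : IsRegularLocalRing (Localization.AtPrime (P.under A₀)) :=
    Groth.Agent.H1.Reg.isRegularLocalRing_localization A₀ (P.under A₀)
  have hgr0 := H (P.under A₀)
  have hQ : Ideal.comap (algebraMap A₀ (Localization.AtPrime (P.under A₀)))
      (⊥ : Ideal (Localization.AtPrime (P.under A₀))) =
      Ideal.comap (algebraMap A₀ (Localization.AtPrime P)) (⊥ : Ideal (Localization.AtPrime P)) := by
    have h1 : Function.Injective (algebraMap A₀ (Localization.AtPrime (P.under A₀))) :=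
      IsLocalization.injective (Localization.AtPrime (P.under A₀))
        (P.under A₀).primeCompl_le_nonZeroDivisors
    have h2 : Function.Injective (algebraMap A₀ (Localization.AtPrime P)) := by
      rw [IsScalarTower.algebraMap_eq A₀ A (Localization.AtPrime P)]
      exact (IsLocalization.injective (Localization.AtPrime P)
        P.primeCompl_le_nonZeroDivisors).comp hinj
    rw [Ideal.comap_bot_of_injective _ h1, Ideal.comap_bot_of_injective _ h2]
  exact Groth.Agent.H3.QFFormal.main_pt A₀ A P (⊥ : Ideal (Localization.AtPrime P))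
    (⊥ : Ideal (Localization.AtPrime (P.under A₀))) hQ hgr0

end K9a

section K9b

/-- generic formal fibres of localisations of a regular local ring of characteristic zero. -/
theorem isGeometricallyRegular_formalFibre_of_charZero (A₀ : Type u) [CommRing A₀]
    [IsDomain A₀] [IsRegularLocalRing A₀] [CharZero A₀] (P₀ : Ideal A₀) [P₀.IsPrime] :
    CAlg.IsGeometricallyRegular (⊥ : Ideal (Localization.AtPrime P₀)).ResidueField
      (EGA4.formalFibre (Localization.AtPrime P₀) (⊥ : Ideal (Localization.AtPrime P₀))) := by
  haveI : IsRegularLocalRing (Localization.AtPrime P₀) :=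
    Groth.Agent.H1.Reg.isRegularLocalRing_localization A₀ P₀
  haveI : CharZero (Localization.AtPrime P₀) :=
    charZero_of_injective_algebraMap (R := A₀)
      (IsLocalization.injective (Localization.AtPrime P₀) P₀.primeCompl_le_nonZeroDivisors)
  exact Groth.Agent.H5.CD.isGeometricallyRegular_formalFibre_bot (Localization.AtPrime P₀)

/-- a Cohen ring has characteristic zero. -/
theorem charZero_of_isCohenRing (Λ : Type u) [CommRing Λ] (h : CAlg.IsCohenRing Λ) :
    CharZero Λ := by
  obtain ⟨hdom, hdvr, -, p, hp, hm⟩ := h
  obtain ⟨c, hc⟩ := CharP.exists Λ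
  rcases CharP.char_is_prime_or_zero Λ c with hcp | rfl
  · exfalso
    haveI := hc
    -- `c = 0` in the residue field, and so is `p`
    have h1 : ((c : ℕ) : ResidueField Λ) = 0 := by
      rw [← map_natCast (residue Λ), CharP.cast_eq_zero Λ c, map_zero]
    have h2 : ((p : ℕ) : ResidueField Λ) = 0 := by
      have : (p : Λ) ∈ maximalIdeal Λ := by rw [hm]; exact Ideal.subset_span rfl
      rw [← map_natCast (residue Λ)]
      exact (residue_eq_zero_iff (p : Λ)).mpr this
    obtain ⟨c', hc'⟩ := CharP.exists (ResidueField Λ)
    haveI := hc'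
    have hd1 : c' ∣ c := (CharP.cast_eq_zero_iff (ResidueField Λ) c' c).mp h1
    have hd2 : c' ∣ p := (CharP.cast_eq_zero_iff (ResidueField Λ) c' p).mp h2
    have hc1 : c' ≠ 1 := CharP.char_ne_one (ResidueField Λ) c'
    have e1 : c' = c := (Nat.Prime.eq_one_or_self_of_dvd hcp c' hd1).resolve_left hc1
    have e2 : c' = p := (Nat.Prime.eq_one_or_self_of_dvd hp c' hd2).resolve_left hc1
    have hp0 : (p : Λ) = 0 := by rw [← e2, e1]; exact CharP.cast_eq_zero Λ c
    have hbot : maximalIdeal Λ = ⊥ := by rw [hm, hp0]; simp
    exact IsDiscreteValuationRing.not_a_field Λ hbot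
  · haveI := hc
    exact CharP.charP_to_charZero Λ

end K9b

section K9c

/-- power series rings over a field: generic formal fibres of localisations are geometrically
regular (both characteristics). -/
theorem isGeometricallyRegular_formalFibre_powerSeries_field (k : Type u) [Field k] (n : ℕ)
    [IsDomain (MvPowerSeries (Fin n) k)]
    (P₀ : Ideal (MvPowerSeries (Fin n) k)) [P₀.IsPrime] :
    CAlg.IsGeometricallyRegular (⊥ : Ideal (Localization.AtPrime P₀)).ResidueField
      (EGA4.formalFibre (Localization.AtPrime P₀) (⊥ : Ideal (Localization.AtPrime P₀))) := by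
  haveI : IsRegularLocalRing (MvPowerSeries (Fin n) k) :=
    Groth.Agent.H6.PSCot.isRegularLocalRing_mvPowerSeries n
  obtain ⟨p, hp⟩ := CharP.exists k
  rcases CharP.char_is_prime_or_zero k p with hpp | rfl
  · haveI := hp
    haveI : Fact p.Prime := ⟨hpp⟩
    exact isGeometricallyRegular_formalFibre_powerSeries k p n P₀
  · haveI := hp
    haveI : CharZero k := CharP.charP_to_charZero k
    haveI : CharZero (MvPowerSeries (Fin n) k) :=
      charZero_of_injective_algebraMap (algebraMap k (MvPowerSeries (Fin n) k)).injective
    exact isGeometricallyRegular_formalFibre_of_charZero _ P₀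

/-- **generic formal fibres of complete local domains**: for a complete Noetherian local domain
`A` and a prime `P`, the generic formal fibre of `A_P` is geometrically regular. -/
theorem isGeometricallyRegular_formalFibre_complete_domain (A : Type u) [CommRing A] [IsDomain A]
    [IsLocalRing A] [IsNoetherianRing A] [IsAdicComplete (maximalIdeal A) A]
    (P : Ideal A) [P.IsPrime] :
    CAlg.IsGeometricallyRegular (⊥ : Ideal (Localization.AtPrime P)).ResidueField
      (EGA4.formalFibre (Localization.AtPrime P) (⊥ : Ideal (Localization.AtPrime P))) := by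
  obtain ⟨Λ, instΛ, n, f, hΛ, hinj, hfin, -⟩ := Groth.Agent.H5.NN.cohen_structure_domain A
  rcases hΛ with hΛ | hΛ
  · -- field case
    letI instF : Field Λ := hΛ.toField
    letI : Algebra (MvPowerSeries (Fin n) Λ) A := f.toAlgebra
    haveI : Module.Finite (MvPowerSeries (Fin n) Λ) A := hfin
    haveI : IsDomain (MvPowerSeries (Fin n) Λ) := NoZeroDivisors.to_isDomain _
    haveI : IsRegularLocalRing (MvPowerSeries (Fin n) Λ) :=
      Groth.Agent.H6.PSCot.isRegularLocalRing_mvPowerSeries n
    exact isGeometricallyRegular_formalFibre_of_finite (A₀ := MvPowerSeries (Fin n) Λ) hinj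
      (fun P₀ _ => isGeometricallyRegular_formalFibre_powerSeries_field Λ n P₀) P
  · -- Cohen ring case
    haveI : CharZero Λ := charZero_of_isCohenRing Λ hΛ
    obtain ⟨hdom, hdvr, -, p, hp, hm⟩ := hΛ
    letI : Algebra (MvPowerSeries (Fin n) Λ) A := f.toAlgebra
    haveI : Module.Finite (MvPowerSeries (Fin n) Λ) A := hfin
    haveI : IsDomain (MvPowerSeries (Fin n) Λ) := NoZeroDivisors.to_isDomain _
    haveI : IsRegularLocalRing (MvPowerSeries (Fin n) Λ) :=
      Groth.Agent.H5.CF.isRegularLocalRing_mvPowerSeries_dvr Λ hm n
    haveI : CharZero (MvPowerSeries (Fin n) Λ) :=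
      charZero_of_injective_algebraMap (R := Λ) (MvPowerSeries.C_injective (σ := Fin n) (R := Λ))
    exact isGeometricallyRegular_formalFibre_of_finite (A₀ := MvPowerSeries (Fin n) Λ) hinj
      (fun P₀ _ => isGeometricallyRegular_formalFibre_of_charZero _ P₀) P

end K9c

end Groth.Agent.H5.GRC
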