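import Mathlib
import Groth.Prelude

set_option autoImplicit false
universe u

open TensorProduct IsLocalRing

namespace Groth.Agent.H5.GRC

/-- transport of adic formal smoothness along compatible ring isomorphisms of base and algebra. -/
theorem isAdicFormallySmooth_of_ringEquiv {K K' D D' : Type u} [CommRing K] [CommRing K']
    [CommRing D] [CommRing D'] [Algebra K D] [Algebra K' D'] (φ : K' ≃+* K) (e : D' ≃+* D)
    (he : ∀ x, e (algebraMap K' D' x) = algebraMap K D (φ x)) (n' : Ideal D') (n : Ideal D)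
    (hn : ∀ x ∈ n', e x ∈ n) (h : CAlgX.IsAdicFormallySmooth K' D' n') :
    CAlgX.IsAdicFormallySmooth K D n := by
  intro T _ _ J hJ ψ hψ
  letI algK'T : Algebra K' T := ((algebraMap K T).comp (φ : K' →+* K)).toAlgebra
  have halg : ∀ x : K', algebraMap K' T x = algebraMap K T (φ x) := fun x => rfl
  have halgQ : ∀ x : K', algebraMap K' (T ⧸ J) x = algebraMap K (T ⧸ J) (φ x) := fun x => rfl
  let ψ' : D' →ₐ[K'] T ⧸ J :=
    { toRingHom := (ψ : D →+* T ⧸ J).comp (e : D' →+* D)
      commutes' := by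
        intro x
        show ψ (e (algebraMap K' D' x)) = _
        rw [he, AlgHom.commutes, halgQ] }
  have hψ' : ∃ k : ℕ, ∀ x ∈ n' ^ k, ψ' x = 0 := by
    obtain ⟨k, hk⟩ := hψ
    refine ⟨k, fun x hx => ?_⟩
    show ψ (e x) = 0
    apply hk
    have h1 : (n' ^ k).map (e : D' →+* D) ≤ n ^ k := by
      rw [Ideal.map_pow]
      apply Ideal.pow_right_mono
      rw [Ideal.map_le_iff_le_comap]
      exact fun y hy => hn y hy
    exact h1 (Ideal.mem_map_of_mem _ hx)
  obtain ⟨χ', hχ'⟩ := h T J hJ ψ' hψ'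
  let χ : D →ₐ[K] T :=
    { toRingHom := (χ' : D' →+* T).comp (e.symm : D →+* D')
      commutes' := by
        intro y
        show χ' (e.symm (algebraMap K D y)) = _
        have h1 : e.symm (algebraMap K D y) = algebraMap K' D' (φ.symm y) := by
          rw [RingEquiv.symm_apply_eq, he, RingEquiv.apply_symm_apply]
        rw [h1, AlgHom.commutes, halg, RingEquiv.apply_symm_apply] }
  refine ⟨χ, ?_⟩
  ext y
  show Ideal.Quotient.mk J (χ' (e.symm y)) = ψ y
  have h2 := congrArg (fun g : D' →ₐ[K'] T ⧸ J => g (e.symm y)) hχ'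
  have h3 : Ideal.Quotient.mk J (χ' (e.symm y)) = ψ' (e.symm y) := h2
  rw [h3]
  show ψ (e (e.symm y)) = ψ y
  rw [RingEquiv.apply_symm_apply]

end Groth.Agent.H5.GRC
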