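import Mathlib
import Groth.Prelude
import Groth.Agent.Lib.Helper5.CD.L1
import Groth.Agent.Lib.Helper5.CD.K8
import Groth.Agent.Lib.Helper5.CA.NG19
import Groth.Agent.S0543

set_option autoImplicit false
universe u

open TensorProduct IsLocalRing

namespace Groth.Agent.H5.GRC

section L2
variable (A₁ : Type u) [CommRing A₁] [IsDomain A₁] (C : Type u) [CommRing C] [IsDomain C]
  [IsLocalRing C] [IsNoetherianRing C] [Algebra A₁ C] (M : Submonoid A₁) [IsLocalization M C]
  (hM : M ≤ nonZeroDivisors A₁)
  (hgr : CAlg.IsGeometricallyRegular (⊥ : Ideal C).ResidueField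
    (EGA4.formalFibre C (⊥ : Ideal C)))
  (q : Ideal (AdicCompletion (maximalIdeal C) C)) [q.IsPrime]
  (hq : q.comap (algebraMap C (AdicCompletion (maximalIdeal C) C)) = ⊥)
  (K : Type u) [Field K] [Algebra A₁ K] [IsFractionRing A₁ K]
  (D : Type u) [CommRing D] [IsLocalRing D] [Algebra (AdicCompletion (maximalIdeal C) C) D]
  [IsLocalization.AtPrime D q] [Algebra A₁ D] [Algebra K D]
  (hST₁ : IsScalarTower A₁ (AdicCompletion (maximalIdeal C) C) D) (hST₂ : IsScalarTower A₁ K D)

include M hM hgr hq hST₁ hST₂ in
/-- if the generic formal fibre of the local domain `C` is geometrically regular, the local rings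
of the completion at primes lying over zero are formally smooth over the fraction field. -/
theorem isAdicFormallySmooth_of_isGeometricallyRegular_formalFibre :
    CAlgX.IsAdicFormallySmooth K D (maximalIdeal D) := by
  classical
  letI algR : Algebra (AdicCompletion (maximalIdeal C) C) (EGA4.formalFibre C (⊥ : Ideal C)) :=
    Algebra.TensorProduct.rightAlgebra
  haveI hloc : IsLocalization (Algebra.algebraMapSubmonoid (AdicCompletion (maximalIdeal C) C)
      (nonZeroDivisors C)) (EGA4.formalFibre C (⊥ : Ideal C)) :=
    IsLocalization.tensorRight (S := AdicCompletion (maximalIdeal C) C)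
      (A := (⊥ : Ideal C).ResidueField) (nonZeroDivisors C)
  have hdisj : Disjoint ((Algebra.algebraMapSubmonoid (AdicCompletion (maximalIdeal C) C)
      (nonZeroDivisors C) : Submonoid _) : Set (AdicCompletion (maximalIdeal C) C))
      (q : Set (AdicCompletion (maximalIdeal C) C)) := by
    rw [Set.disjoint_left]
    rintro _ ⟨c, hc, rfl⟩ hcq
    have h1 : c ∈ q.comap (algebraMap C (AdicCompletion (maximalIdeal C) C)) := hcq
    rw [hq, Ideal.mem_bot] at h1
    exact (nonZeroDivisors.ne_zero hc) h1
  let P : Ideal (EGA4.formalFibre C (⊥ : Ideal C)) :=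
    q.map (algebraMap (AdicCompletion (maximalIdeal C) C) (EGA4.formalFibre C (⊥ : Ideal C)))
  haveI hP : P.IsPrime := IsLocalization.isPrime_of_isPrime_disjoint
    (Algebra.algebraMapSubmonoid (AdicCompletion (maximalIdeal C) C) (nonZeroDivisors C))
    (EGA4.formalFibre C (⊥ : Ideal C)) q inferInstance hdisj
  have hPc : P.comap (algebraMap (AdicCompletion (maximalIdeal C) C)
      (EGA4.formalFibre C (⊥ : Ideal C))) = q :=
    IsLocalization.under_map_of_isPrime_disjoint
      (Algebra.algebraMapSubmonoid (AdicCompletion (maximalIdeal C) C) (nonZeroDivisors C))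
      (EGA4.formalFibre C (⊥ : Ideal C)) inferInstance hdisj
  have h2 : IsLocalization.AtPrime (Localization.AtPrime P)
      (P.comap (algebraMap (AdicCompletion (maximalIdeal C) C)
        (EGA4.formalFibre C (⊥ : Ideal C)))) :=
    IsLocalization.isLocalization_isLocalization_atPrime_isLocalization
      (Algebra.algebraMapSubmonoid (AdicCompletion (maximalIdeal C) C) (nonZeroDivisors C))
      (Localization.AtPrime P) P
  haveI h3 : IsLocalization q.primeCompl (Localization.AtPrime P) := by
    have hpc : (P.comap (algebraMap (AdicCompletion (maximalIdeal C) C)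
        (EGA4.formalFibre C (⊥ : Ideal C)))).primeCompl = q.primeCompl := by
      ext a
      show a ∉ P.comap _ ↔ a ∉ q
      rw [hPc]
    change IsLocalization _ _ at h2
    rw [hpc] at h2
    exact h2
  -- Noetherianity
  haveI : IsNoetherianRing (AdicCompletion (maximalIdeal C) C) := Groth.Agent.S0543.result _ _
  haveI hnF : IsNoetherianRing (EGA4.formalFibre C (⊥ : Ideal C)) :=
    IsLocalization.isNoetherianRing (Algebra.algebraMapSubmonoid
      (AdicCompletion (maximalIdeal C) C) (nonZeroDivisors C)) _ inferInstance
  haveI : IsNoetherianRing (Localization.AtPrime P) :=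
    IsLocalization.isNoetherianRing P.primeCompl _ inferInstance
  have hgr' : CAlg.IsGeometricallyRegular (⊥ : Ideal C).ResidueField (Localization.AtPrime P) :=
    H5.NG.isGeometricallyRegular_of_isLocalization (⊥ : Ideal C).ResidueField
      (EGA4.formalFibre C (⊥ : Ideal C)) P.primeCompl (Localization.AtPrime P) hgr
  have hfs' := (H5.NG.isGeometricallyRegular_iff_isAdicFormallySmooth
    (⊥ : Ideal C).ResidueField (Localization.AtPrime P)).mp hgr'
  -- the two isomorphisms
  haveI : IsFractionRing A₁ (⊥ : Ideal C).ResidueField :=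
    isFractionRing_of_tower A₁ C (⊥ : Ideal C).ResidueField M hM
  let φ : (⊥ : Ideal C).ResidueField ≃ₐ[A₁] K :=
    IsLocalization.algEquiv (nonZeroDivisors A₁) (⊥ : Ideal C).ResidueField K
  let e₀ : Localization.AtPrime P ≃ₐ[AdicCompletion (maximalIdeal C) C] D :=
    IsLocalization.algEquiv q.primeCompl (Localization.AtPrime P) D
  refine isAdicFormallySmooth_of_ringEquiv (K := K) (K' := (⊥ : Ideal C).ResidueField) (D := D)
    (D' := Localization.AtPrime P) φ.toRingEquiv e₀.toRingEquiv ?_
    (maximalIdeal (Localization.AtPrime P)) (maximalIdeal D) ?_ hfs'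
  · -- compatibility of the structure maps
    have hhom : ((e₀ : Localization.AtPrime P →+* D).comp
        (algebraMap (⊥ : Ideal C).ResidueField (Localization.AtPrime P))) =
        (algebraMap K D).comp (φ : (⊥ : Ideal C).ResidueField →+* K) := by
      apply IsLocalization.ringHom_ext (nonZeroDivisors A₁)
      ext a
      show e₀ (algebraMap (⊥ : Ideal C).ResidueField (Localization.AtPrime P)
          (algebraMap A₁ (⊥ : Ideal C).ResidueField a)) =
        algebraMap K D (φ (algebraMap A₁ (⊥ : Ideal C).ResidueField a))
      rw [AlgEquiv.commutes, ← IsScalarTower.algebraMap_apply A₁ K D,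
        IsScalarTower.algebraMap_apply A₁ (AdicCompletion (maximalIdeal C) C) D,
        IsScalarTower.algebraMap_apply A₁ C (AdicCompletion (maximalIdeal C) C),
        ← e₀.commutes]
      congr 1
      rw [IsScalarTower.algebraMap_apply A₁ C (⊥ : Ideal C).ResidueField,
        IsScalarTower.algebraMap_apply (⊥ : Ideal C).ResidueField
          (EGA4.formalFibre C (⊥ : Ideal C)) (Localization.AtPrime P),
        IsScalarTower.algebraMap_apply (AdicCompletion (maximalIdeal C) C)
          (EGA4.formalFibre C (⊥ : Ideal C)) (Localization.AtPrime P)]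
      congr 1
      rw [Algebra.TensorProduct.algebraMap_apply]
      show _ = (1 : (⊥ : Ideal C).ResidueField) ⊗ₜ[C]
        (algebraMap C (AdicCompletion (maximalIdeal C) C) (algebraMap A₁ C a))
      rw [Algebra.algebraMap_eq_smul_one (R := C) (A := (⊥ : Ideal C).ResidueField)
          (algebraMap A₁ C a),
        Algebra.algebraMap_eq_smul_one (R := C) (A := AdicCompletion (maximalIdeal C) C)
          (algebraMap A₁ C a)]
      exact TensorProduct.smul_tmul (algebraMap A₁ C a) 1 1
    intro x
    exact congrArg (fun g : (⊥ : Ideal C).ResidueField →+* D => g x) hhom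
  · intro x hx
    rw [mem_maximalIdeal, mem_nonunits_iff] at hx ⊢
    intro hu
    apply hx
    have := hu.map e₀.symm.toRingEquiv
    simpa using this

end L2

end Groth.Agent.H5.GRC
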