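import Mathlib
import Groth.Prelude
import Groth.Agent.Lib.Helper6.RegHomFS2
import Groth.Agent.Lib.Helper5.CA.AdicFS
import Groth.Agent.S0598
import Groth.Agent.S0543

set_option autoImplicit false
universe u

open TensorProduct IsLocalRing

namespace Groth.Agent.H5.GRC

/-- adic formal smoothness (square-zero form) gives the strong adic form, for any algebra
structure with the same structure map and any ideal of definition of the base. -/
theorem isFormallySmoothAdic_of_algebraMap_eq {R D : Type u} [CommRing R] [CommRing D]
    (alg₁ alg₂ : Algebra R D)
    (h : ∀ x, @algebraMap R D _ _ alg₁ x = @algebraMap R D _ _ alg₂ x) (𝔞 : Ideal R) (n : Ideal D)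
    (hfs : @CAlgX.IsAdicFormallySmooth R _ D _ alg₁ n) :
    @EGA41.IsFormallySmoothAdic R _ 𝔞 D _ alg₂ n := by
  have e : alg₁ = alg₂ := Algebra.algebra_ext _ _ h
  subst e
  have h0 := (Groth.Agent.H5.AdicFS.isAdicFormallySmooth_iff_bot n).mp hfs
  intro C _ _ J hJ hk u hu
  exact h0 C J hJ ⟨1, by simp⟩ u hu

/-- EGA 0_IV 22.3.3-type statement: the local homomorphisms of the completion map of a
localisation of a complete Noetherian local ring are formally smooth. -/
theorem main4582 {A : Type u} [CommRing A]
    [IsLocalRing A] [IsNoetherianRing A] [IsAdicComplete (maximalIdeal A) A] (p : Ideal A) [p.IsPrime]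
    (q : Ideal (AdicCompletion (maximalIdeal (Localization.AtPrime p)) (Localization.AtPrime p))) [q.IsPrime]
    [alg : Algebra (Localization.AtPrime (q.comap (algebraMap (Localization.AtPrime p)
        (AdicCompletion (maximalIdeal (Localization.AtPrime p)) (Localization.AtPrime p)))))
      (Localization.AtPrime q)]
    [hST : IsScalarTower (Localization.AtPrime p)
      (Localization.AtPrime (q.comap (algebraMap (Localization.AtPrime p)
        (AdicCompletion (maximalIdeal (Localization.AtPrime p)) (Localization.AtPrime p)))))
      (Localization.AtPrime q)] :
    EGA41.IsFormallySmoothAdic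
      (Localization.AtPrime (q.comap (algebraMap (Localization.AtPrime p)
        (AdicCompletion (maximalIdeal (Localization.AtPrime p)) (Localization.AtPrime p)))))
      (maximalIdeal _) (Localization.AtPrime q) (maximalIdeal _) := by
  have hG := Groth.Agent.S0598.result A
  haveI : IsNoetherianRing (Localization.AtPrime p) :=
    IsLocalization.isNoetherianRing p.primeCompl _ inferInstance
  haveI : IsNoetherianRing
      (AdicCompletion (maximalIdeal (Localization.AtPrime p)) (Localization.AtPrime p)) :=
    Groth.Agent.S0543.result _ _
  have hfs := Groth.Agent.H6.RegHomFS.fwd (Localization.AtPrime p)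
    (AdicCompletion (maximalIdeal (Localization.AtPrime p)) (Localization.AtPrime p)) (hG.2 p) q
  refine isFormallySmoothAdic_of_algebraMap_eq
    (Localization.AtPrime.algebraOfLiesOver (q.under (Localization.AtPrime p)) q) alg ?_ _ _ hfs
  have hhom : (Localization.localRingHom (q.under (Localization.AtPrime p)) q
      (algebraMap (Localization.AtPrime p)
        (AdicCompletion (maximalIdeal (Localization.AtPrime p)) (Localization.AtPrime p)))
      Ideal.LiesOver.over) =
      @algebraMap _ _ _ _ alg := by
    apply IsLocalization.ringHom_ext (q.under (Localization.AtPrime p)).primeCompl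
    ext b
    rw [RingHom.comp_apply, RingHom.comp_apply, Localization.localRingHom_to_map]
    rw [← IsScalarTower.algebraMap_apply (Localization.AtPrime p)
      (AdicCompletion (maximalIdeal (Localization.AtPrime p)) (Localization.AtPrime p))
      (Localization.AtPrime q)]
    exact IsScalarTower.algebraMap_apply (Localization.AtPrime p)
      (Localization.AtPrime (q.comap (algebraMap (Localization.AtPrime p)
        (AdicCompletion (maximalIdeal (Localization.AtPrime p)) (Localization.AtPrime p)))))
      (Localization.AtPrime q) b
  intro x
  exact congrArg (fun g => g x) hhom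

end Groth.Agent.H5.GRC
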