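import Mathlib
import Groth.Prelude
import Groth.Agent.S0598
import Groth.Agent.S0543
import Groth.Agent.Lib.Helper3.CA.FFDesc
import Groth.Agent.Lib.Helper3.CA.RegHomLocal
import Groth.Agent.Lib.Helper3.CA.GRingTransfer
import Groth.Agent.Lib.Helper6.CanCompl3

set_option autoImplicit false
universe u

open TensorProduct IsLocalRing

namespace Groth.Agent.H5.GRC

attribute [local instance] Localization.AtPrime.algebraOfLiesOver

/-- a Noetherian local ring whose completion map is regular is a G-ring. -/
theorem isGRing_of_isRegularHom_cpl (A : Type u) [CommRing A] [IsLocalRing A] [IsNoetherianRing A]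
    (h : CAlg.IsRegularHom A (AdicCompletion (maximalIdeal A) A)) : CAlg.IsGRing A := by
  refine ⟨inferInstance, fun p _ => ?_⟩
  have hfg : (maximalIdeal A).FG := IsNoetherian.noetherian _
  haveI : IsNoetherianRing (AdicCompletion (maximalIdeal A) A) := Groth.Agent.S0543.result A _
  haveI := AdicCompletion.algebraMap_isLocalHom_of_fg (R := A) hfg
  haveI : Module.Flat A (AdicCompletion (maximalIdeal A) A) := h.1
  haveI : Module.FaithfullyFlat A (AdicCompletion (maximalIdeal A) A) :=
    Module.FaithfullyFlat.of_flat_of_isLocalHom
  haveI : IsAdicComplete (maximalIdeal (AdicCompletion (maximalIdeal A) A))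
      (AdicCompletion (maximalIdeal A) A) := Groth.Agent.H6.CanCompl.isAdicComplete_completion A
  have hGhat : CAlg.IsGRing (AdicCompletion (maximalIdeal A) A) := Groth.Agent.S0598.result _
  obtain ⟨P, hP, hPp⟩ := Ideal.exists_isPrime_liesOver_of_faithfullyFlat
    (B := AdicCompletion (maximalIdeal A) A) p
  have hpe : p = P.under A := hPp.over
  subst hpe
  have h1 := Groth.Agent.H3.RegHomLocal.isRegularHom_localRingHom A
    (AdicCompletion (maximalIdeal A) A) h P
  have h2 := hGhat.2 P
  haveI : IsLocalHom (algebraMap (Localization.AtPrime (P.under A)) (Localization.AtPrime P)) := by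
    change IsLocalHom (Localization.localRingHom (P.under A) P
      (algebraMap A (AdicCompletion (maximalIdeal A) A)) Ideal.LiesOver.over)
    infer_instance
  haveI : IsNoetherianRing (Localization.AtPrime (P.under A)) :=
    IsLocalization.isNoetherianRing (P.under A).primeCompl _ inferInstance
  haveI : IsNoetherianRing (Localization.AtPrime P) :=
    IsLocalization.isNoetherianRing P.primeCompl _ inferInstance
  exact Groth.Agent.H3.FFDesc.isRegularHom_cpl_of_isRegularHom (Localization.AtPrime (P.under A))
    (Localization.AtPrime P) h1 h2

end Groth.Agent.H5.GRC
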