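import Mathlib
import Groth.Prelude
import Groth.Agent.Lib.Helper5.CD.M1

set_option autoImplicit false
universe u

open TensorProduct IsLocalRing

namespace Groth.Agent.H5.GRC

theorem nonempty_ringEquiv_atPrime_of_eq {R : Type u} [CommRing R] (Q P : Ideal R) [hQ : Q.IsPrime]
    [hP : P.IsPrime] (heq : Q = P) :
    Nonempty (Localization.AtPrime Q ≃+* Localization.AtPrime P) := by
  subst heq
  exact ⟨RingEquiv.refl _⟩

/-- a Noetherian ring is a G-ring as soon as the completion maps of its local rings at maximal
ideals are regular. -/
theorem isGRing_of_forall_maximal (R : Type u) [CommRing R] [IsNoetherianRing R]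
    (H : ∀ (m : Ideal R) [m.IsMaximal],
      CAlg.IsRegularHom (Localization.AtPrime m)
        (AdicCompletion (IsLocalRing.maximalIdeal (Localization.AtPrime m))
          (Localization.AtPrime m))) : CAlg.IsGRing R := by
  apply Groth.Agent.H3.GRing.isGRing_of_local R
  intro P hP
  obtain ⟨m, hm, hPm⟩ := Ideal.exists_le_maximal P hP.ne_top
  haveI : IsNoetherianRing (Localization.AtPrime m) :=
    IsLocalization.isNoetherianRing m.primeCompl _ inferInstance
  have hG : CAlg.IsGRing (Localization.AtPrime m) := isGRing_of_isRegularHom_cpl _ (H m)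
  have hdisj : Disjoint (m.primeCompl : Set R) (P : Set R) := by
    rw [Set.disjoint_left]
    intro x hx hxP
    exact hx (hPm hxP)
  haveI hp' : (P.map (algebraMap R (Localization.AtPrime m))).IsPrime :=
    IsLocalization.isPrime_of_isPrime_disjoint m.primeCompl _ P hP hdisj
  have hc : (P.map (algebraMap R (Localization.AtPrime m))).comap
      (algebraMap R (Localization.AtPrime m)) = P :=
    IsLocalization.comap_map_of_isPrime_disjoint m.primeCompl _ hP hdisj
  have e := IsLocalization.localizationLocalizationAtPrimeIsoLocalization m.primeCompl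
    (P.map (algebraMap R (Localization.AtPrime m)))
  obtain ⟨e'⟩ := nonempty_ringEquiv_atPrime_of_eq _ P hc
  exact ⟨Localization.AtPrime m, inferInstance, hG,
    P.map (algebraMap R (Localization.AtPrime m)), hp', ⟨e.symm.toRingEquiv.trans e'⟩⟩

end Groth.Agent.H5.GRC
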