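import Mathlib
import Groth.Prelude
import Groth.Agent.Lib.Helper5.CD.M1
import Groth.Agent.Lib.Helper3.CA.HensRegFF3

set_option autoImplicit false
universe u

open TensorProduct IsLocalRing

namespace Groth.Agent.H5.GRC

/-- for a local G-ring the completion map itself is regular. -/
theorem isRegularHom_cpl_of_isGRing (R : Type u) [CommRing R] [IsLocalRing R]
    (hR : CAlg.IsGRing R) : CAlg.IsRegularHom R (AdicCompletion (maximalIdeal R) R) := by
  haveI : IsNoetherianRing R := hR.1
  have h := hR.2 (maximalIdeal R)
  haveI : IsNoetherianRing (Localization.AtPrime (maximalIdeal R)) :=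
    IsLocalization.isNoetherianRing (maximalIdeal R).primeCompl _ inferInstance
  have e : R ≃ₐ[R] Localization.AtPrime (maximalIdeal R) :=
    IsLocalization.atUnits R (maximalIdeal R).primeCompl (fun x hx => by
      by_contra hu
      exact hx ((mem_maximalIdeal x).mpr hu))
  exact Groth.Agent.H3.GRing.isRegularHom_cpl_of_ringEquiv e.symm.toRingEquiv h

/-- the henselization of a Noetherian local G-ring is a G-ring. -/
theorem isGRing_henselization {R S : Type u} [CommRing R] [IsLocalRing R] [IsNoetherianRing R]
    (hR : CAlg.IsGRing R) [CommRing S] [IsLocalRing S] [Algebra R S] [IsLocalHom (algebraMap R S)]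
    [Hensel.IsHenselization R S] : CAlg.IsGRing S := by
  haveI : IsNoetherianRing S := Groth.Agent.H3.HensRegFF.isNoetherianRing_hens R S
  exact isGRing_of_isRegularHom_cpl S
    (Groth.Agent.H3.HensRegFF.regular_hens_of_regular R S (isRegularHom_cpl_of_isGRing R hR))

end Groth.Agent.H5.GRC
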