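import Mathlib
import Groth.Prelude
import Groth.Agent.Lib.Helper5.PB.PB15
import Groth.Agent.Lib.Helper5.PB.PB8

set_option autoImplicit false
universe u

open EGA41

namespace Groth.Agent.H5.GRC

section N1a
variable (p : ℕ)

/-- the reduced exponent vectors on a finite set are in bijection with `B → Fin p`. -/
noncomputable def exponentsEquiv (B : Type*) [Finite B] :
    {e : B →₀ ℕ // ∀ i, e i < p} ≃ (B → Fin p) where
  toFun e i := ⟨e.1 i, e.2 i⟩
  invFun f := ⟨Finsupp.equivFunOnFinite.symm (fun i => (f i : ℕ)), fun i => by
    simp⟩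
  left_inv e := by
    apply Subtype.ext
    ext i
    simp
  right_inv f := by
    funext i
    apply Fin.ext
    simp

theorem card_exponents (B : Type*) [Fintype B] :
    Nat.card {e : B →₀ ℕ // ∀ i, e i < p} = p ^ Fintype.card B := by
  classical
  rw [Nat.card_congr (exponentsEquiv p B), Nat.card_eq_fintype_card, Fintype.card_fun,
    Fintype.card_fin]

end N1a

section N1
variable (p : ℕ) [hpp : Fact p.Prime] (k K : Type u) [Field k] [Field K] [Algebra k K]
  [CharP K p] [FiniteDimensional k K]

/-- for a finite extension in characteristic `p`, `p ^ dim Ω ≤ degree`. -/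
theorem pow_finrank_kaehler_le_finrank :
    p ^ Module.finrank K (Ω[K⁄k]) ≤ Module.finrank k K := by
  classical
  obtain ⟨B, hB⟩ := H5.PB.exists_pBasis p k K
  obtain ⟨b, -⟩ := H5.PB.main2466 p (Subtype.val : B → K) hB
  haveI : Finite B := Module.Finite.finite_basis b
  haveI : Fintype B := Fintype.ofFinite B
  have hrank : Module.finrank K (Ω[K⁄k]) = Fintype.card B := Module.finrank_eq_card_basis b
  have hLI : LinearIndependent (pPowerSubalgebra p k K)
      (fun e : {e : B →₀ ℕ // ∀ i, e i < p} => pMonomial (Subtype.val : B → K) e.1) := hB.1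
  have hLI' : LinearIndependent k
      (fun e : {e : B →₀ ℕ // ∀ i, e i < p} => pMonomial (Subtype.val : B → K) e.1) := by
    refine LinearIndependent.restrict_scalars ?_ hLI
    intro a c h
    have h1 : (algebraMap k (pPowerSubalgebra p k K) a) = algebraMap k (pPowerSubalgebra p k K) c := by
      simpa [Algebra.smul_def] using h
    exact (algebraMap k (pPowerSubalgebra p k K)).injective h1
  haveI : Finite {e : B →₀ ℕ // ∀ i, e i < p} := Finite.of_equiv _ (exponentsEquiv p B).symm
  haveI : Fintype {e : B →₀ ℕ // ∀ i, e i < p} := Fintype.ofFinite _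
  have h2 := hLI'.fintype_card_le_finrank
  rw [hrank, ← card_exponents p B, Nat.card_eq_fintype_card]
  exact h2

/-- for a finite purely inseparable extension of exponent one, `degree = p ^ dim Ω`. -/
theorem finrank_eq_pow_finrank_kaehler (h : ∀ x : K, ∃ c : k, algebraMap k K c = x ^ p) :
    Module.finrank k K = p ^ Module.finrank K (Ω[K⁄k]) := by
  classical
  obtain ⟨B, hB⟩ := H5.PB.exists_pBasis p k K
  obtain ⟨b, -⟩ := H5.PB.main2466 p (Subtype.val : B → K) hB
  haveI : Finite B := Module.Finite.finite_basis b
  haveI : Fintype B := Fintype.ofFinite B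
  have hrank : Module.finrank K (Ω[K⁄k]) = Fintype.card B := Module.finrank_eq_card_basis b
  have hLI : LinearIndependent (pPowerSubalgebra p k K)
      (fun e : {e : B →₀ ℕ // ∀ i, e i < p} => pMonomial (Subtype.val : B → K) e.1) := hB.1
  have hLI' : LinearIndependent k
      (fun e : {e : B →₀ ℕ // ∀ i, e i < p} => pMonomial (Subtype.val : B → K) e.1) := by
    refine LinearIndependent.restrict_scalars ?_ hLI
    intro a c h
    have h1 : (algebraMap k (pPowerSubalgebra p k K) a) = algebraMap k (pPowerSubalgebra p k K) c := by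
      simpa [Algebra.smul_def] using h
    exact (algebraMap k (pPowerSubalgebra p k K)).injective h1
  have hbot : ∀ t : pPowerSubalgebra p k K, ∃ c : k, algebraMap k K c = (t : K) := by
    intro t
    have ht : (t : K) ∈ Algebra.adjoin k (Set.range fun b : K => b ^ p) := t.2
    have hle : Algebra.adjoin k (Set.range fun b : K => b ^ p) ≤ (⊥ : Subalgebra k K) := by
      apply Algebra.adjoin_le
      rintro _ ⟨x, rfl⟩
      obtain ⟨c, hc⟩ := h x
      exact Algebra.mem_bot.mpr ⟨c, hc⟩
    exact Algebra.mem_bot.mp (hle ht)
  have hsp : Submodule.span (pPowerSubalgebra p k K)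
      (Set.range fun e : {e : B →₀ ℕ // ∀ i, e i < p} =>
        pMonomial (Subtype.val : B → K) e.1) = ⊤ := hB.2
  have hsp' : ⊤ ≤ Submodule.span k
      (Set.range fun e : {e : B →₀ ℕ // ∀ i, e i < p} =>
        pMonomial (Subtype.val : B → K) e.1) := by
    intro x _
    have hx : x ∈ Submodule.span (pPowerSubalgebra p k K)
      (Set.range fun e : {e : B →₀ ℕ // ∀ i, e i < p} =>
        pMonomial (Subtype.val : B → K) e.1) := by rw [hsp]; trivial
    induction hx using Submodule.span_induction with
    | mem y hy => exact Submodule.subset_span hy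
    | zero => exact zero_mem _
    | add y z _ _ hy hz => exact add_mem (hy trivial) (hz trivial)
    | smul t y _ hy =>
      obtain ⟨c, hc⟩ := hbot t
      have : t • y = c • y := by
        show (t : K) * y = c • y
        rw [← hc, Algebra.smul_def]
      rw [this]
      exact Submodule.smul_mem _ c (hy trivial)
  haveI : Finite {e : B →₀ ℕ // ∀ i, e i < p} := Finite.of_equiv _ (exponentsEquiv p B).symm
  haveI : Fintype {e : B →₀ ℕ // ∀ i, e i < p} := Fintype.ofFinite _
  have hcard := Module.finrank_eq_card_basis (Module.Basis.mk hLI' hsp')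
  rw [hcard, hrank, ← card_exponents p B, Nat.card_eq_fintype_card]

end N1

end Groth.Agent.H5.GRC
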