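import Mathlib
import Groth.Prelude
import Groth.Agent.Lib.Helper5.CD.N1

set_option autoImplicit false
universe u

namespace Groth.Agent.H5.GRC

section N2a
variable {κ K₀ lam L : Type*} [Field κ] [Field K₀] [Field lam] [Field L] [Algebra κ K₀]
  [Algebra K₀ L] [Algebra κ L] [IsScalarTower κ K₀ L] [Algebra κ lam] [Algebra lam L]
  [IsScalarTower κ lam L] [FiniteDimensional κ K₀] [FiniteDimensional K₀ L]

/-- degree bound from linear disjointness: if `lam` contains elements `w i` mapping to a family of
`[L : K₀]` elements of `L` linearly independent over `κ`, then `[L : lam] ≤ [K₀ : κ]`. -/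
theorem finrank_le_of_linearIndependent {ι : Type*} [Fintype ι] (e : Module.Basis ι K₀ L)
    (v : ι → L) (w : ι → lam) (hw : ∀ i, algebraMap lam L (w i) = v i)
    (hLI : LinearIndependent κ v) :
    Module.finrank lam L ≤ Module.finrank κ K₀ := by
  haveI : FiniteDimensional κ L := Module.Finite.trans K₀ L
  haveI : FiniteDimensional κ lam :=
    Module.Finite.of_injective (IsScalarTower.toAlgHom κ lam L).toLinearMap
      (algebraMap lam L).injective
  haveI : FiniteDimensional lam L := Module.Finite.of_restrictScalars_finite κ lam L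
  have h1 : Module.finrank κ K₀ * Module.finrank K₀ L = Module.finrank κ L :=
    Module.finrank_mul_finrank κ K₀ L
  have h2 : Module.finrank κ lam * Module.finrank lam L = Module.finrank κ L :=
    Module.finrank_mul_finrank κ lam L
  have hd : Module.finrank K₀ L = Fintype.card ι := Module.finrank_eq_card_basis e
  have hwLI : LinearIndependent κ w := by
    apply LinearIndependent.of_comp (IsScalarTower.toAlgHom κ lam L).toLinearMap
    have : (⇑(IsScalarTower.toAlgHom κ lam L).toLinearMap ∘ w) = v := by
      funext i; exact hw i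
    rw [this]; exact hLI
  have h3 : Fintype.card ι ≤ Module.finrank κ lam := hwLI.fintype_card_le_finrank
  have hdpos : 0 < Module.finrank K₀ L := Module.finrank_pos
  have h4 : Module.finrank K₀ L * Module.finrank lam L ≤
      Module.finrank κ K₀ * Module.finrank K₀ L := by
    rw [h1, ← h2, hd]
    exact Nat.mul_le_mul_right _ h3
  rw [mul_comm (Module.finrank κ K₀)] at h4
  exact Nat.le_of_mul_le_mul_left h4 hdpos

end N2a

section N2b
variable (p : ℕ) [hpp : Fact p.Prime] {κ K₀ lam L : Type u} [Field κ] [Field K₀] [Field lam]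
  [Field L] [Algebra κ K₀]
  [Algebra K₀ L] [Algebra κ L] [IsScalarTower κ K₀ L] [Algebra κ lam] [Algebra lam L]
  [IsScalarTower κ lam L] [FiniteDimensional κ K₀] [FiniteDimensional K₀ L] [CharP L p]

/-- bound on differentials: under linear disjointness, `dim Ω_{L/lam} ≤ dim Ω_{K₀/κ}` when
`K₀^p ⊆ κ`. -/
theorem finrank_kaehler_le {ι : Type*} [Fintype ι] (e : Module.Basis ι K₀ L)
    (v : ι → L) (w : ι → lam) (hw : ∀ i, algebraMap lam L (w i) = v i)
    (hLI : LinearIndependent κ v)
    (hpow : ∀ x : K₀, ∃ c : κ, algebraMap κ K₀ c = x ^ p) :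
    Module.finrank L (Ω[L⁄lam]) ≤ Module.finrank K₀ (Ω[K₀⁄κ]) := by
  haveI : CharP K₀ p := (algebraMap K₀ L).charP (algebraMap K₀ L).injective p
  haveI : FiniteDimensional κ L := Module.Finite.trans K₀ L
  haveI : FiniteDimensional lam L := Module.Finite.of_restrictScalars_finite κ lam L
  have h1 := pow_finrank_kaehler_le_finrank p lam L
  have h2 := finrank_le_of_linearIndependent (κ := κ) e v w hw hLI
  have h3 := finrank_eq_pow_finrank_kaehler p κ K₀ hpow
  have h4 : p ^ Module.finrank L (Ω[L⁄lam]) ≤ p ^ Module.finrank K₀ (Ω[K₀⁄κ]) := by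
    rw [← h3]; exact h1.trans h2
  exact (Nat.pow_le_pow_iff_right hpp.out.one_lt).mp h4

/-- the same bound for the space of derivations. -/
theorem finrank_derivation_le {ι : Type*} [Fintype ι] (e : Module.Basis ι K₀ L)
    (v : ι → L) (w : ι → lam) (hw : ∀ i, algebraMap lam L (w i) = v i)
    (hLI : LinearIndependent κ v)
    (hpow : ∀ x : K₀, ∃ c : κ, algebraMap κ K₀ c = x ^ p) :
    Module.finrank L (Derivation lam L L) ≤ Module.finrank K₀ (Ω[K₀⁄κ]) := by
  have h := finrank_kaehler_le p e v w hw hLI hpow
  have h5 : Module.finrank L (Derivation lam L L) = Module.finrank L (Ω[L⁄lam]) := by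
    rw [← (KaehlerDifferential.linearMapEquivDerivation lam L (M := L)).finrank_eq]
    exact Subspace.dual_finrank_eq
  rw [h5]; exact h

end N2b

end Groth.Agent.H5.GRC
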