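import Mathlib
import Groth.Prelude
import Groth.Agent.Lib.Helper5.CD.N2
import Groth.Agent.Lib.Helper5.CD.K1

set_option autoImplicit false
universe u

namespace Groth.Agent.H5.GRC

section N3a
variable {R K : Type*} [CommRing R] [IsDomain R] [Field K] [Algebra R K] [IsFractionRing R K]
  (S₀ : Subring R) [Module.Finite (↥S₀) R]

/-- the fraction field of `R` is finite over the fraction field of a subring over which `R` is
finite. -/
theorem finiteDimensional_closure :
    FiniteDimensional (↥(Subfield.closure ((algebraMap R K) '' (S₀ : Set R)))) K := by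
  classical
  set κ₀ : Subfield K := Subfield.closure ((algebraMap R K) '' (S₀ : Set R)) with hκ₀
  have hinj : Function.Injective (algebraMap R K) := IsFractionRing.injective R K
  obtain ⟨N, γ, hγ⟩ := Module.Finite.exists_fin (R := ↥S₀) (M := R)
  have hS : ∀ s : ↥S₀, algebraMap R K (s : R) ∈ κ₀ := fun s =>
    Subfield.subset_closure ⟨s, s.2, rfl⟩
  have hR : ∀ r : R, algebraMap R K r ∈
      Submodule.span (↥κ₀) (Set.range fun t => algebraMap R K (γ t)) := by
    intro r
    have hr : r ∈ Submodule.span (↥S₀) (Set.range γ) := hγ ▸ Submodule.mem_top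
    obtain ⟨σ, rfl⟩ := (Submodule.mem_span_range_iff_exists_fun (↥S₀)).mp hr
    rw [map_sum]
    refine Submodule.sum_mem _ fun t _ => ?_
    have h1 : σ t • γ t = (σ t : R) * γ t := rfl
    rw [h1, map_mul]
    have h2 : algebraMap R K (σ t : R) * algebraMap R K (γ t) =
        (⟨algebraMap R K (σ t : R), hS (σ t)⟩ : ↥κ₀) • algebraMap R K (γ t) := rfl
    rw [h2]
    exact Submodule.smul_mem _ _ (Submodule.subset_span ⟨t, rfl⟩)
  have hspan : Submodule.span (↥κ₀) (Set.range fun t => algebraMap R K (γ t)) = ⊤ := by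
    rw [eq_top_iff]
    intro x _
    obtain ⟨a, b, hb, rfl⟩ := IsFractionRing.div_surjective (A := R) x
    have hbalg : IsAlgebraic (↥S₀) b := (Algebra.IsIntegral.isIntegral (R := ↥S₀) b).isAlgebraic
    obtain ⟨s, hs0, b', hb'⟩ := hbalg.exists_nonzero_dvd hb
    have hsK : algebraMap R K (s : R) ≠ 0 := by
      intro h0
      apply hs0
      apply Subtype.ext
      exact hinj (h0.trans (map_zero _).symm)
    have hbK : algebraMap R K b ≠ 0 := by
      intro h0
      exact nonZeroDivisors.ne_zero hb (hinj (h0.trans (map_zero _).symm))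
    have hb'' : algebraMap R K (s : R) = algebraMap R K b * algebraMap R K b' := by
      rw [← map_mul]
      exact congrArg _ hb'
    have hx : algebraMap R K a / algebraMap R K b =
        (⟨algebraMap R K (s : R), hS s⟩ : ↥κ₀)⁻¹ • algebraMap R K (a * b') := by
      show _ = (algebraMap R K (s : R))⁻¹ * algebraMap R K (a * b')
      rw [map_mul, hb'', mul_inv, mul_comm (algebraMap R K a), ← mul_assoc,
        mul_assoc (algebraMap R K b)⁻¹, inv_mul_cancel₀, mul_one, div_eq_mul_inv, mul_comm]
      intro h0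
      apply hsK
      rw [hb'', h0, mul_zero]
    rw [hx]
    exact Submodule.smul_mem _ _ (hR _)
  exact Module.finite_def.mpr (hspan ▸ Submodule.fg_span (Set.finite_range _))

end N3a

section N3b
variable (p : ℕ) [hpp : Fact p.Prime] {K₀ L : Type u} [Field K₀] [Field L] [Algebra K₀ L]
  [CharP L p]
  {I : Type*} [Nonempty I] (κ : I → Subfield K₀) (hdir : ∀ a b, ∃ c, κ c ≤ κ a ⊓ κ b)
  (hInt : ((⨅ i, κ i : Subfield K₀) : Set K₀) = Set.range (fun y : K₀ => y ^ p))

include hdir hInt in
/-- the `p`-th powers of a `K₀`-independent family are independent over a member of the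
family of subfields cutting out `K₀^p`. -/
theorem exists_linearIndependent_pow {ι : Type*} [Finite ι] (e : ι → L)
    (he : LinearIndependent K₀ e) :
    ∃ i, LinearIndependent (↥(κ i)) (fun j => e j ^ p) := by
  classical
  haveI : Fintype ι := Fintype.ofFinite ι
  let f : K₀ →+* L := algebraMap K₀ L
  have hf : Function.Injective f := f.injective
  let E : I → Subfield L := fun i => (κ i).map f
  have hdirE : ∀ a b, ∃ c, E c ≤ E a ⊓ E b := by
    intro a b
    obtain ⟨c, hc⟩ := hdir a b
    refine ⟨c, le_inf ?_ ?_⟩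
    · rintro _ ⟨y, hy, rfl⟩
      exact ⟨y, (hc hy).1, rfl⟩
    · rintro _ ⟨y, hy, rfl⟩
      exact ⟨y, (hc hy).2, rfl⟩
  have hInf : ∀ x ∈ (⨅ i, E i : Subfield L), ∃ z : K₀, x = f z ^ p := by
    intro x hx
    rw [Subfield.mem_iInf] at hx
    obtain ⟨i₀⟩ := ‹Nonempty I›
    obtain ⟨y, -, hy⟩ := hx i₀
    have hyall : y ∈ (⨅ i, κ i : Subfield K₀) := by
      rw [Subfield.mem_iInf]
      intro i
      obtain ⟨y', hy', hy''⟩ := hx i
      have : y' = y := hf (hy''.trans hy.symm)
      exact this ▸ hy'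
    have h2 : y ∈ Set.range (fun y : K₀ => y ^ p) := hInt ▸ hyall
    obtain ⟨z, hz⟩ := h2
    refine ⟨z, ?_⟩
    rw [← hy, ← map_pow]
    exact congrArg f hz.symm
  have hLI : LinearIndependent (↥(⨅ i, E i : Subfield L)) (fun j => e j ^ p) := by
    rw [Fintype.linearIndependent_iff]
    intro g hg j
    choose z hz using fun j => hInf (g j) (g j).2
    have h1 : (∑ j, z j • e j) ^ p = 0 := by
      rw [sum_pow_char]
      rw [← hg]
      refine Finset.sum_congr rfl fun j _ => ?_
      show (z j • e j) ^ p = ((g j : L)) * e j ^ p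
      rw [Algebra.smul_def, mul_pow, hz j]
    have h2 : ∑ j, z j • e j = 0 := by
      exact pow_eq_zero_iff (hpp.out.ne_zero) |>.mp h1
    have h3 := Fintype.linearIndependent_iff.mp he z h2 j
    apply Subtype.ext
    show (g j : L) = 0
    rw [hz j, h3, map_zero, zero_pow hpp.out.ne_zero]
  obtain ⟨i, hi⟩ := exists_linearIndependent_of_iInf E hdirE _ hLI
  refine ⟨i, ?_⟩
  rw [Fintype.linearIndependent_iff] at hi ⊢
  intro g hg j
  have h1 := hi (fun j => ⟨f (g j), ⟨g j, (g j).2, rfl⟩⟩) (by
    rw [← hg]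
    refine Finset.sum_congr rfl fun j _ => ?_
    show f (g j) * e j ^ p = (g j) • e j ^ p
    rw [Algebra.smul_def]
    rfl) j
  have h2 : f (g j) = 0 := congrArg Subtype.val h1
  apply Subtype.ext
  exact hf (h2.trans (map_zero f).symm)

end N3b

section N3c
variable (p : ℕ) [hpp : Fact p.Prime] {R₀ : Type u} [CommRing R₀] [IsDomain R₀]
  (K₀ L : Type u) [Field K₀] [Field L] [Algebra R₀ K₀] [IsFractionRing R₀ K₀] [Algebra K₀ L]
  [Algebra R₀ L] [IsScalarTower R₀ K₀ L] [FiniteDimensional K₀ L] [CharP L p]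
  {I : Type*} [Nonempty I] (S : I → Subring R₀) (hdir : ∀ a b, ∃ c, S c ≤ S a ⊓ S b)
  (hfin : ∀ i, Module.Finite (↥(S i)) R₀)
  (hInt : ((⨅ i, Subfield.closure ((algebraMap R₀ K₀) '' (S i : Set R₀)) : Subfield K₀) : Set K₀) =
    Set.range (fun y : K₀ => y ^ p))

include hdir hfin hInt in
/-- **degree bound**: for a suitable member of the family, the space of derivations of the
finite extension `L` over the field generated by the image of `S i` and the `p`-th powers has
dimension at most that of `Ω_{K₀/Frac (S i)}`. -/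
theorem exists_finrank_derivation_le :
    ∃ i, Module.Finite L (Derivation
        (↥(Subfield.closure ((algebraMap R₀ L) '' (S i : Set R₀) ∪ Set.range (fun y : L => y ^ p))))
          L L) ∧
      Module.finrank L (Derivation
        (↥(Subfield.closure ((algebraMap R₀ L) '' (S i : Set R₀) ∪ Set.range (fun y : L => y ^ p))))
          L L) ≤
      Module.finrank K₀
        (Ω[K₀⁄↥(Subfield.closure ((algebraMap R₀ K₀) '' (S i : Set R₀)))]) := by
  classical
  have hdir' : ∀ i j, ∃ c, Subfield.closure ((algebraMap R₀ K₀) '' (S c : Set R₀)) ≤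
      Subfield.closure ((algebraMap R₀ K₀) '' (S i : Set R₀)) ⊓
        Subfield.closure ((algebraMap R₀ K₀) '' (S j : Set R₀)) := by
    intro i j
    obtain ⟨c, hc⟩ := hdir i j
    refine ⟨c, le_inf ?_ ?_⟩
    · apply Subfield.closure_mono
      apply Set.image_mono
      exact fun x hx => (hc hx).1
    · apply Subfield.closure_mono
      apply Set.image_mono
      exact fun x hx => (hc hx).2
  let e := Module.finBasis K₀ L
  obtain ⟨i, hi⟩ := exists_linearIndependent_pow p
    (fun i => Subfield.closure ((algebraMap R₀ K₀) '' (S i : Set R₀))) hdir' hInt e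
    e.linearIndependent
  refine ⟨i, ?_⟩
  set κ : Subfield K₀ := Subfield.closure ((algebraMap R₀ K₀) '' (S i : Set R₀)) with hκ
  set lam : Subfield L :=
    Subfield.closure ((algebraMap R₀ L) '' (S i : Set R₀) ∪ Set.range (fun y : L => y ^ p))
    with hlam
  have hκlam : ∀ y : ↥κ, algebraMap K₀ L (y : K₀) ∈ lam := by
    have h1 : κ ≤ lam.comap (algebraMap K₀ L) := by
      rw [hκ, Subfield.closure_le]
      rintro _ ⟨s, hs, rfl⟩
      show algebraMap K₀ L (algebraMap R₀ K₀ s) ∈ lam
      rw [← IsScalarTower.algebraMap_apply R₀ K₀ L]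
      exact Subfield.subset_closure (Or.inl ⟨s, hs, rfl⟩)
    exact fun y => h1 y.2
  have hpowK : ∀ x : K₀, ∃ c : ↥κ, algebraMap (↥κ) K₀ c = x ^ p := by
    intro x
    have h1 : x ^ p ∈ ((⨅ i, Subfield.closure ((algebraMap R₀ K₀) '' (S i : Set R₀)) :
        Subfield K₀) : Set K₀) := by
      rw [hInt]; exact ⟨x, rfl⟩
    have h2 : x ^ p ∈ κ := (Subfield.mem_iInf.mp h1) i
    exact ⟨⟨x ^ p, h2⟩, rfl⟩
  haveI := hfin i
  haveI : FiniteDimensional (↥κ) K₀ := finiteDimensional_closure (K := K₀) (S i)
  letI : Algebra (↥κ) (↥lam) :=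
    (RingHom.codRestrict ((algebraMap K₀ L).comp κ.subtype) lam hκlam).toAlgebra
  haveI : IsScalarTower (↥κ) (↥lam) L := IsScalarTower.of_algebraMap_eq (fun _ => rfl)
  refine ⟨?_, ?_⟩
  · haveI : FiniteDimensional (↥κ) L := Module.Finite.trans K₀ L
    haveI : FiniteDimensional (↥lam) L := Module.Finite.of_restrictScalars_finite (↥κ) (↥lam) L
    exact Module.Finite.equiv (KaehlerDifferential.linearMapEquivDerivation (↥lam) L (M := L))
  exact finrank_derivation_le p (κ := ↥κ) (K₀ := K₀) (lam := ↥lam) (L := L) e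
    (fun j => e j ^ p)
    (fun j => ⟨e j ^ p, Subfield.subset_closure (Or.inr ⟨e j, rfl⟩)⟩) (fun j => rfl) hi hpowK

end N3c

end Groth.Agent.H5.GRC
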