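import Mathlib
import Groth.Prelude
import Groth.Agent.Lib.Helper5.CD.K5

set_option autoImplicit false
universe u

namespace Groth.Agent.H5.GRC

section N4
variable {R : Type*} [CommRing R] {σ : Type*}

/-- apply an additive map to the coefficients of a polynomial. -/
noncomputable def coeffMap (δ : R →+ R) : MvPolynomial σ R →+ MvPolynomial σ R :=
  AddMonoidHom.mk' (AddMonoidAlgebra.map δ) (AddMonoidAlgebra.map_add δ)

theorem coeffMap_monomial (δ : R →+ R) (m : σ →₀ ℕ) (a : R) :
    coeffMap δ (MvPolynomial.monomial m a) = MvPolynomial.monomial m (δ a) :=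
  AddMonoidAlgebra.map_single δ a m

theorem coeffMap_C (δ : R →+ R) (a : R) :
    coeffMap δ (MvPolynomial.C a : MvPolynomial σ R) = MvPolynomial.C (δ a) :=
  coeffMap_monomial δ 0 a

theorem IsLeibniz.map_one {A : Type*} [CommRing A] {δ : A →+ A} (hδ : IsLeibniz δ) : δ 1 = 0 := by
  have h := hδ 1 1
  rw [mul_one, one_mul] at h
  have h2 : δ 1 + 0 = δ 1 + δ 1 := by rw [add_zero]; exact h
  exact (add_left_cancel h2).symm

theorem coeffMap_X {δ : R →+ R} (hδ : IsLeibniz δ) (i : σ) :
    coeffMap δ (MvPolynomial.X i : MvPolynomial σ R) = 0 := by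
  show coeffMap δ (MvPolynomial.monomial (Finsupp.single i 1) 1) = 0
  rw [coeffMap_monomial, hδ.map_one, map_zero]

theorem isLeibniz_coeffMap {δ : R →+ R} (hδ : IsLeibniz δ) :
    IsLeibniz (coeffMap (σ := σ) δ) := by
  intro f g
  induction f using MvPolynomial.induction_on' with
  | add f₁ f₂ h₁ h₂ =>
    rw [add_mul, map_add, h₁, h₂, map_add]
    ring
  | monomial m a =>
    induction g using MvPolynomial.induction_on' with
    | add g₁ g₂ h₁ h₂ =>
      rw [mul_add, map_add, h₁, h₂, map_add]
      ring
    | monomial n b =>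
      rw [MvPolynomial.monomial_mul, coeffMap_monomial, coeffMap_monomial, coeffMap_monomial,
        MvPolynomial.monomial_mul, MvPolynomial.monomial_mul, hδ, map_add, add_comm n m]

end N4

end Groth.Agent.H5.GRC
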