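import Mathlib
import Groth.Prelude
import Groth.Agent.Lib.Helper5.CD.K5
import Groth.Agent.Lib.Helper5.CD.I0

set_option autoImplicit false
universe u

namespace Groth.Agent.H5.GRC

section N5a
variable {D L : Type u} [CommRing D] [IsDomain D] [Field L] [Algebra D L] [IsFractionRing D L]

/-- a derivation from a domain to its fraction field extends to the fraction field. -/
theorem exists_derivation_extension (d : Derivation ℤ D L) :
    ∃ Δ : Derivation ℤ L L, ∀ y, Δ (algebraMap D L y) = d y := by
  haveI := Algebra.FormallyEtale.of_isLocalization (Rₘ := L) (nonZeroDivisors D)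
  refine ⟨((KaehlerDifferential.isBaseChange_of_formallyEtale ℤ D L).lift
    d.liftKaehlerDifferential).compDer (KaehlerDifferential.D ℤ L), fun y => ?_⟩
  show ((KaehlerDifferential.isBaseChange_of_formallyEtale ℤ D L).lift
    d.liftKaehlerDifferential) (KaehlerDifferential.D ℤ L (algebraMap D L y)) = d y
  rw [← KaehlerDifferential.map_D ℤ ℤ D L, IsBaseChange.lift_eq]
  simp only [Derivation.liftKaehlerDifferential_comp_D]

end N5a

section N5b
variable (p : ℕ) [hpp : Fact p.Prime] {A D L : Type u} [CommRing A] [CommRing D] [IsDomain D]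
  [Field L] [Algebra A D] [Algebra D L] [Algebra A L] [IsScalarTower A D L] [IsFractionRing D L]
  [CharP L p] (hsurj : Function.Surjective (algebraMap A D))
  {M : Type*} [Fintype M] (E : M → (A →+ A)) (hE : ∀ m, IsLeibniz (E m))
  (Z : Set A) (hZ : ∀ m, ∀ z ∈ Z, E m z = 0)

/-- the combination `Σ c_m (E_m a)` evaluated in `L`. -/
noncomputable def psi : (M → L) →ₗ[L] (A → L) where
  toFun c a := ∑ m, c m * algebraMap A L (E m a)
  map_add' c c' := by
    funext a
    simp only [Pi.add_apply, add_mul, Finset.sum_add_distrib]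
  map_smul' t c := by
    funext a
    simp only [Pi.smul_apply, smul_eq_mul, RingHom.id_apply, Finset.mul_sum, mul_assoc]

theorem psi_apply (c : M → L) (a : A) : psi E c a = ∑ m, c m * algebraMap A L (E m a) := rfl

theorem psi_add (c : M → L) (a a' : A) : psi E c (a + a') = psi E c a + psi E c a' := by
  simp only [psi_apply, map_add, mul_add, Finset.sum_add_distrib]

include hE in
theorem psi_mul (c : M → L) (a a' : A) :
    psi E c (a * a') = algebraMap A L a * psi E c a' + algebraMap A L a' * psi E c a := by
  simp only [psi_apply, Finset.mul_sum, ← Finset.sum_add_distrib]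
  refine Finset.sum_congr rfl fun m _ => ?_
  rw [hE m a a', map_add, map_mul, map_mul]
  ring

include hsurj hE hZ in
/-- a combination of the `E_m` vanishing on the kernel of `A → D` is induced by a derivation of
`L` over the subfield generated by the image of `Z` and the `p`-th powers. -/
theorem exists_derivation_of_vanishing (c : M → L)
    (hc : ∀ a, algebraMap A D a = 0 → psi E c a = 0) :
    ∃ Δ : Derivation
      (↥(Subfield.closure ((algebraMap A L) '' Z ∪ Set.range (fun y : L => y ^ p)))) L L,
      ∀ a, Δ (algebraMap A L a) = psi E c a := by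
  classical
  let ψc : A →+ L := AddMonoidHom.mk' (psi E c) (psi_add E c)
  have hψc : ∀ a, ψc a = psi E c a := fun _ => rfl
  have hwd : ∀ a a', algebraMap A D a = algebraMap A D a' → ψc a = ψc a' := by
    intro a a' h
    have h1 : ψc (a - a') = 0 := hc _ (by rw [map_sub, h, sub_self])
    rw [map_sub, sub_eq_zero] at h1
    exact h1
  let d₀ : D → L := fun y => ψc (Function.surjInv hsurj y)
  have hd₀ : ∀ a, d₀ (algebraMap A D a) = ψc a := fun a =>
    hwd _ _ (Function.surjInv_eq hsurj _)
  have hd₀add : ∀ y y', d₀ (y + y') = d₀ y + d₀ y' := by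
    intro y y'
    obtain ⟨a, rfl⟩ := hsurj y
    obtain ⟨a', rfl⟩ := hsurj y'
    rw [← map_add, hd₀, hd₀, hd₀, map_add]
  let d : Derivation ℤ D L := Derivation.mk' (AddMonoidHom.mk' d₀ hd₀add).toIntLinearMap (by
    intro y y'
    obtain ⟨a, rfl⟩ := hsurj y
    obtain ⟨a', rfl⟩ := hsurj y'
    show d₀ (algebraMap A D a * algebraMap A D a') =
      algebraMap A D a • d₀ (algebraMap A D a') + algebraMap A D a' • d₀ (algebraMap A D a)
    rw [← map_mul, hd₀, hd₀, hd₀, hψc, psi_mul E hE, Algebra.smul_def, Algebra.smul_def,
      ← IsScalarTower.algebraMap_apply A D L, ← IsScalarTower.algebraMap_apply A D L]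
    rfl)
  have hd : ∀ a, d (algebraMap A D a) = psi E c a := fun a => hd₀ a
  obtain ⟨Δ₀, hΔ₀⟩ := exists_derivation_extension d
  have hΔ₀' : ∀ a, Δ₀ (algebraMap A L a) = psi E c a := by
    intro a
    rw [IsScalarTower.algebraMap_apply A D L, hΔ₀, hd]
  -- the kernel of `Δ₀` is a subfield
  let Ker : Subfield L :=
    { carrier := {x | Δ₀ x = 0}
      mul_mem' := by
        intro x y hx hy
        show Δ₀ (x * y) = 0
        rw [Derivation.leibniz, show Δ₀ x = 0 from hx, show Δ₀ y = 0 from hy, smul_zero, smul_zero,
          add_zero]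
      one_mem' := Δ₀.map_one_eq_zero
      add_mem' := by
        intro x y hx hy
        show Δ₀ (x + y) = 0
        rw [map_add, show Δ₀ x = 0 from hx, show Δ₀ y = 0 from hy, add_zero]
      zero_mem' := map_zero Δ₀
      neg_mem' := by
        intro x hx
        show Δ₀ (-x) = 0
        rw [map_neg, show Δ₀ x = 0 from hx, neg_zero]
      inv_mem' := by
        intro x hx
        show Δ₀ x⁻¹ = 0
        rw [Derivation.leibniz_inv, show Δ₀ x = 0 from hx, smul_zero] }
  have hle : Subfield.closure ((algebraMap A L) '' Z ∪ Set.range (fun y : L => y ^ p)) ≤ Ker := by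
    rw [Subfield.closure_le]
    rintro x (⟨z, hz, rfl⟩ | ⟨y, rfl⟩)
    · show Δ₀ (algebraMap A L z) = 0
      rw [hΔ₀', psi_apply]
      refine Finset.sum_eq_zero fun m _ => ?_
      rw [hZ m z hz, map_zero, mul_zero]
    · show Δ₀ (y ^ p) = 0
      rw [Derivation.leibniz_pow]
      have : (p : L) = 0 := CharP.cast_eq_zero L p
      rw [← Nat.cast_smul_eq_nsmul L, this, zero_smul]
  refine ⟨Derivation.mk'
    { toFun := Δ₀
      map_add' := map_add Δ₀
      map_smul' := by
        intro t x
        show Δ₀ ((t : L) * x) = (t : L) * Δ₀ x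
        rw [Derivation.leibniz, show Δ₀ (t : L) = 0 from hle t.2, smul_zero, add_zero,
          smul_eq_mul] } (fun x y => Δ₀.leibniz x y), hΔ₀'⟩

end N5b

section N5c
variable (p : ℕ) [hpp : Fact p.Prime] {A D L : Type u} [CommRing A] [CommRing D] [IsDomain D]
  [Field L] [Algebra A D] [Algebra D L] [Algebra A L] [IsScalarTower A D L] [IsFractionRing D L]
  [CharP L p] (hsurj : Function.Surjective (algebraMap A D))
  {M : Type*} [Fintype M] [DecidableEq M] (E : M → (A →+ A)) (hE : ∀ m, IsLeibniz (E m))
  (Z : Set A) (hZ : ∀ m, ∀ z ∈ Z, E m z = 0) (x : M → A)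

theorem psi_injective
    (hx : algebraMap A L (Matrix.det (Matrix.of fun m m' => E m (x m'))) ≠ 0) :
    Function.Injective (psi (L := L) E) := by
  rw [← LinearMap.ker_eq_bot, LinearMap.ker_eq_bot']
  intro c hc
  have hdet : ((algebraMap A L).mapMatrix (Matrix.of fun m m' => E m (x m'))).det ≠ 0 := by
    rw [← RingHom.map_det]; exact hx
  apply Matrix.eq_zero_of_vecMul_eq_zero hdet
  funext m'
  have h1 := congrFun hc (x m')
  rw [psi_apply] at h1
  exact h1

/-- the dot product as a bilinear map. -/
noncomputable def dotB : (M → L) →ₗ[L] (M → L) →ₗ[L] L :=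
  LinearMap.mk₂ L (fun c v => ∑ m, c m * v m)
    (fun c c' v => by simp only [Pi.add_apply, add_mul, Finset.sum_add_distrib])
    (fun t c v => by simp only [Pi.smul_apply, smul_eq_mul, Finset.mul_sum, mul_assoc])
    (fun c v v' => by simp only [Pi.add_apply, mul_add, Finset.sum_add_distrib])
    (fun t c v => by
      simp only [Pi.smul_apply, smul_eq_mul, Finset.mul_sum]
      refine Finset.sum_congr rfl fun m _ => ?_
      ring)

omit [DecidableEq M] in
theorem dotB_apply (c v : M → L) : dotB (L := L) c v = ∑ m, c m * v m := rfl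

include hsurj hE hZ in
/-- **rank of the Jacobian**: if the derivations of `L` over the subfield generated by the image of
`Z` and the `p`-th powers form a space of dimension at most `n`, then among `s + n` Leibniz maps
killing `Z` and nondegenerate on some family `x`, one finds `s` of them and `s` elements of the
kernel of `A → D` with Jacobian determinant nonzero in `L`. -/
theorem exists_minor_not_mem
    (hx : algebraMap A L (Matrix.det (Matrix.of fun m m' => E m (x m'))) ≠ 0)
    (n s : ℕ) (hcard : s + n ≤ Fintype.card M)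
    [Module.Finite L (Derivation
      (↥(Subfield.closure ((algebraMap A L) '' Z ∪ Set.range (fun y : L => y ^ p)))) L L)]
    (hn : Module.finrank L (Derivation
      (↥(Subfield.closure ((algebraMap A L) '' Z ∪ Set.range (fun y : L => y ^ p)))) L L) ≤ n) :
    ∃ (f : Fin s → A) (σ : Fin s → M), (∀ j, algebraMap A D (f j) = 0) ∧
      algebraMap A L (Matrix.det (Matrix.of fun i j => E (σ i) (f j))) ≠ 0 := by
  classical
  set lam : Subfield L :=
    Subfield.closure ((algebraMap A L) '' Z ∪ Set.range (fun y : L => y ^ p)) with hlam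
  -- the combinations vanishing on the kernel
  let W : Submodule L (M → L) :=
    { carrier := {c | ∀ a, algebraMap A D a = 0 → psi E c a = 0}
      add_mem' := by
        intro c c' hc hc' a ha
        rw [map_add, Pi.add_apply, hc a ha, hc' a ha, add_zero]
      zero_mem' := by
        intro a _
        rw [map_zero]; rfl
      smul_mem' := by
        intro t c hc a ha
        rw [map_smul, Pi.smul_apply, hc a ha, smul_zero] }
  let Θ : Derivation (↥lam) L L →ₗ[L] (A → L) :=
    { toFun := fun Δ a => Δ (algebraMap A L a)
      map_add' := fun Δ Δ' => by funext a; rfl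
      map_smul' := fun t Δ => by funext a; rfl }
  have hWle : W.map (psi E) ≤ LinearMap.range Θ := by
    rintro _ ⟨c, hc, rfl⟩
    obtain ⟨Δ, hΔ⟩ := exists_derivation_of_vanishing p hsurj E hE Z hZ c hc
    exact ⟨Δ, funext hΔ⟩
  have hinj := psi_injective (L := L) E x hx
  have hW : Module.finrank L W ≤ n := by
    have h1 : Module.finrank L W = Module.finrank L (W.map (psi (L := L) E)) :=
      (Submodule.equivMapOfInjective (psi (L := L) E) hinj W).finrank_eq
    have h2 : Module.finrank L (W.map (psi (L := L) E)) ≤ Module.finrank L (LinearMap.range Θ) :=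
      Submodule.finrank_mono hWle
    have h3 : Module.finrank L (LinearMap.range Θ) ≤ Module.finrank L (Derivation (↥lam) L L) :=
      LinearMap.finrank_range_le Θ
    omega
  -- the span of the Jacobian rows
  let gen : Set (M → L) :=
    {v | ∃ a, algebraMap A D a = 0 ∧ v = fun m => algebraMap A L (E m a)}
  let V : Submodule L (M → L) := Submodule.span L gen
  let T : (M → L) →ₗ[L] Module.Dual L V :=
    (LinearMap.lcomp L L V.subtype).comp (dotB (L := L) (M := M))
  have hker : LinearMap.ker T ≤ W := by
    intro c hc a ha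
    have h1 : T c ⟨fun m => algebraMap A L (E m a), Submodule.subset_span ⟨a, ha, rfl⟩⟩ = 0 := by
      rw [LinearMap.mem_ker.mp hc]; rfl
    exact h1
  have hrn := LinearMap.finrank_range_add_finrank_ker T
  have h4 : Module.finrank L (LinearMap.range T) ≤ Module.finrank L V := by
    have := Submodule.finrank_le (LinearMap.range T)
    rwa [Subspace.dual_finrank_eq] at this
  have h5 : Module.finrank L (LinearMap.ker T) ≤ Module.finrank L W :=
    Submodule.finrank_mono hker
  have h6 : Module.finrank L (M → L) = Fintype.card M := Module.finrank_fintype_fun_eq_card L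
  have hV : s ≤ Module.finrank L V := by omega
  -- extract independent rows
  obtain ⟨f₀, hf₀mem, -, hf₀LI⟩ := Submodule.exists_fun_fin_finrank_span_eq L gen
  have hLI : LinearIndependent L (fun j : Fin s => f₀ (Fin.castLE hV j)) :=
    hf₀LI.comp _ (Fin.castLE_injective hV)
  choose f hf0 hfv using fun j : Fin s => hf₀mem (Fin.castLE hV j)
  -- reindex the columns
  let eM := Fintype.equivFin M
  have hLI' : LinearIndependent L
      (fun j : Fin s => fun t : Fin (Fintype.card M) => f₀ (Fin.castLE hV j) (eM.symm t)) := by
    have := hLI.map' (LinearEquiv.funCongrLeft L L eM.symm).toLinearMap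
      (LinearEquiv.ker _)
    exact this
  obtain ⟨σ', hσ'⟩ := Groth.Agent.H5.CD.exists_minor_ne_zero _ hLI'
  refine ⟨f, fun i => eM.symm (σ' i), hf0, ?_⟩
  rw [RingHom.map_det]
  have hmat : (algebraMap A L).mapMatrix (Matrix.of fun i j => E (eM.symm (σ' i)) (f j)) =
      Matrix.of fun i j => f₀ (Fin.castLE hV j) (eM.symm (σ' i)) := by
    ext i j
    simp only [RingHom.mapMatrix_apply, Matrix.map_apply, Matrix.of_apply]
    rw [hfv j]
  rw [hmat]
  exact hσ'

end N5c

end Groth.Agent.H5.GRC
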