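import Mathlib
import Groth.Prelude
import Groth.Agent.Lib.Helper1.RegDer
import Groth.Agent.Lib.Helper8.J2.J3

set_option autoImplicit false
universe u

open IsLocalRing

namespace Groth.Agent.H5.GRC

section N7a
variable {A Q : Type u} [CommRing A] [CommRing Q] [Algebra A Q] (M : Submonoid A)
  [IsLocalization M Q]

include M in
/-- derivations extend to localisations. -/
theorem exists_derivation_localization (E : Derivation ℤ A A) :
    ∃ E' : Derivation ℤ Q Q, ∀ a, E' (algebraMap A Q a) = algebraMap A Q (E a) := by
  haveI := Algebra.FormallyEtale.of_isLocalization (Rₘ := Q) M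
  refine ⟨((KaehlerDifferential.isBaseChange_of_formallyEtale ℤ A Q).lift
      ((Algebra.linearMap A Q) ∘ₗ E.liftKaehlerDifferential)).compDer (KaehlerDifferential.D ℤ Q),
    fun a => ?_⟩
  show ((KaehlerDifferential.isBaseChange_of_formallyEtale ℤ A Q).lift
    ((Algebra.linearMap A Q) ∘ₗ E.liftKaehlerDifferential))
      (KaehlerDifferential.D ℤ Q (algebraMap A Q a)) = _
  rw [← KaehlerDifferential.map_D ℤ ℤ A Q, IsBaseChange.lift_eq]
  simp only [LinearMap.comp_apply, Derivation.liftKaehlerDifferential_comp_D]
  rfl

end N7a

section N7b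
variable {A : Type u} [CommRing A] (q P : Ideal A) [P.IsPrime] (hqP : q ≤ P)
  [(P.map (Ideal.Quotient.mk q)).IsPrime]

include hqP in
/-- **Jacobian criterion, sufficiency**, for absolute derivations. -/
theorem regular_of_jacobian_int [IsRegularLocalRing (Localization.AtPrime P)]
    (m : ℕ) (D : Fin m → Derivation ℤ A A) (f : Fin m → A) (hfq : ∀ i, f i ∈ q)
    (hspan : q.map (algebraMap A (Localization.AtPrime P)) =
      Ideal.span (Set.range fun i => algebraMap A (Localization.AtPrime P) (f i)))
    (hdet : Matrix.det (Matrix.of fun i j => D i (f j)) ∉ P) :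
    IsRegularLocalRing (Localization.AtPrime (P.map (Ideal.Quotient.mk q))) := by
  classical
  choose D' hD' using fun i => exists_derivation_localization (Q := Localization.AtPrime P)
    P.primeCompl (D i)
  let F : Fin m → Localization.AtPrime P := fun j => algebraMap A (Localization.AtPrime P) (f j)
  have hF : ∀ j, F j ∈ maximalIdeal (Localization.AtPrime P) := fun j =>
    (IsLocalization.AtPrime.to_map_mem_maximal_iff (Localization.AtPrime P) P (f j)).mpr
      (hqP (hfq j))
  have hdet' : IsUnit (Matrix.det (Matrix.of (fun i j : Fin m => D' i (F j)))) := by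
    have h1 : (Matrix.of (fun i j : Fin m => D' i (F j))) =
        (algebraMap A (Localization.AtPrime P)).mapMatrix (Matrix.of fun i j => D i (f j)) := by
      ext i j
      simp only [Matrix.of_apply, RingHom.mapMatrix_apply, Matrix.map_apply]
      exact hD' i (f j)
    rw [h1, ← RingHom.map_det]
    exact IsLocalization.map_units (Localization.AtPrime P)
      (⟨_, hdet⟩ : P.primeCompl)
  obtain ⟨hreg, -⟩ := Groth.Agent.H1.RegDer.regular_of_derivations (Localization.AtPrime P) m F hF
    D' hdet'
  have hspan' : Ideal.span (Set.range F) = q.map (algebraMap A (Localization.AtPrime P)) :=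
    hspan.symm
  rw [hspan'] at hreg
  exact IsRegularLocalRing.of_ringEquiv (Groth.Agent.H8.J2.quotLocEquiv q P hqP).symm

end N7b

section N7c
variable {A : Type u} [CommRing A] [IsRegularRing A] (q : Ideal A) [q.IsPrime]

/-- if `s ≥ ht q` elements of `q` have a Jacobian determinant outside `q`, they generate `q A_q`. -/
theorem map_eq_span_of_jacobian (s : ℕ) (hht : q.height ≤ s) (f : Fin s → A) (hf : ∀ j, f j ∈ q)
    (E : Fin s → Derivation ℤ A A)
    (hdet : Matrix.det (Matrix.of fun i j => E i (f j)) ∉ q) :
    q.map (algebraMap A (Localization.AtPrime q)) =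
      Ideal.span (Set.range fun j => algebraMap A (Localization.AtPrime q) (f j)) := by
  classical
  haveI : IsRegularLocalRing (Localization.AtPrime q) :=
    IsRegularRing.isRegularLocalRing_localization q
  choose D' hD' using fun i => exists_derivation_localization (Q := Localization.AtPrime q)
    q.primeCompl (E i)
  let F : Fin s → Localization.AtPrime q := fun j => algebraMap A (Localization.AtPrime q) (f j)
  have hF : ∀ j, F j ∈ maximalIdeal (Localization.AtPrime q) := fun j =>
    (IsLocalization.AtPrime.to_map_mem_maximal_iff (Localization.AtPrime q) q (f j)).mpr (hf j)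
  have hdet' : IsUnit (Matrix.det (Matrix.of (fun i j : Fin s => D' i (F j)))) := by
    have h1 : (Matrix.of (fun i j : Fin s => D' i (F j))) =
        (algebraMap A (Localization.AtPrime q)).mapMatrix (Matrix.of fun i j => E i (f j)) := by
      ext i j
      simp only [Matrix.of_apply, RingHom.mapMatrix_apply, Matrix.map_apply]
      exact hD' i (f j)
    rw [h1, ← RingHom.map_det]
    exact IsLocalization.map_units (Localization.AtPrime q)
      (⟨_, hdet⟩ : q.primeCompl)
  let F' : Fin s → maximalIdeal (Localization.AtPrime q) := fun j => ⟨F j, hF j⟩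
  have hLI := Groth.Agent.H1.RegDer.linearIndependent_toCotangent_of_derivations s F' D' hdet'
  have hfr : (Module.finrank (ResidueField (Localization.AtPrime q))
      (CotangentSpace (Localization.AtPrime q)) : WithBot ℕ∞) = q.height := by
    rw [(IsRegularLocalRing.iff_finrank_cotangentSpace (Localization.AtPrime q)).mp inferInstance,
      IsLocalization.AtPrime.ringKrullDim_eq_height q (Localization.AtPrime q)]
  have hle : Module.finrank (ResidueField (Localization.AtPrime q))
      (CotangentSpace (Localization.AtPrime q)) ≤ s := by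
    have h1 : ((Module.finrank (ResidueField (Localization.AtPrime q))
        (CotangentSpace (Localization.AtPrime q)) : ℕ∞) : WithBot ℕ∞) ≤ ((s : ℕ∞) : WithBot ℕ∞) := by
      have h2 : ((Module.finrank (ResidueField (Localization.AtPrime q))
          (CotangentSpace (Localization.AtPrime q)) : ℕ∞) : WithBot ℕ∞) = q.height := hfr
      rw [h2]
      exact WithBot.coe_le_coe.mpr hht
    exact_mod_cast h1
  have hge : s ≤ Module.finrank (ResidueField (Localization.AtPrime q))
      (CotangentSpace (Localization.AtPrime q)) := by
    have := hLI.fintype_card_le_finrank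
    rwa [Fintype.card_fin] at this
  have hcard : Fintype.card (Fin s) = Module.finrank (ResidueField (Localization.AtPrime q))
      (CotangentSpace (Localization.AtPrime q)) := by
    rw [Fintype.card_fin]; exact le_antisymm hge hle
  have hspan := hLI.span_eq_top_of_card_eq_finrank' hcard
  have hrange : Set.range (fun j => (maximalIdeal (Localization.AtPrime q)).toCotangent (F' j)) =
      (maximalIdeal (Localization.AtPrime q)).toCotangent '' (Set.range F') := by
    rw [← Set.range_comp]; rfl
  rw [hrange, IsLocalRing.CotangentSpace.span_image_eq_top_iff] at hspan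
  have h3 := congrArg (Submodule.map (maximalIdeal (Localization.AtPrime q)).subtype) hspan
  rw [Submodule.map_span, Submodule.map_top, Submodule.range_subtype, ← Set.range_comp] at h3
  rw [IsLocalization.AtPrime.map_eq_maximalIdeal q (Localization.AtPrime q)]
  exact h3.symm

theorem isRegularLocalRing_of_ideal_eq {B : Type u} [CommRing B] (Q' Q : Ideal B) [Q'.IsPrime]
    [Q.IsPrime] (h : Q' = Q) (hreg : IsRegularLocalRing (Localization.AtPrime Q')) :
    IsRegularLocalRing (Localization.AtPrime Q) := by
  subst h
  exact hreg

/-- **generic regularity from a Jacobian**: if `s ≥ ht q` elements of the prime `q` of the regular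
ring `A` have a Jacobian determinant outside `q`, then `A ⧸ q` is regular on a nonempty basic
open. -/
theorem exists_regOn_quotient_of_jacobian (s : ℕ) (hht : q.height ≤ s) (f : Fin s → A)
    (hf : ∀ j, f j ∈ q) (E : Fin s → Derivation ℤ A A)
    (hdet : Matrix.det (Matrix.of fun i j => E i (f j)) ∉ q) :
    ∃ g₀ : A, g₀ ∉ q ∧ Groth.Agent.H8.J2.RegOn (A ⧸ q) (Ideal.Quotient.mk q g₀) := by
  classical
  have hmap := map_eq_span_of_jacobian q s hht f hf E hdet
  set If : Ideal A := Ideal.span (Set.range f) with hIf
  have hIfq : If ≤ q := by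
    rw [hIf, Ideal.span_le]
    rintro _ ⟨j, rfl⟩
    exact hf j
  have hIfmap : ∀ (P : Ideal A) [P.IsPrime], If.map (algebraMap A (Localization.AtPrime P)) =
      Ideal.span (Set.range fun j => algebraMap A (Localization.AtPrime P) (f j)) := by
    intro P _
    rw [hIf, Ideal.map_span, ← Set.range_comp]
    rfl
  have hex : ∀ a ∈ q, ∃ t ∈ q.primeCompl, t * a ∈ If := by
    intro a ha
    have h1 : algebraMap A (Localization.AtPrime q) a ∈
        If.map (algebraMap A (Localization.AtPrime q)) := by
      rw [hIfmap q, ← hmap]
      exact Ideal.mem_map_of_mem _ ha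
    exact (IsLocalization.algebraMap_mem_map_algebraMap_iff q.primeCompl
      (Localization.AtPrime q) If a).mp h1
  obtain ⟨G, hG⟩ := (IsNoetherian.noetherian q : q.FG)
  let t : A → A := fun a => if ha : a ∈ q then (hex a ha).choose else 1
  have ht1 : ∀ a, t a ∈ q.primeCompl := by
    intro a
    by_cases ha : a ∈ q
    · simp only [t, dif_pos ha]
      exact (hex a ha).choose_spec.1
    · simp only [t, dif_neg ha]
      exact one_mem _
  have ht2 : ∀ a ∈ q, t a * a ∈ If := by
    intro a ha
    simp only [t, dif_pos ha]
    exact (hex a ha).choose_spec.2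
  let h : A := ∏ a ∈ G, t a
  have hh : h ∈ q.primeCompl := Submonoid.prod_mem _ (fun a _ => ht1 a)
  have hGq : ∀ a ∈ G, a ∈ q := fun a ha => hG ▸ Ideal.subset_span ha
  have hhq : ∀ a ∈ q, h * a ∈ If := by
    intro a ha
    rw [← hG] at ha
    refine Submodule.span_induction (p := fun a _ => h * a ∈ If) ?_ ?_ ?_ ?_ ha
    · intro a haG
      obtain ⟨c, hc⟩ := Finset.dvd_prod_of_mem t haG
      show h * a ∈ If
      have : h * a = c * (t a * a) := by
        show (∏ a ∈ G, t a) * a = _
        rw [hc]; ring
      rw [this]
      exact If.mul_mem_left _ (ht2 a (hGq a haG))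
    · rw [mul_zero]; exact If.zero_mem
    · intro x y _ _ hx hy
      rw [mul_add]; exact If.add_mem hx hy
    · intro c x _ hx
      rw [smul_eq_mul, mul_left_comm]
      exact If.mul_mem_left _ hx
  refine ⟨Matrix.det (Matrix.of fun i j => E i (f j)) * h, ?_, ?_⟩
  · intro hmem
    rcases (inferInstance : q.IsPrime).mem_or_mem hmem with h1 | h1
    · exact hdet h1
    · exact hh h1
  · intro Q _ hQ
    let P : Ideal A := Q.comap (Ideal.Quotient.mk q)
    haveI : P.IsPrime := Ideal.comap_isPrime _ _
    have hqP : q ≤ P := by
      intro a ha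
      show Ideal.Quotient.mk q a ∈ Q
      rw [Ideal.Quotient.eq_zero_iff_mem.mpr ha]
      exact Q.zero_mem
    have hPmap : P.map (Ideal.Quotient.mk q) = Q :=
      Ideal.map_comap_of_surjective _ Ideal.Quotient.mk_surjective Q
    haveI : (P.map (Ideal.Quotient.mk q)).IsPrime := by rw [hPmap]; infer_instance
    have hg₀P : Matrix.det (Matrix.of fun i j => E i (f j)) * h ∉ P := hQ
    have hdetP : Matrix.det (Matrix.of fun i j => E i (f j)) ∉ P := fun h1 =>
      hg₀P (P.mul_mem_right _ h1)
    have hhP : h ∉ P := fun h1 => hg₀P (P.mul_mem_left _ h1)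
    haveI : IsRegularLocalRing (Localization.AtPrime P) :=
      IsRegularRing.isRegularLocalRing_localization P
    have hspanP : q.map (algebraMap A (Localization.AtPrime P)) =
        Ideal.span (Set.range fun i => algebraMap A (Localization.AtPrime P) (f i)) := by
      rw [← hIfmap P]
      apply le_antisymm
      · rw [Ideal.map_le_iff_le_comap]
        intro a ha
        show algebraMap A (Localization.AtPrime P) a ∈ If.map (algebraMap A (Localization.AtPrime P))
        have hu : IsUnit (algebraMap A (Localization.AtPrime P) h) :=
          IsLocalization.map_units (Localization.AtPrime P) (⟨h, hhP⟩ : P.primeCompl)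
        rw [← Ideal.unit_mul_mem_iff_mem _ hu, ← map_mul]
        exact Ideal.mem_map_of_mem _ (hhq a ha)
      · exact Ideal.map_mono hIfq
    have hreg := regular_of_jacobian_int q P hqP s E f hf hspanP hdetP
    exact isRegularLocalRing_of_ideal_eq _ Q hPmap hreg

end N7c

end Groth.Agent.H5.GRC
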