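import Mathlib
import Groth.Prelude
import Groth.Agent.Lib.Helper5.CD.N3
import Groth.Agent.Lib.Helper5.CD.N4
import Groth.Agent.Lib.Helper5.CD.N5
import Groth.Agent.Lib.Helper5.CD.N7
import Groth.Agent.Lib.Helper5.CD.K3
import Groth.Agent.Lib.Helper5.CD.K8
import Groth.Agent.Lib.Helper2.DimFG
import Groth.Agent.Lib.Helper8.J2.J2
import Groth.Agent.Lib.Helper8.J2.R1
import Groth.Agent.Lib.Helper5.CA.RegHom2
import Groth.Agent.Lib.Helper5.CA.NG8

set_option autoImplicit false
universe u

open IsLocalRing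

namespace Groth.Agent.H5.GRC

section N6a
variable {R₀ K₀ : Type u} [CommRing R₀] [IsDomain R₀] [Field K₀] [Algebra R₀ K₀]
  [IsFractionRing R₀ K₀] (κ : Subfield K₀) [FiniteDimensional (↥κ) K₀]

/-- a differential basis of `K₀` over `κ` consisting of elements of `R₀`. -/
theorem exists_differential_basis :
    ∃ (J : Type u) (_ : Fintype J) (u : J → R₀),
      LinearIndependent K₀ (fun j => KaehlerDifferential.D (↥κ) K₀ (algebraMap R₀ K₀ (u j))) ∧
      Fintype.card J = Module.finrank K₀ (Ω[K₀⁄↥κ]) := by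
  classical
  have hspanZ : (⊤ : Submodule K₀ (Ω[K₀⁄ℤ])) ≤ Submodule.span K₀
      (Set.range fun a : R₀ => KaehlerDifferential.D ℤ K₀ (algebraMap R₀ K₀ a)) := by
    have h := KaehlerDifferential.span_range_map_derivation_of_isLocalization ℤ R₀ K₀
      (nonZeroDivisors R₀)
    rw [← h]
    apply Submodule.span_mono
    rintro _ ⟨a, rfl⟩
    exact ⟨a, by simp [KaehlerDifferential.map_D]⟩
  have hspan : (⊤ : Submodule K₀ (Ω[K₀⁄↥κ])) ≤ Submodule.span K₀
      (Set.range fun a : R₀ => KaehlerDifferential.D (↥κ) K₀ (algebraMap R₀ K₀ a)) := by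
    have hsurj : Function.Surjective (KaehlerDifferential.map ℤ (↥κ) K₀ K₀) :=
      KaehlerDifferential.map_surjective ℤ (↥κ) K₀
    intro ω _
    obtain ⟨ω', rfl⟩ := hsurj ω
    have h1 : ω' ∈ Submodule.span K₀
        (Set.range fun a : R₀ => KaehlerDifferential.D ℤ K₀ (algebraMap R₀ K₀ a)) :=
      hspanZ Submodule.mem_top
    have h2 := Submodule.mem_map_of_mem (f := (KaehlerDifferential.map ℤ (↥κ) K₀ K₀)) h1
    rw [Submodule.map_span, ← Set.range_comp] at h2
    refine Submodule.span_mono ?_ h2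
    rintro _ ⟨a, rfl⟩
    exact ⟨a, by simp [KaehlerDifferential.map_D]⟩
  let b := Module.Basis.ofSpan hspan
  have hbmem : ∀ i, ∃ a : R₀, KaehlerDifferential.D (↥κ) K₀ (algebraMap R₀ K₀ a) = b i := fun i =>
    Module.Basis.ofSpan_subset hspan ⟨i, rfl⟩
  choose a ha using hbmem
  haveI : Module.Finite K₀ (Ω[K₀⁄↥κ]) := inferInstance
  haveI hfinJ := Module.Finite.finite_basis b
  letI hft : Fintype ↥((linearIndepOn_empty K₀ id).extend (Set.empty_subset
      (Set.range fun a : R₀ => KaehlerDifferential.D (↥κ) K₀ (algebraMap R₀ K₀ a)))) :=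
    Fintype.ofFinite _
  refine ⟨_, hft, a, ?_, ?_⟩
  · have h2 : (fun j => KaehlerDifferential.D (↥κ) K₀ (algebraMap R₀ K₀ (a j))) = fun j => b j := by
      funext j; exact ha j
    rw [h2]; exact b.linearIndependent
  · exact (Module.finrank_eq_card_basis b).symm

end N6a

section N6b
variable {R₀ : Type u} [CommRing R₀] (s : ℕ) {J : Type u}
  (δ : J → (R₀ →+ R₀)) (u : J → R₀)

/-- the Leibniz maps on the polynomial ring: partial derivatives and coefficientwise maps. -/
noncomputable def polyE :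
    Fin s ⊕ J → (MvPolynomial (Fin s) R₀ →+ MvPolynomial (Fin s) R₀)
  | Sum.inl l => ((MvPolynomial.pderiv l : Derivation R₀ _ _) :
      MvPolynomial (Fin s) R₀ →ₗ[R₀] MvPolynomial (Fin s) R₀).toAddMonoidHom
  | Sum.inr j => coeffMap (δ j)

/-- the test elements: the variables and the constants `u j`. -/
noncomputable def polyX : Fin s ⊕ J → MvPolynomial (Fin s) R₀
  | Sum.inl l => MvPolynomial.X l
  | Sum.inr j => MvPolynomial.C (u j)

theorem isLeibniz_polyE (hδ : ∀ j, IsLeibniz (δ j)) (m : Fin s ⊕ J) : IsLeibniz (polyE s δ m) := by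
  rcases m with l | j
  · intro a c
    show MvPolynomial.pderiv l (a * c) = a * MvPolynomial.pderiv l c + c * MvPolynomial.pderiv l a
    rw [Derivation.leibniz, smul_eq_mul, smul_eq_mul]
  · exact isLeibniz_coeffMap (hδ j)

theorem polyE_C (m : Fin s ⊕ J) (a : R₀) (ha : ∀ j, δ j a = 0) :
    polyE s δ m (MvPolynomial.C a) = 0 := by
  rcases m with l | j
  · show MvPolynomial.pderiv l (MvPolynomial.C a) = 0
    exact MvPolynomial.pderiv_C
  · show coeffMap (δ j) (MvPolynomial.C a) = 0
    rw [coeffMap_C, ha j, map_zero]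

theorem det_polyE_polyX [Fintype J] [DecidableEq J] (hδ : ∀ j, IsLeibniz (δ j)) :
    Matrix.det (Matrix.of fun m m' => polyE s δ m (polyX s u m')) =
      MvPolynomial.C (Matrix.det (Matrix.of fun l j => δ l (u j))) := by
  have h1 : (Matrix.of fun m m' => polyE s δ m (polyX s u m')) =
      Matrix.fromBlocks (1 : Matrix (Fin s) (Fin s) (MvPolynomial (Fin s) R₀)) 0 0
        ((MvPolynomial.C : R₀ →+* MvPolynomial (Fin s) R₀).mapMatrix
          (Matrix.of fun l j => δ l (u j))) := by
    apply Matrix.ext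
    rintro (l | j) (l' | j')
    · show MvPolynomial.pderiv l (MvPolynomial.X l') = _
      rw [MvPolynomial.pderiv_X (R := R₀), Matrix.fromBlocks_apply₁₁, Matrix.one_apply,
        Pi.single_apply]
      by_cases h : l = l'
      · rw [if_pos h, if_pos h.symm]
      · rw [if_neg h, if_neg (Ne.symm h)]
    · show MvPolynomial.pderiv l (MvPolynomial.C (u j')) = _
      rw [MvPolynomial.pderiv_C, Matrix.fromBlocks_apply₁₂]
      rfl
    · show coeffMap (δ j) (MvPolynomial.X l') = _
      rw [coeffMap_X (hδ j), Matrix.fromBlocks_apply₂₁]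
      rfl
    · show coeffMap (δ j) (MvPolynomial.C (u j')) = _
      rw [coeffMap_C, Matrix.fromBlocks_apply₂₂]
      rfl
  rw [h1, Matrix.det_fromBlocks_zero₂₁, Matrix.det_one, one_mul, ← RingHom.map_det]

end N6b

section N6c

/-- the kernel of a presentation of a finite torsion-free algebra over a Noetherian local ring
by `s` polynomial variables has height at most `s`. -/
theorem height_ker_le (R₀ D : Type u) [CommRing R₀] [IsNoetherianRing R₀] [IsLocalRing R₀]
    [CommRing D] [IsDomain D] [Algebra R₀ D] [Module.Finite R₀ D]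
    (hinj : Function.Injective (algebraMap R₀ D)) (s : ℕ)
    (φ : MvPolynomial (Fin s) R₀ →ₐ[R₀] D) (hφ : Function.Surjective φ) :
    (RingHom.ker φ.toRingHom).height ≤ s := by
  haveI : (RingHom.ker φ.toRingHom).IsPrime := RingHom.ker_isPrime _
  have h1 := Groth.Agent.H8.J2.height_add_ringKrullDim_quotient_le (RingHom.ker φ.toRingHom)
  have h2 : ringKrullDim (MvPolynomial (Fin s) R₀ ⧸ RingHom.ker φ.toRingHom) = ringKrullDim D :=
    ringKrullDim_eq_of_ringEquiv (RingHom.quotientKerEquivOfSurjective (f := φ.toRingHom) hφ)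
  haveI : Algebra.IsIntegral R₀ D := Algebra.IsIntegral.of_finite _ _
  have h3 : ringKrullDim D = ringKrullDim R₀ :=
    Groth.Agent.H2.DimFG.ringKrullDim_eq_of_integral_injective R₀ D hinj
  have h4 : ringKrullDim (MvPolynomial (Fin s) R₀) = ringKrullDim R₀ + s := by
    rw [MvPolynomial.ringKrullDim_of_isNoetherianRing, Nat.card_fin]
  have hne_top : ringKrullDim R₀ ≠ ⊤ := ringKrullDim_ne_top
  have hne_bot : ringKrullDim R₀ ≠ ⊥ := ringKrullDim_ne_bot
  obtain ⟨d, hd⟩ : ∃ d : ℕ, ringKrullDim R₀ = d := by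
    cases hh : ringKrullDim R₀ with
    | bot => exact absurd hh hne_bot
    | coe x =>
      cases x with
      | top => exact absurd hh hne_top
      | coe d => exact ⟨d, rfl⟩
  rw [h2, h3, h4, hd] at h1
  have h5 : ((RingHom.ker φ.toRingHom).height + (d : ℕ∞) : ℕ∞) ≤ ((d : ℕ∞) + (s : ℕ∞) : ℕ∞) := by
    exact_mod_cast h1
  rw [add_comm (d : ℕ∞) (s : ℕ∞)] at h5
  exact (ENat.add_le_add_iff_right (ENat.coe_ne_top d)).mp h5

end N6c

section N6d

attribute [local instance] FractionRing.liftAlgebra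

set_option maxHeartbeats 1000000 in
/-- **generic regularity in characteristic `p`** (Nagata): a domain finite and torsion-free over
a regular local ring `R₀` of characteristic `p`, whose fraction field has its `p`-th powers cut out
by a directed family of subrings over which `R₀` is finite, is regular on a nonempty open set. -/
theorem exists_regOn_of_family
    (R₀ : Type u) [CommRing R₀] [IsDomain R₀] [IsRegularLocalRing R₀] (p : ℕ) [hpp : Fact p.Prime]
    [CharP R₀ p] {I : Type*} [Nonempty I] (S : I → Subring R₀)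
    (hdir : ∀ a b, ∃ c, S c ≤ S a ⊓ S b) (hfin : ∀ i, Module.Finite (↥(S i)) R₀)
    (hInt : (⨅ i, (Subfield.closure ((algebraMap R₀ (FractionRing R₀)) '' (S i : Set R₀)) :
      Set (FractionRing R₀))) = Set.range (fun x : FractionRing R₀ => x ^ p))
    (D : Type u) [CommRing D] [IsDomain D] [Algebra R₀ D] [Module.Finite R₀ D]
    (hinj : Function.Injective (algebraMap R₀ D)) :
    ∃ g : D, g ≠ 0 ∧ Groth.Agent.H8.J2.RegOn D g := by
  classical
  -- fields
  haveI : FaithfulSMul R₀ D := (faithfulSMul_iff_algebraMap_injective R₀ D).mpr hinj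
  haveI : Module.IsTorsionFree R₀ D := inferInstance
  haveI : FiniteDimensional (FractionRing R₀) (FractionRing D) := inferInstance
  haveI : IsScalarTower R₀ (FractionRing R₀) (FractionRing D) := inferInstance
  have hinjL : Function.Injective (algebraMap R₀ (FractionRing D)) := by
    rw [IsScalarTower.algebraMap_eq R₀ D (FractionRing D)]
    exact (IsFractionRing.injective D (FractionRing D)).comp hinj
  haveI : CharP (FractionRing D) p := charP_of_injective_ringHom hinjL p
  -- choice of the member of the family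
  obtain ⟨i, hfinDer, hle⟩ := exists_finrank_derivation_le p (FractionRing R₀) (FractionRing D) S
    hdir hfin (iInf_closure_transfer (FractionRing R₀) (FractionRing R₀) p S hInt)
  set κ : Subfield (FractionRing R₀) :=
    Subfield.closure ((algebraMap R₀ (FractionRing R₀)) '' (S i : Set R₀)) with hκ
  haveI := hfin i
  haveI : FiniteDimensional (↥κ) (FractionRing R₀) :=
    finiteDimensional_closure (K := FractionRing R₀) (S i)
  obtain ⟨J, hJ, u, huLI, hcardJ⟩ := exists_differential_basis (R₀ := R₀) κ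
  obtain ⟨δ, hδL, hδS, hδdet⟩ := exists_leibniz_det_ne_zero (K := FractionRing R₀) (S i) u huLI
  -- presentation of `D`
  obtain ⟨s, y, hy⟩ := Module.Finite.exists_fin (R := R₀) (M := D)
  let φ : MvPolynomial (Fin s) R₀ →ₐ[R₀] D := MvPolynomial.aeval y
  have hφ : Function.Surjective φ := by
    intro d
    have hd : d ∈ Submodule.span R₀ (Set.range y) := hy ▸ Submodule.mem_top
    obtain ⟨c, rfl⟩ := (Submodule.mem_span_range_iff_exists_fun R₀).mp hd
    refine ⟨∑ t, MvPolynomial.C (c t) * MvPolynomial.X t, ?_⟩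
    rw [map_sum]
    refine Finset.sum_congr rfl fun t _ => ?_
    rw [map_mul, MvPolynomial.aeval_C, MvPolynomial.aeval_X, Algebra.smul_def]
  letI algAD : Algebra (MvPolynomial (Fin s) R₀) D := φ.toRingHom.toAlgebra
  haveI : IsScalarTower R₀ (MvPolynomial (Fin s) R₀) D :=
    IsScalarTower.of_algebraMap_eq (fun r => (φ.commutes r).symm)
  haveI : IsScalarTower (MvPolynomial (Fin s) R₀) D (FractionRing D) := inferInstance
  have hAL : ∀ c : R₀, algebraMap (MvPolynomial (Fin s) R₀) (FractionRing D) (MvPolynomial.C c) =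
      algebraMap R₀ (FractionRing D) c := by
    intro c
    rw [IsScalarTower.algebraMap_apply (MvPolynomial (Fin s) R₀) D (FractionRing D)]
    show algebraMap D (FractionRing D) (φ (MvPolynomial.C c)) = _
    rw [MvPolynomial.aeval_C, ← IsScalarTower.algebraMap_apply R₀ D (FractionRing D)]
  -- the Leibniz maps
  have hE := isLeibniz_polyE s δ hδL
  let Z : Set (MvPolynomial (Fin s) R₀) := MvPolynomial.C '' (S i : Set R₀)
  have hZ : ∀ m, ∀ z ∈ Z, polyE s δ m z = 0 := by
    rintro m _ ⟨a, ha, rfl⟩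
    exact polyE_C s δ m a (fun j => hδS j a ha)
  have hx : algebraMap (MvPolynomial (Fin s) R₀) (FractionRing D)
      (Matrix.det (Matrix.of fun m m' => polyE s δ m (polyX s u m'))) ≠ 0 := by
    rw [det_polyE_polyX s δ u hδL, hAL]
    intro h0
    exact hδdet (hinjL (h0.trans (map_zero _).symm))
  have himage : (algebraMap (MvPolynomial (Fin s) R₀) (FractionRing D)) '' Z =
      (algebraMap R₀ (FractionRing D)) '' (S i : Set R₀) := by
    ext z
    constructor
    · rintro ⟨_, ⟨a, ha, rfl⟩, rfl⟩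
      exact ⟨a, ha, (hAL a).symm⟩
    · rintro ⟨a, ha, rfl⟩
      exact ⟨_, ⟨a, ha, rfl⟩, hAL a⟩
  have hcard : s + Module.finrank (FractionRing R₀) (Ω[FractionRing R₀⁄↥κ]) ≤
      Fintype.card (Fin s ⊕ J) := by
    rw [Fintype.card_sum, Fintype.card_fin, hcardJ]
  rw [← himage] at hfinDer hle
  haveI := hfinDer
  obtain ⟨f, σ, hf0, hfdet⟩ := exists_minor_not_mem p (D := D) (L := FractionRing D)
    (show Function.Surjective (algebraMap (MvPolynomial (Fin s) R₀) D) from hφ)
    (polyE s δ) hE Z hZ (polyX s u) hx _ s hcard hle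
  -- the kernel and the Jacobian criterion
  haveI hqprime : (RingHom.ker φ.toRingHom).IsPrime := RingHom.ker_isPrime _
  have hfq : ∀ j, f j ∈ RingHom.ker φ.toRingHom := fun j => hf0 j
  let E' : Fin s → Derivation ℤ (MvPolynomial (Fin s) R₀) (MvPolynomial (Fin s) R₀) := fun i' =>
    Derivation.mk' (polyE s δ (σ i')).toIntLinearMap (fun a c => by
      show polyE s δ (σ i') (a * c) = a • polyE s δ (σ i') c + c • polyE s δ (σ i') a
      rw [hE (σ i') a c, smul_eq_mul, smul_eq_mul])
  have hdet : Matrix.det (Matrix.of fun i' j => E' i' (f j)) ∉ RingHom.ker φ.toRingHom := by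
    intro hmem
    apply hfdet
    rw [IsScalarTower.algebraMap_apply (MvPolynomial (Fin s) R₀) D (FractionRing D)]
    have h0 : algebraMap (MvPolynomial (Fin s) R₀) D
        (Matrix.det (Matrix.of fun i' j => polyE s δ (σ i') (f j))) = 0 := hmem
    rw [h0, map_zero]
  haveI : IsRegularRing R₀ := H5.NG.isRegularRing_of_isRegularLocalRing R₀
  haveI : Algebra.Smooth R₀ (MvPolynomial (Fin s) R₀) := ⟨inferInstance, inferInstance⟩
  haveI : IsRegularRing (MvPolynomial (Fin s) R₀) :=
    Groth.Agent.H5.RegHom.isRegularRing_of_smooth R₀ (MvPolynomial (Fin s) R₀)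
  have hht := height_ker_le R₀ D hinj s φ hφ
  obtain ⟨g₀, hg₀, hreg⟩ := exists_regOn_quotient_of_jacobian (RingHom.ker φ.toRingHom) s hht f
    hfq E' hdet
  let e : (MvPolynomial (Fin s) R₀ ⧸ RingHom.ker φ.toRingHom) ≃+* D :=
    RingHom.quotientKerEquivOfSurjective (f := φ.toRingHom) hφ
  refine ⟨e (Ideal.Quotient.mk _ g₀), ?_, ?_⟩
  · intro h0
    apply hg₀
    have h1 : Ideal.Quotient.mk (RingHom.ker φ.toRingHom) g₀ = 0 :=
      e.injective (h0.trans (map_zero e).symm)
    exact Ideal.Quotient.eq_zero_iff_mem.mp h1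
  · exact (Groth.Agent.H8.J2.regOn_iff _ _).mpr
      (Groth.Agent.H8.J2.RingProp.on_of_ringEquiv Groth.Agent.H8.J2.regProp e _
        ((Groth.Agent.H8.J2.regOn_iff _ _).mp hreg))

end N6d

end Groth.Agent.H5.GRC
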