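import Mathlib
import Groth.Prelude
import Groth.Agent.Lib.Helper5.CD.N6
import Groth.Agent.Lib.Helper5.CD.K9
import Groth.Agent.Lib.Helper8.J2.J5
import Groth.Agent.Lib.Helper8.J2.J9
import Groth.Agent.Lib.Helper5.CA.FinCL
import Groth.Agent.Lib.Helper3.CA.ICComplete

set_option autoImplicit false
universe u

open IsLocalRing

namespace Groth.Agent.H5.GRC

section N8a

attribute [local instance] FractionRing.liftAlgebra

/-- generic regularity for finite torsion-free domains over a regular local ring of
characteristic zero. -/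
theorem exists_regOn_of_charZero (R₀ D : Type u) [CommRing R₀] [IsDomain R₀]
    [IsRegularLocalRing R₀] [CharZero R₀] [CommRing D] [IsDomain D] [Algebra R₀ D]
    [Module.Finite R₀ D] (hinj : Function.Injective (algebraMap R₀ D)) :
    ∃ g : D, g ≠ 0 ∧ Groth.Agent.H8.J2.RegOn D g := by
  haveI : FaithfulSMul R₀ D := (faithfulSMul_iff_algebraMap_injective R₀ D).mpr hinj
  haveI : Module.IsTorsionFree R₀ D := inferInstance
  haveI : FiniteDimensional (FractionRing R₀) (FractionRing D) := inferInstance
  haveI : IsScalarTower R₀ (FractionRing R₀) (FractionRing D) := inferInstance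
  haveI : CharZero (FractionRing R₀) :=
    charZero_of_injective_algebraMap (IsFractionRing.injective R₀ (FractionRing R₀))
  haveI : Algebra.IsSeparable (FractionRing R₀) (FractionRing D) := inferInstance
  haveI : Algebra.FormallyEtale (FractionRing R₀) (FractionRing D) :=
    Algebra.FormallyEtale.of_isSeparable _ _
  haveI h1 : Algebra.FormallyEtale R₀ (FractionRing R₀) :=
    Algebra.FormallyEtale.of_isLocalization (nonZeroDivisors R₀)
  haveI h2 : Algebra.FormallySmooth R₀ (FractionRing R₀) :=
    Algebra.FormallySmooth.of_isLocalization (nonZeroDivisors R₀)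
  haveI h3 : Algebra.FormallySmooth (FractionRing R₀) (FractionRing D) :=
    ((Algebra.FormallyEtale.iff_formallyUnramified_and_formallySmooth
      (R := FractionRing R₀) (A := FractionRing D)).mp inferInstance).2
  haveI : Algebra.FormallySmooth R₀ (FractionRing D) :=
    Algebra.FormallySmooth.comp R₀ (FractionRing R₀) (FractionRing D)
  haveI : Algebra.FiniteType R₀ D := inferInstance
  refine Groth.Agent.H8.J2.exists_regOn_of_formallySmooth R₀ D (FractionRing D) 1 ?_ ?_
  · rw [map_one]; exact one_ne_zero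
  · intro Q _ _
    exact Groth.Agent.H1.Reg.isRegularLocalRing_localization R₀ Q

end N8a

section N8b

/-- **generic regularity of complete local domains**: a complete Noetherian local domain is
regular on a nonempty basic open set. -/
theorem exists_regOn_complete_domain (A : Type u) [CommRing A] [IsDomain A] [IsLocalRing A]
    [IsNoetherianRing A] [IsAdicComplete (maximalIdeal A) A] :
    ∃ g : A, g ≠ 0 ∧ Groth.Agent.H8.J2.RegOn A g := by
  obtain ⟨Λ, instΛ, n, f, hΛ, hinj, hfin, -⟩ := Groth.Agent.H5.NN.cohen_structure_domain A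
  rcases hΛ with hΛ | hΛ
  · -- field case
    letI instF : Field Λ := hΛ.toField
    letI : Algebra (MvPowerSeries (Fin n) Λ) A := f.toAlgebra
    haveI : Module.Finite (MvPowerSeries (Fin n) Λ) A := hfin
    haveI : IsDomain (MvPowerSeries (Fin n) Λ) := NoZeroDivisors.to_isDomain _
    haveI : IsRegularLocalRing (MvPowerSeries (Fin n) Λ) :=
      Groth.Agent.H6.PSCot.isRegularLocalRing_mvPowerSeries n
    obtain ⟨p, hp⟩ := CharP.exists Λ
    rcases CharP.char_is_prime_or_zero Λ p with hpp | rfl
    · haveI := hp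
      haveI : Fact p.Prime := ⟨hpp⟩
      haveI : CharP (MvPowerSeries (Fin n) Λ) p :=
        charP_of_injective_algebraMap (algebraMap Λ (MvPowerSeries (Fin n) Λ)).injective p
      obtain ⟨ι, hne, S, hdir, hS, hInt⟩ := Groth.Agent.H9.PBS3.main Λ p n
      exact exists_regOn_of_family (MvPowerSeries (Fin n) Λ) p S hdir (fun i => (hS i).2.2) hInt
        A hinj
    · haveI := hp
      haveI : CharZero Λ := CharP.charP_to_charZero Λ
      haveI : CharZero (MvPowerSeries (Fin n) Λ) :=
        charZero_of_injective_algebraMap (algebraMap Λ (MvPowerSeries (Fin n) Λ)).injective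
      exact exists_regOn_of_charZero (MvPowerSeries (Fin n) Λ) A hinj
  · -- Cohen ring case
    haveI : CharZero Λ := charZero_of_isCohenRing Λ hΛ
    obtain ⟨hdom, hdvr, -, p, hp, hm⟩ := hΛ
    letI : Algebra (MvPowerSeries (Fin n) Λ) A := f.toAlgebra
    haveI : Module.Finite (MvPowerSeries (Fin n) Λ) A := hfin
    haveI : IsDomain (MvPowerSeries (Fin n) Λ) := NoZeroDivisors.to_isDomain _
    haveI : IsRegularLocalRing (MvPowerSeries (Fin n) Λ) :=
      Groth.Agent.H5.CF.isRegularLocalRing_mvPowerSeries_dvr Λ hm n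
    haveI : CharZero (MvPowerSeries (Fin n) Λ) :=
      charZero_of_injective_algebraMap (R := Λ) (MvPowerSeries.C_injective (σ := Fin n) (R := Λ))
    exact exists_regOn_of_charZero (MvPowerSeries (Fin n) Λ) A hinj

end N8b

section N8c
variable (A : Type u) [CommRing A] [IsLocalRing A] [IsNoetherianRing A]
  [IsAdicComplete (maximalIdeal A) A]

/-- a domain finite over a complete Noetherian local ring is local. -/
theorem isLocalRing_of_finite_domain (A' : Type u) [CommRing A'] [IsDomain A'] [Algebra A A']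
    [Module.Finite A A'] : IsLocalRing A' := by
  classical
  obtain ⟨-, hbij, -⟩ := Groth.Agent.H5.FinCL.finite_over_complete A A'
  obtain ⟨m₀, hm₀⟩ := Ideal.exists_maximal A'
  refine IsLocalRing.of_unique_max_ideal ⟨m₀, hm₀, fun m hm => ?_⟩
  by_contra hne
  let M₀ : MaximalSpectrum A' := ⟨m₀, hm₀⟩
  let M₁ : MaximalSpectrum A' := ⟨m, hm⟩
  have hM : M₁ ≠ M₀ := fun h => hne (congrArg MaximalSpectrum.asIdeal h)
  obtain ⟨a₀, ha₀⟩ := hbij.2 (Pi.single M₀ 1)
  obtain ⟨a₁, ha₁⟩ := hbij.2 (Pi.single M₁ 1)
  have hprod : a₀ * a₁ = 0 := by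
    apply hbij.1
    rw [map_mul, ha₀, ha₁, map_zero]
    funext x
    rw [Pi.mul_apply, Pi.zero_apply]
    by_cases hx : x = M₀
    · subst hx
      rw [Pi.single_eq_of_ne (Ne.symm hM), mul_zero]
    · rw [Pi.single_eq_of_ne hx, zero_mul]
  have h0 : a₀ ≠ 0 := by
    intro h
    have h1 := congrFun ha₀ M₀
    rw [h, map_zero, Pi.zero_apply, Pi.single_eq_same] at h1
    exact zero_ne_one h1
  have h1 : a₁ ≠ 0 := by
    intro h
    have h2 := congrFun ha₁ M₁
    rw [h, map_zero, Pi.zero_apply, Pi.single_eq_same] at h2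
    exact zero_ne_one h2
  exact (mul_ne_zero h0 h1) hprod

/-- a complete Noetherian local ring satisfies `J0Fin`. -/
theorem j0Fin_complete : Groth.Agent.H8.J2.J0Fin A := by
  intro A' _ _ _ hfin
  haveI : Module.Finite A A' := hfin
  haveI : IsLocalRing A' := isLocalRing_of_finite_domain A A'
  haveI : IsNoetherianRing A' := IsNoetherianRing.of_finite A A'
  haveI : IsAdicComplete (maximalIdeal A') A' :=
    Groth.Agent.H3.ICCompl.isAdicComplete_of_finite_local A A'
  obtain ⟨g, hg0, hg⟩ := exists_regOn_complete_domain A'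
  refine ⟨PrimeSpectrum.basicOpen g, (PrimeSpectrum.basicOpen g).isOpen, ?_, ?_⟩
  · refine ⟨⟨⊥, Ideal.isPrime_bot⟩, ?_⟩
    show g ∉ (⊥ : Ideal A')
    rw [Ideal.mem_bot]
    exact hg0
  · rintro ⟨Q, hQ⟩ hgQ
    exact hg Q hgQ

/-- **a complete Noetherian local ring is J-2**. -/
theorem isJ2_complete : EGA4.IsJ2 A :=
  Groth.Agent.H8.J2.isJ2_of_j0Fin A (j0Fin_complete A)

end N8c

end Groth.Agent.H5.GRC
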