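import Mathlib
import Groth.Prelude
import Groth.Agent.Lib.Helper5.CD.N3

set_option autoImplicit false
universe u

namespace Groth.Agent.H5.GRC

/-- a directed family of subfields cutting out the `p`-th powers. -/
structure IsPFamily (p : ℕ) {K : Type*} [Field K] {I : Type*} (κ : I → Subfield K) : Prop where
  dir : ∀ a b, ∃ c, κ c ≤ κ a ⊓ κ b
  inf : ((⨅ i, κ i : Subfield K) : Set K) = Set.range (fun y : K => y ^ p)

/-- the family induced on an extension: generated by the images and the `p`-th powers. -/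
def extFam (p : ℕ) {K : Type*} [Field K] {I : Type*} (κ : I → Subfield K) (L : Type*) [Field L]
    [Algebra K L] : I → Subfield L :=
  fun i => Subfield.closure ((algebraMap K L) '' (κ i : Set K) ∪ Set.range (fun y : L => y ^ p))

section basic
variable (p : ℕ) {K : Type*} [Field K] {I : Type*} (κ : I → Subfield K) (L : Type*) [Field L]
  [Algebra K L]

theorem pow_mem_extFam (i : I) (y : L) : y ^ p ∈ extFam p κ L i :=
  Subfield.subset_closure (Or.inr ⟨y, rfl⟩)

theorem algebraMap_mem_extFam (i : I) (c : K) (hc : c ∈ κ i) : algebraMap K L c ∈ extFam p κ L i :=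
  Subfield.subset_closure (Or.inl ⟨c, hc, rfl⟩)

theorem extFam_mono {a b : I} (h : κ a ≤ κ b) : extFam p κ L a ≤ extFam p κ L b := by
  apply Subfield.closure_mono
  apply Set.union_subset_union_left
  apply Set.image_mono
  exact h

theorem extFam_dir (hdir : ∀ a b, ∃ c, κ c ≤ κ a ⊓ κ b) :
    ∀ a b, ∃ c, extFam p κ L c ≤ extFam p κ L a ⊓ extFam p κ L b := by
  intro a b
  obtain ⟨c, hc⟩ := hdir a b
  exact ⟨c, le_inf (extFam_mono p κ L (hc.trans inf_le_left))
    (extFam_mono p κ L (hc.trans inf_le_right))⟩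

theorem IsPFamily.pow_mem {p : ℕ} {K : Type*} [Field K] {I : Type*} {κ : I → Subfield K}
    (h : IsPFamily p κ) (i : I) (y : K) : y ^ p ∈ κ i := by
  have h1 : y ^ p ∈ ((⨅ i, κ i : Subfield K) : Set K) := by
    rw [h.inf]; exact ⟨y, rfl⟩
  exact (Subfield.mem_iInf.mp h1) i

theorem subfield_smul_def {K : Type*} [Field K] (κ₀ : Subfield K) {L : Type*} [Field L]
    [Algebra K L] (c : ↥κ₀) (x : L) : c • x = algebraMap K L (c : K) * x := by
  rw [Algebra.smul_def]; rfl

end basic

section alg
variable (p : ℕ) [hpp : Fact p.Prime] {K L : Type u} [Field K] [Field L] [Algebra K L]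
  [FiniteDimensional K L] [CharP L p] {I : Type*} [Nonempty I] (κ : I → Subfield K)

/-- **finite extensions**: the induced family on a finite extension again cuts out the `p`-th
powers. -/
theorem isPFamily_extFam_of_finite (hκ : IsPFamily p κ) : IsPFamily p (extFam p κ L) := by
  classical
  refine ⟨extFam_dir p κ L hκ.dir, ?_⟩
  apply Set.Subset.antisymm
  swap
  · rintro _ ⟨y, rfl⟩
    rw [SetLike.mem_coe, Subfield.mem_iInf]
    exact fun i => pow_mem_extFam p κ L i y
  intro u hu
  rw [SetLike.mem_coe, Subfield.mem_iInf] at hu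
  haveI : CharP K p := (algebraMap K L).charP (algebraMap K L).injective p
  let e := Module.finBasis K L
  obtain ⟨J₀, hJ₀⟩ := exists_linearIndependent_pow p κ hκ.dir hκ.inf e e.linearIndependent
  -- structure constants
  have hspanL : ∀ y : L, ∃ d : Fin (Module.finrank K L) → K, y = ∑ i, d i • e i := by
    intro y
    exact ⟨fun i => e.repr y i, (e.sum_repr y).symm⟩
  have hpowL : ∀ (J : I) (y : L), ∃ c : Fin (Module.finrank K L) → ↥(κ J),
      y ^ p = ∑ i, c i • e i ^ p := by
    intro J y
    obtain ⟨d, rfl⟩ := hspanL y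
    refine ⟨fun i => ⟨d i ^ p, hκ.pow_mem J (d i)⟩, ?_⟩
    rw [sum_pow_char]
    refine Finset.sum_congr rfl fun i _ => ?_
    rw [subfield_smul_def]
    show (d i • e i) ^ p = algebraMap K L (d i ^ p) * e i ^ p
    rw [Algebra.smul_def, mul_pow, map_pow]
  -- every element of the induced field is a combination of the `e i ^ p`
  have hmem : ∀ (J : I) (y : L), y ∈ extFam p κ L J →
      ∃ c : Fin (Module.finrank K L) → ↥(κ J), y = ∑ i, c i • e i ^ p := by
    intro J y hy
    -- the set of combinations is closed under the field operations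
    have hadd : ∀ y z : L, (∃ c : Fin (Module.finrank K L) → ↥(κ J), y = ∑ i, c i • e i ^ p) →
        (∃ c : Fin (Module.finrank K L) → ↥(κ J), z = ∑ i, c i • e i ^ p) →
        ∃ c : Fin (Module.finrank K L) → ↥(κ J), y + z = ∑ i, c i • e i ^ p := by
      rintro _ _ ⟨c, rfl⟩ ⟨c', rfl⟩
      exact ⟨c + c', by simp only [Pi.add_apply, add_smul, Finset.sum_add_distrib]⟩
    have hsmul : ∀ (t : ↥(κ J)) (y : L),
        (∃ c : Fin (Module.finrank K L) → ↥(κ J), y = ∑ i, c i • e i ^ p) →
        ∃ c : Fin (Module.finrank K L) → ↥(κ J), t • y = ∑ i, c i • e i ^ p := by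
      rintro t _ ⟨c, rfl⟩
      exact ⟨fun i => t * c i, by simp only [Finset.smul_sum, mul_smul]⟩
    have hsum : ∀ (s : Finset (Fin (Module.finrank K L))) (g : Fin (Module.finrank K L) → L),
        (∀ i, ∃ c : Fin (Module.finrank K L) → ↥(κ J), g i = ∑ i, c i • e i ^ p) →
        ∃ c : Fin (Module.finrank K L) → ↥(κ J), ∑ i ∈ s, g i = ∑ i, c i • e i ^ p := by
      intro s g hg
      induction s using Finset.induction_on with
      | empty => exact ⟨0, by simp⟩
      | insert a s ha ih =>
        rw [Finset.sum_insert ha]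
        exact hadd _ _ (hg a) ih
    have hmul : ∀ y z : L, (∃ c : Fin (Module.finrank K L) → ↥(κ J), y = ∑ i, c i • e i ^ p) →
        (∃ c : Fin (Module.finrank K L) → ↥(κ J), z = ∑ i, c i • e i ^ p) →
        ∃ c : Fin (Module.finrank K L) → ↥(κ J), y * z = ∑ i, c i • e i ^ p := by
      rintro _ _ ⟨c, rfl⟩ ⟨c', rfl⟩
      rw [Finset.sum_mul]
      apply hsum
      intro i
      rw [Finset.mul_sum]
      apply hsum
      intro j
      have h1 : c i • e i ^ p * c' j • e j ^ p = (c i * c' j) • (e i * e j) ^ p := by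
        rw [mul_pow, Algebra.smul_def, Algebra.smul_def, Algebra.smul_def, map_mul]
        ring
      rw [h1]
      exact hsmul _ _ (hpowL J _)
    refine Subfield.closure_induction (p := fun y _ =>
      ∃ c : Fin (Module.finrank K L) → ↥(κ J), y = ∑ i, c i • e i ^ p) ?_ ?_ ?_ ?_ ?_ ?_ hy
    · rintro y (⟨c, hc, rfl⟩ | ⟨z, rfl⟩)
      · have h1 := hsmul ⟨c, hc⟩ 1 (by
          have := hpowL J 1
          rwa [one_pow] at this)
        obtain ⟨c', hc'⟩ := h1
        refine ⟨c', ?_⟩
        rw [← hc', subfield_smul_def]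
        show algebraMap K L c = algebraMap K L c * 1
        rw [mul_one]
      · exact hpowL J z
    · have := hpowL J 1
      rwa [one_pow] at this
    · intro y z _ _ hy hz
      exact hadd y z hy hz
    · rintro y _ ⟨c, rfl⟩
      exact ⟨-c, by simp only [Pi.neg_apply, neg_smul, Finset.sum_neg_distrib]⟩
    · intro y _ hy
      by_cases hy0 : y = 0
      · rw [hy0, inv_zero]
        exact ⟨0, by simp⟩
      · -- `y⁻¹ = y ^ (p - 1) * (y⁻¹) ^ p`
        have h1 : y⁻¹ = y ^ (p - 1) * (y⁻¹) ^ p := by
          have hp1 : p = (p - 1) + 1 := (Nat.succ_pred_eq_of_pos hpp.out.pos).symm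
          rw [inv_pow]
          field_simp
          rw [← pow_succ', ← hp1]
        rw [h1]
        refine hmul _ _ ?_ (hpowL J _)
        have hpowk : ∀ n : ℕ, ∃ c : Fin (Module.finrank K L) → ↥(κ J),
            y ^ n = ∑ i, c i • e i ^ p := by
          intro n
          induction n with
          | zero =>
            have := hpowL J 1
            rwa [one_pow, ← pow_zero y] at this
          | succ n ih =>
            rw [pow_succ]
            exact hmul _ _ ih hy
        exact hpowk _
    · intro y z _ _ hy hz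
      exact hmul y z hy hz
  -- the coefficients are independent of the member
  obtain ⟨c₀, hc₀⟩ := hmem J₀ u (hu J₀)
  have hcoef : ∀ i, ∀ J, ((c₀ i : ↥(κ J₀)) : K) ∈ κ J := by
    intro i J
    obtain ⟨J', hJ'⟩ := hκ.dir J J₀
    obtain ⟨c', hc'⟩ := hmem J' u (hu J')
    have hle : κ J' ≤ κ J₀ := hJ'.trans inf_le_right
    have h2 : ∑ i, (c₀ i - ⟨(c' i : K), hle (c' i).2⟩ : ↥(κ J₀)) • e i ^ p = 0 := by
      simp only [sub_smul, Finset.sum_sub_distrib]
      rw [← hc₀]
      have : ∑ i, (⟨(c' i : K), hle (c' i).2⟩ : ↥(κ J₀)) • e i ^ p = u := by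
        rw [hc']
        rfl
      rw [this, sub_self]
    have h3 := Fintype.linearIndependent_iff.mp hJ₀ _ h2 i
    have h4 : (c₀ i : K) = (c' i : K) := by
      have := congrArg Subtype.val h3
      simpa [sub_eq_zero] using this
    rw [h4]
    exact (hJ'.trans inf_le_left) (c' i).2
  have hcoef' : ∀ i, ∃ d : K, d ^ p = (c₀ i : K) := by
    intro i
    have h1 : ((c₀ i : ↥(κ J₀)) : K) ∈ ((⨅ i, κ i : Subfield K) : Set K) := by
      rw [SetLike.mem_coe, Subfield.mem_iInf]
      exact hcoef i
    rw [hκ.inf] at h1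
    exact h1
  choose d hd using hcoef'
  refine ⟨∑ i, d i • e i, ?_⟩
  show (∑ i, d i • e i) ^ p = u
  rw [sum_pow_char, hc₀]
  refine Finset.sum_congr rfl fun i _ => ?_
  rw [subfield_smul_def]
  show (d i • e i) ^ p = algebraMap K L (c₀ i : K) * e i ^ p
  rw [Algebra.smul_def, mul_pow, ← map_pow, hd]

end alg

end Groth.Agent.H5.GRC
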