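import Mathlib
import Groth.Prelude
import Groth.Agent.Lib.Helper5.CD.P1

set_option autoImplicit false
universe u

open Polynomial

namespace Groth.Agent.H5.GRC

section frac
variable {F : Type*} [Field F]

/-- reduced monic representation of a fraction of polynomials. -/
theorem exists_reduced_monic (r s : F[X]) (hs : s ≠ 0) :
    ∃ r' s' : F[X], IsCoprime r' s' ∧ s'.Monic ∧ r * s' = r' * s := by
  classical
  set g := EuclideanDomain.gcd r s with hg
  have hg0 : g ≠ 0 := by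
    intro h0
    rw [hg, EuclideanDomain.gcd_eq_zero_iff] at h0
    exact hs h0.2
  obtain ⟨r₁, hr₁⟩ := EuclideanDomain.gcd_dvd_left r s
  obtain ⟨s₁, hs₁⟩ := EuclideanDomain.gcd_dvd_right r s
  rw [← hg] at hr₁ hs₁
  have hbez := EuclideanDomain.gcd_eq_gcd_ab r s
  rw [← hg] at hbez
  have hcop : IsCoprime r₁ s₁ := by
    obtain ⟨x, hx⟩ : ∃ x, x = EuclideanDomain.gcdA r s := ⟨_, rfl⟩
    obtain ⟨y, hy⟩ : ∃ y, y = EuclideanDomain.gcdB r s := ⟨_, rfl⟩
    rw [← hx, ← hy] at hbez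
    refine ⟨x, y, ?_⟩
    apply mul_left_cancel₀ hg0
    rw [mul_one]
    have h1 : g = g * r₁ * x + g * s₁ * y := by
      rw [← hr₁, ← hs₁]; exact hbez
    calc g * (x * r₁ + y * s₁) = g * r₁ * x + g * s₁ * y := by ring
      _ = g := h1.symm
  have hs₁0 : s₁ ≠ 0 := by
    rintro rfl
    rw [mul_zero] at hs₁
    exact hs hs₁
  have hl : s₁.leadingCoeff ≠ 0 := leadingCoeff_ne_zero.mpr hs₁0
  have hu : IsUnit (C (s₁.leadingCoeff)⁻¹ : F[X]) :=
    Polynomial.isUnit_C.mpr (IsUnit.mk0 _ (inv_ne_zero hl))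
  refine ⟨r₁ * C (s₁.leadingCoeff)⁻¹, s₁ * C (s₁.leadingCoeff)⁻¹, ?_,
    monic_mul_leadingCoeff_inv hs₁0, ?_⟩
  · rw [isCoprime_mul_unit_right_left hu, isCoprime_mul_unit_right_right hu]
    exact hcop
  · rw [hr₁, hs₁]; ring

/-- uniqueness of the reduced monic representation. -/
theorem reduced_unique (a c a' c' : F[X]) (h : IsCoprime a c) (h' : IsCoprime a' c')
    (hc : c.Monic) (hc' : c'.Monic) (heq : a * c' = a' * c) : a = a' ∧ c = c' := by
  have h1 : c ∣ c' := by
    apply h.symm.dvd_of_dvd_mul_left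
    exact ⟨a', by rw [heq]; ring⟩
  have h2 : c' ∣ c := by
    apply h'.symm.dvd_of_dvd_mul_left
    exact ⟨a, by rw [← heq]; ring⟩
  have hcc : c = c' := eq_of_monic_of_associated hc hc' (associated_of_dvd_dvd h1 h2)
  refine ⟨?_, hcc⟩
  subst hcc
  exact mul_right_cancel₀ hc.ne_zero heq

end frac

section tr
variable (p : ℕ) [hpp : Fact p.Prime] {K L : Type u} [Field K] [Field L] [Algebra K L]
  [CharP K p] {I : Type*} [Nonempty I] (κ : I → Subfield K) (b : L)

/-- evaluating the Frobenius twist at `b ^ p`. -/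
theorem aeval_pow_map_frobenius [ExpChar K p] (r : K[X]) :
    aeval (b ^ p) (r.map (frobenius K p)) = (aeval b r) ^ p := by
  rw [← expand_aeval, ← map_expand, map_frobenius_expand, map_pow]

variable (hgen : ∀ x : L, ∃ r s : K[X], aeval b s ≠ 0 ∧ x = aeval b r / aeval b s)

include hgen in
/-- elements of the induced field are fractions in `b ^ p` with coefficients in the member. -/
theorem mem_extFam_tr (hκ : IsPFamily p κ) (J : I) (y : L) (hy : y ∈ extFam p κ L J) :
    ∃ r s : K[X], r ∈ lifts (κ J).subtype ∧ s ∈ lifts (κ J).subtype ∧ aeval (b ^ p) s ≠ 0 ∧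
      y = aeval (b ^ p) r / aeval (b ^ p) s := by
  haveI : ExpChar K p := ExpChar.prime hpp.out
  have hone : (1 : K[X]) ∈ lifts (κ J).subtype := one_mem _
  have hCmem : ∀ c : K, c ∈ κ J → (C c : K[X]) ∈ lifts (κ J).subtype := fun c hc =>
    C_mem_lifts (κ J).subtype ⟨c, hc⟩
  have hfrob : ∀ r : K[X], r.map (frobenius K p) ∈ lifts (κ J).subtype := by
    intro r
    rw [lifts_iff_coeff_lifts]
    intro n
    rw [coeff_map]
    exact ⟨⟨r.coeff n ^ p, hκ.pow_mem J _⟩, rfl⟩
  refine Subfield.closure_induction (p := fun y _ =>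
    ∃ r s : K[X], r ∈ lifts (κ J).subtype ∧ s ∈ lifts (κ J).subtype ∧ aeval (b ^ p) s ≠ 0 ∧
      y = aeval (b ^ p) r / aeval (b ^ p) s) ?_ ?_ ?_ ?_ ?_ ?_ hy
  · rintro y (⟨c, hc, rfl⟩ | ⟨z, rfl⟩)
    · refine ⟨C c, 1, hCmem c hc, hone, ?_, ?_⟩
      · rw [map_one]; exact one_ne_zero
      · rw [map_one, div_one, aeval_C]
    · obtain ⟨r₀, s₀, hs₀, rfl⟩ := hgen z
      refine ⟨r₀.map (frobenius K p), s₀.map (frobenius K p), hfrob r₀, hfrob s₀, ?_, ?_⟩
      · rw [aeval_pow_map_frobenius]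
        exact pow_ne_zero _ hs₀
      · rw [aeval_pow_map_frobenius, aeval_pow_map_frobenius]
        exact div_pow _ _ _
  · exact ⟨1, 1, hone, hone, by rw [map_one]; exact one_ne_zero, by rw [map_one, div_one]⟩
  · rintro y z _ _ ⟨r, s, hr, hs, hs0, rfl⟩ ⟨r', s', hr', hs', hs0', rfl⟩
    refine ⟨r * s' + s * r', s * s', add_mem (mul_mem hr hs') (mul_mem hs hr'), mul_mem hs hs',
      ?_, ?_⟩
    · rw [map_mul]; exact mul_ne_zero hs0 hs0'
    · rw [div_add_div _ _ hs0 hs0', map_add, map_mul, map_mul, map_mul]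
  · rintro y _ ⟨r, s, hr, hs, hs0, rfl⟩
    refine ⟨C (-1) * r, s, mul_mem (hCmem _ (neg_mem (one_mem _))) hr, hs, hs0, ?_⟩
    rw [map_mul, aeval_C, map_neg, map_one, neg_one_mul, neg_div]
  · rintro y _ ⟨r, s, hr, hs, hs0, rfl⟩
    by_cases hr0 : aeval (b ^ p) r = 0
    · refine ⟨0, 1, zero_mem _, hone, by rw [map_one]; exact one_ne_zero, ?_⟩
      rw [hr0, zero_div, inv_zero, map_zero, zero_div]
    · exact ⟨s, r, hs, hr, hr0, by rw [inv_div]⟩
  · rintro y z _ _ ⟨r, s, hr, hs, hs0, rfl⟩ ⟨r', s', hr', hs', hs0', rfl⟩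
    refine ⟨r * r', s * s', mul_mem hr hr', mul_mem hs hs', ?_, ?_⟩
    · rw [map_mul]; exact mul_ne_zero hs0 hs0'
    · rw [div_mul_div_comm, map_mul, map_mul]

variable (hb : Transcendental K b)

include hb in
theorem transcendental_pow : Transcendental K (b ^ p) := by
  intro halg
  apply hb
  obtain ⟨q, hq0, hq⟩ := halg
  refine ⟨expand K p q, ?_, ?_⟩
  · rwa [Ne, expand_eq_zero hpp.out.pos]
  · rw [expand_aeval]; exact hq

include hgen hb in
/-- **purely transcendental simple extensions**: the induced family on `K(b)` again cuts out the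
`p`-th powers. -/
theorem isPFamily_extFam_of_transcendental [CharP L p] (hκ : IsPFamily p κ) :
    IsPFamily p (extFam p κ L) := by
  classical
  haveI : ExpChar K p := ExpChar.prime hpp.out
  refine ⟨extFam_dir p κ L hκ.dir, ?_⟩
  apply Set.Subset.antisymm
  swap
  · rintro _ ⟨y, rfl⟩
    rw [SetLike.mem_coe, Subfield.mem_iInf]
    exact fun i => pow_mem_extFam p κ L i y
  intro u hu
  rw [SetLike.mem_coe, Subfield.mem_iInf] at hu
  have hw := transcendental_pow p b hb
  have hwinj : ∀ q : K[X], aeval (b ^ p) q = 0 → q = 0 := by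
    intro q hq
    by_contra h0
    exact hw ⟨q, h0, hq⟩
  -- reduced monic representations with coefficients in each member
  have hrep : ∀ J, ∃ A C : K[X], A ∈ lifts (κ J).subtype ∧ C ∈ lifts (κ J).subtype ∧
      IsCoprime A C ∧ C.Monic ∧ u * aeval (b ^ p) C = aeval (b ^ p) A := by
    intro J
    obtain ⟨r, s, hr, hs, hs0, hurs⟩ := mem_extFam_tr p κ b hgen hκ J u (hu J)
    obtain ⟨qr, rfl⟩ := (mem_lifts _).mp hr
    obtain ⟨qs, rfl⟩ := (mem_lifts _).mp hs
    have hqs0 : qs ≠ 0 := by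
      rintro rfl
      rw [Polynomial.map_zero, map_zero] at hs0
      exact hs0 rfl
    obtain ⟨r', s', hcop, hmon, heq⟩ := exists_reduced_monic qr qs hqs0
    refine ⟨r'.map (κ J).subtype, s'.map (κ J).subtype, (mem_lifts _).mpr ⟨r', rfl⟩,
      (mem_lifts _).mpr ⟨s', rfl⟩, ?_, hmon.map _, ?_⟩
    · exact (hcop.map (mapRingHom (κ J).subtype))
    · have heq' := congrArg (fun q => aeval (b ^ p) (q.map (κ J).subtype)) heq
      simp only [Polynomial.map_mul, map_mul] at heq'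
      rw [hurs, div_mul_eq_mul_div, div_eq_iff hs0, heq']
  choose A C hA hC hcop hmon hu' using hrep
  obtain ⟨J₀⟩ := ‹Nonempty I›
  have huniq : ∀ J, A J = A J₀ ∧ C J = C J₀ := by
    intro J
    apply reduced_unique _ _ _ _ (hcop J) (hcop J₀) (hmon J) (hmon J₀)
    have h1 : aeval (b ^ p) (A J * C J₀ - A J₀ * C J) = 0 := by
      rw [map_sub, map_mul, map_mul, ← hu' J, ← hu' J₀]
      ring
    exact sub_eq_zero.mp (hwinj _ h1)
  have hcoefA : ∀ n, ∃ α : K, α ^ p = (A J₀).coeff n := by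
    intro n
    have h1 : (A J₀).coeff n ∈ ((⨅ i, κ i : Subfield K) : Set K) := by
      rw [SetLike.mem_coe, Subfield.mem_iInf]
      intro J
      have h2 := (lifts_iff_coeff_lifts _).mp (hA J) n
      rw [(huniq J).1] at h2
      obtain ⟨c, hc⟩ := h2
      rw [← hc]
      exact c.2
    rw [hκ.inf] at h1
    exact h1
  have hcoefC : ∀ n, ∃ α : K, α ^ p = (C J₀).coeff n := by
    intro n
    have h1 : (C J₀).coeff n ∈ ((⨅ i, κ i : Subfield K) : Set K) := by
      rw [SetLike.mem_coe, Subfield.mem_iInf]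
      intro J
      have h2 := (lifts_iff_coeff_lifts _).mp (hC J) n
      rw [(huniq J).2] at h2
      obtain ⟨c, hc⟩ := h2
      rw [← hc]
      exact c.2
    rw [hκ.inf] at h1
    exact h1
  -- `p`-th roots of the polynomials
  have hroot : ∀ q : K[X], (∀ n, ∃ α : K, α ^ p = q.coeff n) →
      ∃ q₁ : K[X], q₁.map (frobenius K p) = q := by
    intro q hq
    choose α hα using hq
    refine ⟨∑ n ∈ q.support, monomial n (α n), ?_⟩
    ext m
    rw [coeff_map, finset_sum_coeff]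
    simp only [coeff_monomial]
    rw [Finset.sum_ite_eq' q.support m]
    by_cases hm : m ∈ q.support
    · rw [if_pos hm, frobenius_def, hα]
    · rw [if_neg hm, map_zero]
      exact (notMem_support_iff.mp hm).symm
  obtain ⟨A₁, hA₁⟩ := hroot _ hcoefA
  obtain ⟨C₁, hC₁⟩ := hroot _ hcoefC
  have hCw : aeval (b ^ p) (C J₀) ≠ 0 := fun h0 => (hmon J₀).ne_zero (hwinj _ h0)
  refine ⟨aeval b A₁ / aeval b C₁, ?_⟩
  show (aeval b A₁ / aeval b C₁) ^ p = u
  rw [div_pow, ← aeval_pow_map_frobenius, ← aeval_pow_map_frobenius, hA₁, hC₁, ← hu' J₀,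
    mul_div_assoc, div_self hCw, mul_one]

end tr

end Groth.Agent.H5.GRC
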