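import Mathlib
import Groth.Prelude
import Groth.Agent.Lib.Helper5.CD.P2

set_option autoImplicit false
universe u v

open Polynomial IntermediateField

namespace Groth.Agent.H5.GRC

section tower
variable (p : ℕ) {K : Type*} [Field K] {I : Type*} (κ : I → Subfield K)
  (K' : Type*) [Field K'] [Algebra K K'] (L : Type*) [Field L] [Algebra K L] [Algebra K' L]
  [IsScalarTower K K' L]

/-- transitivity of the induced family (the easy inclusion). -/
theorem extFam_le_extFam_extFam (i : I) :
    extFam p κ L i ≤ extFam p (extFam p κ K') L i := by
  apply Subfield.closure_le.mpr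
  rintro y (⟨c, hc, rfl⟩ | ⟨z, rfl⟩)
  · rw [IsScalarTower.algebraMap_apply K K' L]
    exact algebraMap_mem_extFam p _ L i _ (algebraMap_mem_extFam p κ K' i c hc)
  · exact pow_mem_extFam p _ L i z

/-- transfer of the `p`-family property through a tower. -/
theorem isPFamily_extFam_of_tower (hκ : IsPFamily p κ)
    (h : IsPFamily p (extFam p (extFam p κ K') L)) : IsPFamily p (extFam p κ L) := by
  refine ⟨extFam_dir p κ L hκ.dir, ?_⟩
  apply Set.Subset.antisymm
  · intro u hu
    rw [← h.inf]
    rw [SetLike.mem_coe, Subfield.mem_iInf] at hu ⊢
    exact fun i => extFam_le_extFam_extFam p κ K' L i (hu i)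
  · rintro _ ⟨y, rfl⟩
    rw [SetLike.mem_coe, Subfield.mem_iInf]
    exact fun i => pow_mem_extFam p κ L i y

end tower

section fg
variable (p : ℕ) [hpp : Fact p.Prime] {I : Type v} [Nonempty I]

/-- **finitely generated field extensions**: the induced family again cuts out the `p`-th
powers. -/
theorem isPFamily_extFam_of_fg (m : ℕ) : ∀ (K : Type u) [Field K] (L : Type u) [Field L]
    [Algebra K L] [CharP L p] (κ : I → Subfield K) (b : Fin m → L),
    Subfield.closure (Set.range (algebraMap K L) ∪ Set.range b) = ⊤ → IsPFamily p κ →
    IsPFamily p (extFam p κ L) := by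
  induction m with
  | zero =>
    intro K _ L _ _ _ κ b hb hκ
    have hsurj : Function.Surjective (algebraMap K L) := by
      rw [← RingHom.fieldRange_eq_top_iff, ← hb]
      have : Set.range b = ∅ := Set.range_eq_empty b
      rw [this, Set.union_empty]
      symm
      apply Subfield.closure_eq_of_le
      · exact fun x hx => hx
      · exact Subfield.subset_closure
    haveI : FiniteDimensional K L :=
      Module.Finite.of_surjective (Algebra.linearMap K L) hsurj
    exact isPFamily_extFam_of_finite p κ hκ
  | succ m ih =>
    intro K _ L _ _ _ κ b hb hκ
    haveI : CharP K p := (algebraMap K L).charP (algebraMap K L).injective p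
    let K' : IntermediateField K L := K⟮b 0⟯
    haveI : CharP K' p := (algebraMap K' L).charP (algebraMap K' L).injective p
    -- the first step
    have h1 : IsPFamily p (extFam p κ K') := by
      by_cases halg : IsIntegral K (b 0)
      · haveI : FiniteDimensional K K' := adjoin.finiteDimensional halg
        exact isPFamily_extFam_of_finite p κ hκ
      · have htr : Transcendental K (AdjoinSimple.gen K (b 0)) := by
          intro h
          apply halg
          have := h.isIntegral.map (IsScalarTower.toAlgHom K K' L)
          exact this
        refine isPFamily_extFam_of_transcendental p κ (AdjoinSimple.gen K (b 0)) ?_ htr hκ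
        intro x
        obtain ⟨r, s, hrs⟩ := (mem_adjoin_simple_iff K (x : L)).mp x.2
        by_cases hs : aeval (b 0) s = 0
        · refine ⟨0, 1, by rw [map_one]; exact one_ne_zero, ?_⟩
          rw [map_zero, zero_div]
          apply Subtype.ext
          rw [hrs, hs, div_zero]; rfl
        · refine ⟨r, s, ?_, ?_⟩
          · intro h0
            apply hs
            rw [← AdjoinSimple.coe_aeval_gen_apply, h0]; rfl
          · apply Subtype.ext
            rw [hrs]
            push_cast
            rw [AdjoinSimple.coe_aeval_gen_apply, AdjoinSimple.coe_aeval_gen_apply]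
    -- the remaining generators
    have h2 : IsPFamily p (extFam p (extFam p κ K') L) := by
      refine ih K' L (extFam p κ K') (Fin.tail b) ?_ h1
      rw [eq_top_iff, ← hb]
      apply Subfield.closure_le.mpr
      rintro y (⟨c, rfl⟩ | ⟨j, rfl⟩)
      · apply Subfield.subset_closure
        left
        exact ⟨algebraMap K K' c, rfl⟩
      · refine Fin.cases ?_ (fun j => ?_) j
        · apply Subfield.subset_closure
          left
          exact ⟨AdjoinSimple.gen K (b 0), rfl⟩
        · apply Subfield.subset_closure
          right
          exact ⟨j, rfl⟩
    exact isPFamily_extFam_of_tower p κ K' L hκ h2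

end fg

end Groth.Agent.H5.GRC
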