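import Mathlib
import Groth.Prelude
import Groth.Agent.Lib.Helper5.PB.PB8

set_option autoImplicit false
universe u

open Polynomial EGA41

namespace Groth.Agent.H5.GRC

section P4
variable (p : ℕ) [hpp : Fact p.Prime] {L : Type u} [Field L] [CharP L p] (κ : Subfield L)

/-- an element outside a subfield containing the `p`-th powers has nonzero differential. -/
theorem linearIndependent_D_of_not_mem (hκ : ∀ y : L, y ^ p ∈ κ) (f : L) (hf : f ∉ κ) :
    LinearIndependent L (fun _ : PUnit.{u+1} => KaehlerDifferential.D (↥κ) L f) := by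
  classical
  apply H5.PB.linearIndependent_D_of_isPIndependent p (fun _ : PUnit.{u+1} => f)
  -- elements of `κ[L^p]` lie in `κ`
  have hP : ∀ g : pPowerSubalgebra p (↥κ) L, ∃ c : ↥κ, (c : L) = (g : L) := by
    intro g
    have hle : pPowerSubalgebra p (↥κ) L ≤ ⊥ := by
      unfold pPowerSubalgebra
      apply Algebra.adjoin_le
      rintro _ ⟨y, rfl⟩
      exact Algebra.mem_bot.mpr ⟨⟨y ^ p, hκ y⟩, rfl⟩
    obtain ⟨c, hc⟩ := Algebra.mem_bot.mp (hle g.2)
    exact ⟨c, hc⟩
  -- the minimal polynomial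
  let a : ↥κ := ⟨f ^ p, hκ f⟩
  have ha : ∀ b : ↥κ, b ^ p ≠ a := by
    intro b hb
    apply hf
    have h1 : ((b : L)) ^ p = f ^ p := congrArg Subtype.val hb
    have h2 : (b : L) = f := frobenius_inj L p h1
    rw [← h2]
    exact b.2
  have hirr := X_pow_sub_C_irreducible_of_prime hpp.out ha
  have hmin : minpoly (↥κ) f = X ^ p - C a := by
    symm
    apply minpoly.eq_of_irreducible_of_monic hirr
    · rw [map_sub, map_pow, aeval_X, aeval_C]
      show f ^ p - f ^ p = 0
      exact sub_self _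
    · exact monic_X_pow_sub_C a hpp.out.ne_zero
  have hdeg : (minpoly (↥κ) f).natDegree = p := by
    rw [hmin, natDegree_X_pow_sub_C]
  have hLI := linearIndependent_pow (K := ↥κ) f
  rw [linearIndependent_iff'] at hLI
  -- transfer
  unfold IsPIndependent
  rw [linearIndependent_iff']
  intro s g hsum e₀ he₀
  choose c hc using hP
  have hmon : ∀ e : PUnit.{u+1} →₀ ℕ, pMonomial (fun _ : PUnit.{u+1} => f) e = f ^ (e PUnit.unit) := by
    intro e
    unfold pMonomial
    conv_lhs => rw [Finsupp.unique_single e]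
    rw [Finsupp.prod_single_index (h := fun i n => (fun _ : PUnit.{u+1} => f) i ^ n) (pow_zero _)]
  let τ : {e : PUnit.{u+1} →₀ ℕ // ∀ i, e i < p} → Fin (minpoly (↥κ) f).natDegree :=
    fun e => ⟨e.1 PUnit.unit, by rw [hdeg]; exact e.2 _⟩
  have hτ : Function.Injective τ := by
    intro e e' hee'
    apply Subtype.ext
    ext
    have := congrArg Fin.val hee'
    exact this
  have h1 := hLI (s.map ⟨τ, hτ⟩) (fun i => if h : ∃ e ∈ s, τ e = i then c (g h.choose) else 0) ?_
    (τ e₀) (Finset.mem_map_of_mem _ he₀)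
  · have hex : ∃ e ∈ s, τ e = τ e₀ := ⟨e₀, he₀, rfl⟩
    rw [dif_pos hex] at h1
    have h2 : hex.choose = e₀ := hτ hex.choose_spec.2
    rw [h2] at h1
    apply Subtype.ext
    rw [← hc, h1]
    rfl
  · rw [Finset.sum_map]
    rw [← hsum]
    refine Finset.sum_congr rfl fun e he => ?_
    have hex : ∃ e' ∈ s, τ e' = τ e := ⟨e, he, rfl⟩
    show (if h : ∃ e' ∈ s, τ e' = τ e then c (g h.choose) else 0) • f ^ (e.1 PUnit.unit) = _
    rw [dif_pos hex]
    have h2 : hex.choose = e := hτ hex.choose_spec.2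
    rw [h2, hmon]
    show (c (g e) : L) * _ = (g e : L) * _
    rw [hc]

end P4

end Groth.Agent.H5.GRC
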