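import Mathlib
import Groth.Prelude
import Groth.Agent.Lib.Helper5.CD.P3
import Groth.Agent.Lib.Helper5.CD.P4
import Groth.Agent.Lib.Helper5.CD.K3
import Groth.Agent.Lib.Helper5.CD.K8

set_option autoImplicit false
universe u

open Polynomial

namespace Groth.Agent.H5.GRC

section P5

attribute [local instance] FractionRing.liftAlgebra

set_option maxHeartbeats 1000000 in
/-- **derivations detecting non-`p`-th powers**: for a domain `B` of finite type over a domain `R₂`
of characteristic `p` whose fraction field has its `p`-th powers cut out by a directed family of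
subrings over which `R₂` is finite, every element of `B` without `p`-th root in the fraction field
is moved by a derivation of `B`. -/
theorem exists_leibniz_ne_zero_of_family
    (R₂ : Type u) [CommRing R₂] [IsDomain R₂] (p : ℕ) [hpp : Fact p.Prime]
    [CharP R₂ p] {I : Type*} [Nonempty I] (S : I → Subring R₂)
    (hdir : ∀ a b, ∃ c, S c ≤ S a ⊓ S b) (hfin : ∀ i, Module.Finite (↥(S i)) R₂)
    (hInt : (⨅ i, (Subfield.closure ((algebraMap R₂ (FractionRing R₂)) '' (S i : Set R₂)) :
      Set (FractionRing R₂))) = Set.range (fun x : FractionRing R₂ => x ^ p))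
    (B : Type u) [CommRing B] [IsDomain B] [Algebra R₂ B] [Algebra.FiniteType R₂ B]
    (hinj : Function.Injective (algebraMap R₂ B)) (f : B)
    (hf : ∀ x : FractionRing B, x ^ p ≠ algebraMap B (FractionRing B) f) :
    ∃ δ : B →+ B, (∀ a b, δ (a * b) = a * δ b + b * δ a) ∧ δ f ≠ 0 := by
  classical
  haveI : FaithfulSMul R₂ B := (faithfulSMul_iff_algebraMap_injective R₂ B).mpr hinj
  haveI : IsScalarTower R₂ (FractionRing R₂) (FractionRing B) := inferInstance
  have hinjL : Function.Injective (algebraMap R₂ (FractionRing B)) := by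
    rw [IsScalarTower.algebraMap_eq R₂ B (FractionRing B)]
    exact (IsFractionRing.injective B (FractionRing B)).comp hinj
  haveI : CharP (FractionRing B) p := charP_of_injective_ringHom hinjL p
  haveI : CharP B p := charP_of_injective_ringHom hinj p
  -- the family on the fraction field of `R₂`
  let κ : I → Subfield (FractionRing R₂) := fun i =>
    Subfield.closure ((algebraMap R₂ (FractionRing R₂)) '' (S i : Set R₂))
  have hκ : IsPFamily p κ := by
    refine ⟨?_, iInf_closure_transfer (FractionRing R₂) (FractionRing R₂) p S hInt⟩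
    intro a b
    obtain ⟨c, hc⟩ := hdir a b
    refine ⟨c, le_inf ?_ ?_⟩
    · exact Subfield.closure_mono (Set.image_mono (hc.trans inf_le_left))
    · exact Subfield.closure_mono (Set.image_mono (hc.trans inf_le_right))
  -- generators
  obtain ⟨m, ψ, hψ⟩ := Algebra.FiniteType.iff_quotient_mvPolynomial''.mp
    (inferInstance : Algebra.FiniteType R₂ B)
  let b : Fin m → FractionRing B := fun i => algebraMap B (FractionRing B) (ψ (MvPolynomial.X i))
  have hgen : Subfield.closure (Set.range (algebraMap (FractionRing R₂) (FractionRing B)) ∪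
      Set.range b) = ⊤ := by
    rw [eq_top_iff]
    intro z _
    have hB : ∀ y : B, algebraMap B (FractionRing B) y ∈
        Subfield.closure (Set.range (algebraMap (FractionRing R₂) (FractionRing B)) ∪
          Set.range b) := by
      intro y
      obtain ⟨P, rfl⟩ := hψ y
      induction P using MvPolynomial.induction_on with
      | C r =>
        apply Subfield.subset_closure
        left
        refine ⟨algebraMap R₂ (FractionRing R₂) r, ?_⟩
        have h1 : ψ (MvPolynomial.C r) = algebraMap R₂ B r := by
          rw [← MvPolynomial.algebraMap_eq]; exact ψ.commutes r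
        rw [h1, ← IsScalarTower.algebraMap_apply, ← IsScalarTower.algebraMap_apply]
      | add P Q hP hQ =>
        rw [map_add, map_add]
        exact add_mem hP hQ
      | mul_X P i hP =>
        rw [map_mul, map_mul]
        exact mul_mem hP (Subfield.subset_closure (Or.inr ⟨i, rfl⟩))
    obtain ⟨a, s, hs, rfl⟩ := IsFractionRing.div_surjective (A := B) z
    exact div_mem (hB a) (hB s)
  have hfam := isPFamily_extFam_of_fg p m (FractionRing R₂) (FractionRing B) κ b hgen hκ
  -- choice of the member
  obtain ⟨J, hJ⟩ : ∃ J, algebraMap B (FractionRing B) f ∉ extFam p κ (FractionRing B) J := by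
    by_contra hcon
    push Not at hcon
    have h1 : algebraMap B (FractionRing B) f ∈
        ((⨅ i, extFam p κ (FractionRing B) i : Subfield (FractionRing B)) :
          Set (FractionRing B)) := by
      rw [SetLike.mem_coe, Subfield.mem_iInf]
      exact hcon
    rw [hfam.inf] at h1
    obtain ⟨x, hx⟩ := h1
    exact hf x hx
  -- the subring
  let B' : Subring B := Subring.closure ((algebraMap R₂ B) '' (S J : Set R₂) ∪
    Set.range (fun y : B => y ^ p))
  have hpowB' : ∀ y : B, y ^ p ∈ B' := fun y => Subring.subset_closure (Or.inr ⟨y, rfl⟩)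
  haveI hfinB' : Module.Finite (↥B') B := by
    haveI := hfin J
    let ι₀ : ↥(S J) →+* ↥B' := ((algebraMap R₂ B).comp (S J).subtype).codRestrict B'
      (fun s => Subring.subset_closure (Or.inl ⟨s, s.2, rfl⟩))
    letI : Algebra (↥(S J)) (↥B') := ι₀.toAlgebra
    haveI : IsScalarTower (↥(S J)) (↥B') B := IsScalarTower.of_algebraMap_eq (fun s => rfl)
    haveI : Algebra.FiniteType (↥(S J)) R₂ := inferInstance
    haveI : Algebra.FiniteType (↥(S J)) B := Algebra.FiniteType.trans
      (inferInstance : Algebra.FiniteType (↥(S J)) R₂) (inferInstance : Algebra.FiniteType R₂ B)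
    haveI : Algebra.FiniteType (↥B') B :=
      Algebra.FiniteType.of_restrictScalars_finiteType (↥(S J)) (↥B') B
    haveI : Algebra.IsIntegral (↥B') B := by
      refine ⟨fun y => ?_⟩
      refine ⟨X ^ p - C (⟨y ^ p, hpowB' y⟩ : ↥B'), monic_X_pow_sub_C _ hpp.out.ne_zero, ?_⟩
      rw [eval₂_sub, eval₂_pow, eval₂_X, eval₂_C]
      exact sub_self _
    exact Algebra.IsIntegral.finite
  -- the subfield
  set κ₀ : Subfield (FractionRing B) :=
    Subfield.closure ((algebraMap B (FractionRing B)) '' (B' : Set B)) with hκ₀
  have hκ₀le : κ₀ ≤ extFam p κ (FractionRing B) J := by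
    apply Subfield.closure_le.mpr
    rintro _ ⟨y, hy, rfl⟩
    have hle : B' ≤ (extFam p κ (FractionRing B) J).toSubring.comap
        (algebraMap B (FractionRing B)) := by
      apply Subring.closure_le.mpr
      rintro _ (⟨s, hs, rfl⟩ | ⟨y, rfl⟩)
      · show algebraMap B (FractionRing B) (algebraMap R₂ B s) ∈ extFam p κ (FractionRing B) J
        rw [← IsScalarTower.algebraMap_apply,
          IsScalarTower.algebraMap_apply R₂ (FractionRing R₂) (FractionRing B)]
        apply algebraMap_mem_extFam
        exact Subfield.subset_closure ⟨s, hs, rfl⟩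
      · show algebraMap B (FractionRing B) (y ^ p) ∈ extFam p κ (FractionRing B) J
        rw [map_pow]
        exact pow_mem_extFam p κ (FractionRing B) J _
    exact hle hy
  have hκ₀pow : ∀ z : FractionRing B, z ^ p ∈ κ₀ := by
    intro z
    obtain ⟨a, s, hs, rfl⟩ := IsFractionRing.div_surjective (A := B) z
    rw [div_pow, ← map_pow, ← map_pow]
    exact div_mem (Subfield.subset_closure ⟨_, hpowB' a, rfl⟩)
      (Subfield.subset_closure ⟨_, hpowB' s, rfl⟩)
  have hf' : algebraMap B (FractionRing B) f ∉ κ₀ := fun h => hJ (hκ₀le h)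
  have hLI := linearIndependent_D_of_not_mem p κ₀ hκ₀pow _ hf'
  obtain ⟨δ, hδL, -, hδdet⟩ := exists_leibniz_det_ne_zero (K := FractionRing B) B'
    (x := fun _ : PUnit.{u+1} => f) hLI
  refine ⟨δ PUnit.unit, hδL PUnit.unit, ?_⟩
  rw [Matrix.det_unique] at hδdet
  exact hδdet

end P5

end Groth.Agent.H5.GRC
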