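import Mathlib
import Groth.Prelude
import Groth.Agent.Lib.Helper5.CD.P5
import Groth.Agent.Lib.Helper5.CD.K9
import Groth.Agent.Lib.Helper6.CompleteNoeth

set_option autoImplicit false
universe u

open IsLocalRing

namespace Groth.Agent.H5.GRC

section P6

set_option maxHeartbeats 1000000 in
/-- **derivations detect non-`p`-th powers** on domains of finite type over a complete Noetherian
local ring. -/
theorem exists_derivation_ne_zero {R B : Type u} [CommRing R] [IsLocalRing R]
    [IsNoetherianRing R] [IsAdicComplete (IsLocalRing.maximalIdeal R) R] [CommRing B] [IsDomain B]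
    [Algebra R B] [Algebra.FiniteType R B] (p : ℕ) [hpp : Fact p.Prime] [CharP B p] (f : B)
    (hf : ∀ x : FractionRing B, x ^ p ≠ algebraMap B (FractionRing B) f) :
    ∃ D : Derivation ℤ B B, D f ≠ 0 := by
  classical
  -- the image of `R`
  let P₀ : Ideal R := RingHom.ker (algebraMap R B)
  haveI : P₀.IsPrime := RingHom.ker_isPrime _
  haveI : IsLocalRing (R ⧸ P₀) :=
    IsLocalRing.of_surjective' (Ideal.Quotient.mk P₀) Ideal.Quotient.mk_surjective
  haveI : IsAdicComplete (maximalIdeal (R ⧸ P₀)) (R ⧸ P₀) :=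
    Groth.Agent.H6.isAdicComplete_quotient P₀
  let g₀ : R ⧸ P₀ →+* B := RingHom.kerLift (algebraMap R B)
  have hg₀ : Function.Injective g₀ := RingHom.kerLift_injective _
  have hg₀ft : g₀.FiniteType := by
    have h1 : (g₀.comp (Ideal.Quotient.mk P₀)).FiniteType := by
      have h2 : g₀.comp (Ideal.Quotient.mk P₀) = algebraMap R B := by
        ext r; rfl
      rw [h2]
      exact RingHom.finiteType_algebraMap.mpr (inferInstance : Algebra.FiniteType R B)
    exact RingHom.FiniteType.of_comp_finiteType h1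
  -- Cohen structure
  obtain ⟨Λ, instΛ, n, φ, hΛ, hφinj, hφfin, -⟩ :=
    Groth.Agent.H5.NN.cohen_structure_domain (R ⧸ P₀)
  let g : MvPowerSeries (Fin n) Λ →+* B := g₀.comp φ
  have hg : Function.Injective g := hg₀.comp hφinj
  have hgft : g.FiniteType := hg₀ft.comp (RingHom.FiniteType.of_finite hφfin)
  rcases hΛ with hΛ | hΛ
  · letI instF : Field Λ := hΛ.toField
    haveI : IsDomain (MvPowerSeries (Fin n) Λ) := NoZeroDivisors.to_isDomain _
    haveI : CharP (MvPowerSeries (Fin n) Λ) p := g.charP hg p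
    haveI : CharP Λ p :=
      (algebraMap Λ (MvPowerSeries (Fin n) Λ)).charP
        (algebraMap Λ (MvPowerSeries (Fin n) Λ)).injective p
    obtain ⟨ι, hne, S, hdir, hS, hInt⟩ := Groth.Agent.H9.PBS3.main Λ p n
    letI : Algebra (MvPowerSeries (Fin n) Λ) B := g.toAlgebra
    haveI : Algebra.FiniteType (MvPowerSeries (Fin n) Λ) B := hgft
    obtain ⟨δ, hδL, hδf⟩ := exists_leibniz_ne_zero_of_family (MvPowerSeries (Fin n) Λ) p S hdir
      (fun i => (hS i).2.2) hInt B hg f hf
    refine ⟨Derivation.mk' δ.toIntLinearMap (fun a b => ?_), hδf⟩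
    show δ (a * b) = a • δ b + b • δ a
    rw [hδL, smul_eq_mul, smul_eq_mul]
  · exfalso
    haveI : CharZero Λ := charZero_of_isCohenRing Λ hΛ
    haveI : CharZero (MvPowerSeries (Fin n) Λ) :=
      charZero_of_injective_algebraMap (R := Λ) (MvPowerSeries.C_injective (σ := Fin n) (R := Λ))
    haveI : CharZero B := charZero_of_injective_ringHom hg
    have h0 : p = 0 := CharP.eq B (inferInstance : CharP B p) (CharP.ofCharZero B)
    exact hpp.out.ne_zero h0

end P6

end Groth.Agent.H5.GRC
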