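import Mathlib
import Groth.Prelude
import Groth.Agent.Lib.Helper5.CD.P3
import Groth.Agent.Lib.Helper5.CD.K8

set_option autoImplicit false
universe u

open Polynomial

namespace Groth.Agent.H5.GRC

/-- `R` admits a `p`-family: a directed family of subrings over which `R` is finite and whose
fraction fields cut out the `p`-th powers of the fraction field of `R`. -/
def HasPFamily (p : ℕ) (R : Type u) [CommRing R] [IsDomain R] : Prop :=
  ∃ (I : Type u) (_ : Nonempty I) (S : I → Subring R),
    (∀ a b, ∃ c, S c ≤ S a ⊓ S b) ∧ (∀ i, Module.Finite (↥(S i)) R) ∧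
    ((⨅ i, Subfield.closure ((algebraMap R (FractionRing R)) '' (S i : Set R)) :
      Subfield (FractionRing R)) : Set (FractionRing R)) =
        Set.range (fun y : FractionRing R => y ^ p)

/-- power series rings over a field of characteristic `p` admit a `p`-family. -/
theorem hasPFamily_mvPowerSeries (k : Type u) [Field k] (p : ℕ) [Fact p.Prime] [CharP k p] (n : ℕ)
    [IsDomain (MvPowerSeries (Fin n) k)] : HasPFamily p (MvPowerSeries (Fin n) k) := by
  obtain ⟨ι, hne, S, hdir, hS, hInt⟩ := Groth.Agent.H9.PBS3.main k p n
  exact ⟨ι, hne, S, hdir, fun i => (hS i).2.2,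
    iInf_closure_transfer (FractionRing (MvPowerSeries (Fin n) k))
      (FractionRing (MvPowerSeries (Fin n) k)) p S hInt⟩

section Q1

attribute [local instance] FractionRing.liftAlgebra

/-- the subring generated by the image of a subring and the `p`-th powers. -/
def extSubring (p : ℕ) {R₂ : Type*} [CommRing R₂] (B : Type*) [CommRing B] [Algebra R₂ B]
    (S : Subring R₂) : Subring B :=
  Subring.closure ((algebraMap R₂ B) '' (S : Set R₂) ∪ Set.range (fun y : B => y ^ p))

theorem extSubring_mono (p : ℕ) {R₂ : Type*} [CommRing R₂] (B : Type*) [CommRing B] [Algebra R₂ B]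
    {S S' : Subring R₂} (h : S ≤ S') : extSubring p B S ≤ extSubring p B S' :=
  Subring.closure_mono (Set.union_subset_union_left _ (Set.image_mono h))

theorem pow_mem_extSubring (p : ℕ) {R₂ : Type*} [CommRing R₂] (B : Type*) [CommRing B]
    [Algebra R₂ B] (S : Subring R₂) (y : B) : y ^ p ∈ extSubring p B S :=
  Subring.subset_closure (Or.inr ⟨y, rfl⟩)

/-- a finite type algebra is finite over the subring generated by the `p`-th powers and a subring
of the base over which the base is finite. -/
theorem finite_extSubring (p : ℕ) [hpp : Fact p.Prime] {R₂ : Type u} [CommRing R₂] (B : Type u)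
    [CommRing B] [Algebra R₂ B] [Algebra.FiniteType R₂ B] (S : Subring R₂)
    [Module.Finite (↥S) R₂] : Module.Finite (↥(extSubring p B S)) B := by
  let B' := extSubring p B S
  let ι₀ : ↥S →+* ↥B' := ((algebraMap R₂ B).comp S.subtype).codRestrict B'
    (fun s => Subring.subset_closure (Or.inl ⟨s, s.2, rfl⟩))
  letI : Algebra (↥S) (↥B') := ι₀.toAlgebra
  haveI : IsScalarTower (↥S) (↥B') B := IsScalarTower.of_algebraMap_eq (fun s => rfl)
  haveI : Algebra.FiniteType (↥S) R₂ := inferInstance
  haveI : Algebra.FiniteType (↥S) B := Algebra.FiniteType.trans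
    (inferInstance : Algebra.FiniteType (↥S) R₂) (inferInstance : Algebra.FiniteType R₂ B)
  haveI : Algebra.FiniteType (↥B') B :=
    Algebra.FiniteType.of_restrictScalars_finiteType (↥S) (↥B') B
  haveI : Algebra.IsIntegral (↥B') B := by
    refine ⟨fun y => ?_⟩
    refine ⟨X ^ p - C (⟨y ^ p, pow_mem_extSubring p B S y⟩ : ↥B'),
      monic_X_pow_sub_C _ hpp.out.ne_zero, ?_⟩
    rw [eval₂_sub, eval₂_pow, eval₂_X, eval₂_C]
    exact sub_self _
  exact Algebra.IsIntegral.finite

set_option maxHeartbeats 1000000 in
/-- **`p`-families pass to domains of finite type**. -/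
theorem hasPFamily_of_finiteType (p : ℕ) [hpp : Fact p.Prime] (R₂ : Type u) [CommRing R₂]
    [IsDomain R₂] [CharP R₂ p] (h : HasPFamily p R₂) (B : Type u) [CommRing B] [IsDomain B]
    [Algebra R₂ B] [Algebra.FiniteType R₂ B] (hinj : Function.Injective (algebraMap R₂ B)) :
    HasPFamily p B := by
  classical
  obtain ⟨I, hne, S, hdir, hfin, hInt⟩ := h
  haveI : FaithfulSMul R₂ B := (faithfulSMul_iff_algebraMap_injective R₂ B).mpr hinj
  haveI : IsScalarTower R₂ (FractionRing R₂) (FractionRing B) := inferInstance
  have hinjL : Function.Injective (algebraMap R₂ (FractionRing B)) := by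
    rw [IsScalarTower.algebraMap_eq R₂ B (FractionRing B)]
    exact (IsFractionRing.injective B (FractionRing B)).comp hinj
  haveI : CharP (FractionRing B) p := charP_of_injective_ringHom hinjL p
  -- the family on the fraction field of `R₂`
  let κ : I → Subfield (FractionRing R₂) := fun i =>
    Subfield.closure ((algebraMap R₂ (FractionRing R₂)) '' (S i : Set R₂))
  have hκ : IsPFamily p κ := by
    refine ⟨?_, hInt⟩
    intro a b
    obtain ⟨c, hc⟩ := hdir a b
    refine ⟨c, le_inf ?_ ?_⟩
    · exact Subfield.closure_mono (Set.image_mono (hc.trans inf_le_left))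
    · exact Subfield.closure_mono (Set.image_mono (hc.trans inf_le_right))
  -- generators
  obtain ⟨m, ψ, hψ⟩ := Algebra.FiniteType.iff_quotient_mvPolynomial''.mp
    (inferInstance : Algebra.FiniteType R₂ B)
  let b : Fin m → FractionRing B := fun i => algebraMap B (FractionRing B) (ψ (MvPolynomial.X i))
  have hgen : Subfield.closure (Set.range (algebraMap (FractionRing R₂) (FractionRing B)) ∪
      Set.range b) = ⊤ := by
    rw [eq_top_iff]
    intro z _
    have hB : ∀ y : B, algebraMap B (FractionRing B) y ∈
        Subfield.closure (Set.range (algebraMap (FractionRing R₂) (FractionRing B)) ∪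
          Set.range b) := by
      intro y
      obtain ⟨P, rfl⟩ := hψ y
      induction P using MvPolynomial.induction_on with
      | C r =>
        apply Subfield.subset_closure
        left
        refine ⟨algebraMap R₂ (FractionRing R₂) r, ?_⟩
        have h1 : ψ (MvPolynomial.C r) = algebraMap R₂ B r := by
          rw [← MvPolynomial.algebraMap_eq]; exact ψ.commutes r
        rw [h1, ← IsScalarTower.algebraMap_apply, ← IsScalarTower.algebraMap_apply]
      | add P Q hP hQ =>
        rw [map_add, map_add]
        exact add_mem hP hQ
      | mul_X P i hP =>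
        rw [map_mul, map_mul]
        exact mul_mem hP (Subfield.subset_closure (Or.inr ⟨i, rfl⟩))
    obtain ⟨a, s, hs, rfl⟩ := IsFractionRing.div_surjective (A := B) z
    exact div_mem (hB a) (hB s)
  have hfam := isPFamily_extFam_of_fg p m (FractionRing R₂) (FractionRing B) κ b hgen hκ
  refine ⟨I, hne, fun i => extSubring p B (S i), ?_, ?_, ?_⟩
  · intro a b
    obtain ⟨c, hc⟩ := hdir a b
    exact ⟨c, le_inf (extSubring_mono p B (hc.trans inf_le_left))
      (extSubring_mono p B (hc.trans inf_le_right))⟩
  · intro i
    haveI := hfin i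
    exact finite_extSubring p B (S i)
  · apply Set.Subset.antisymm
    · intro z hz
      rw [← hfam.inf]
      rw [SetLike.mem_coe, Subfield.mem_iInf] at hz ⊢
      intro i
      have hle : Subfield.closure ((algebraMap B (FractionRing B)) ''
          (extSubring p B (S i) : Set B)) ≤ extFam p κ (FractionRing B) i := by
        apply Subfield.closure_le.mpr
        rintro _ ⟨y, hy, rfl⟩
        have hle' : extSubring p B (S i) ≤ (extFam p κ (FractionRing B) i).toSubring.comap
            (algebraMap B (FractionRing B)) := by
          apply Subring.closure_le.mpr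
          rintro _ (⟨s, hs, rfl⟩ | ⟨y, rfl⟩)
          · show algebraMap B (FractionRing B) (algebraMap R₂ B s) ∈
              extFam p κ (FractionRing B) i
            rw [← IsScalarTower.algebraMap_apply,
              IsScalarTower.algebraMap_apply R₂ (FractionRing R₂) (FractionRing B)]
            apply algebraMap_mem_extFam
            exact Subfield.subset_closure ⟨s, hs, rfl⟩
          · show algebraMap B (FractionRing B) (y ^ p) ∈ extFam p κ (FractionRing B) i
            rw [map_pow]
            exact pow_mem_extFam p κ (FractionRing B) i _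
        exact hle' hy
      exact hle (hz i)
    · rintro _ ⟨z, rfl⟩
      rw [SetLike.mem_coe, Subfield.mem_iInf]
      intro i
      obtain ⟨a, s, hs, rfl⟩ := IsFractionRing.div_surjective (A := B) z
      show (algebraMap B (FractionRing B) a / algebraMap B (FractionRing B) s) ^ p ∈
        Subfield.closure ((algebraMap B (FractionRing B)) '' (extSubring p B (S i) : Set B))
      rw [div_pow, ← map_pow, ← map_pow]
      exact div_mem (Subfield.subset_closure ⟨_, pow_mem_extSubring p B (S i) a, rfl⟩)
        (Subfield.subset_closure ⟨_, pow_mem_extSubring p B (S i) s, rfl⟩)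

end Q1

end Groth.Agent.H5.GRC
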