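import Mathlib
import Groth.Prelude
import Groth.Agent.Lib.Helper5.CD.N6
import Groth.Agent.Lib.Helper5.CD.Q1

set_option autoImplicit false
universe u

open IsLocalRing

namespace Groth.Agent.H5.GRC

section Q4

set_option maxHeartbeats 1000000 in
/-- **Jacobian data**: for a domain `D` presented as a quotient of `R₀[Y_1..Y_s]`, with fraction
field finite over that of `R₀`, where `R₀` is a domain of characteristic `p` with a `p`-family,
there are `s` elements of the kernel and `s` derivations of the polynomial ring whose Jacobian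
determinant is not in the kernel. -/
theorem exists_jacobian_data
    (R₀ : Type u) [CommRing R₀] [IsDomain R₀] (p : ℕ) [hpp : Fact p.Prime]
    [CharP R₀ p] (hfam : HasPFamily p R₀)
    (D : Type u) [CommRing D] [IsDomain D] [Algebra R₀ D]
    (hinj : Function.Injective (algebraMap R₀ D))
    [Algebra (FractionRing R₀) (FractionRing D)]
    [IsScalarTower R₀ (FractionRing R₀) (FractionRing D)]
    [FiniteDimensional (FractionRing R₀) (FractionRing D)]
    (s : ℕ) (φ : MvPolynomial (Fin s) R₀ →ₐ[R₀] D) (hφ : Function.Surjective φ) :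
    ∃ (f : Fin s → MvPolynomial (Fin s) R₀)
      (E' : Fin s → Derivation ℤ (MvPolynomial (Fin s) R₀) (MvPolynomial (Fin s) R₀)),
      (∀ j, f j ∈ RingHom.ker φ.toRingHom) ∧
      Matrix.det (Matrix.of fun i j => E' i (f j)) ∉ RingHom.ker φ.toRingHom := by
  classical
  obtain ⟨I, hne, S, hdir, hfin, hInt⟩ := hfam
  have hinjL : Function.Injective (algebraMap R₀ (FractionRing D)) := by
    rw [IsScalarTower.algebraMap_eq R₀ D (FractionRing D)]
    exact (IsFractionRing.injective D (FractionRing D)).comp hinj
  haveI : CharP (FractionRing D) p := charP_of_injective_ringHom hinjL p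
  -- choice of the member of the family
  obtain ⟨i, hfinDer, hle⟩ := exists_finrank_derivation_le p (FractionRing R₀) (FractionRing D) S
    hdir hfin hInt
  set κ : Subfield (FractionRing R₀) :=
    Subfield.closure ((algebraMap R₀ (FractionRing R₀)) '' (S i : Set R₀)) with hκ
  haveI := hfin i
  haveI : FiniteDimensional (↥κ) (FractionRing R₀) :=
    finiteDimensional_closure (K := FractionRing R₀) (S i)
  obtain ⟨J, hJ, u, huLI, hcardJ⟩ := exists_differential_basis (R₀ := R₀) κ
  obtain ⟨δ, hδL, hδS, hδdet⟩ := exists_leibniz_det_ne_zero (K := FractionRing R₀) (S i) u huLI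
  letI algAD : Algebra (MvPolynomial (Fin s) R₀) D := φ.toRingHom.toAlgebra
  haveI : IsScalarTower R₀ (MvPolynomial (Fin s) R₀) D :=
    IsScalarTower.of_algebraMap_eq (fun r => (φ.commutes r).symm)
  haveI : IsScalarTower (MvPolynomial (Fin s) R₀) D (FractionRing D) := inferInstance
  have hAL : ∀ c : R₀, algebraMap (MvPolynomial (Fin s) R₀) (FractionRing D) (MvPolynomial.C c) =
      algebraMap R₀ (FractionRing D) c := by
    intro c
    rw [IsScalarTower.algebraMap_apply (MvPolynomial (Fin s) R₀) D (FractionRing D)]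
    show algebraMap D (FractionRing D) (φ (MvPolynomial.C c)) = _
    have h1 : φ (MvPolynomial.C c) = algebraMap R₀ D c := by
      rw [← MvPolynomial.algebraMap_eq]; exact φ.commutes c
    rw [h1, ← IsScalarTower.algebraMap_apply R₀ D (FractionRing D)]
  -- the Leibniz maps
  have hE := isLeibniz_polyE s δ hδL
  let Z : Set (MvPolynomial (Fin s) R₀) := MvPolynomial.C '' (S i : Set R₀)
  have hZ : ∀ m, ∀ z ∈ Z, polyE s δ m z = 0 := by
    rintro m _ ⟨a, ha, rfl⟩
    exact polyE_C s δ m a (fun j => hδS j a ha)
  have hx : algebraMap (MvPolynomial (Fin s) R₀) (FractionRing D)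
      (Matrix.det (Matrix.of fun m m' => polyE s δ m (polyX s u m'))) ≠ 0 := by
    rw [det_polyE_polyX s δ u hδL, hAL]
    intro h0
    exact hδdet (hinjL (h0.trans (map_zero _).symm))
  have himage : (algebraMap (MvPolynomial (Fin s) R₀) (FractionRing D)) '' Z =
      (algebraMap R₀ (FractionRing D)) '' (S i : Set R₀) := by
    ext z
    constructor
    · rintro ⟨_, ⟨a, ha, rfl⟩, rfl⟩
      exact ⟨a, ha, (hAL a).symm⟩
    · rintro ⟨a, ha, rfl⟩
      exact ⟨_, ⟨a, ha, rfl⟩, hAL a⟩
  have hcard : s + Module.finrank (FractionRing R₀) (Ω[FractionRing R₀⁄↥κ]) ≤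
      Fintype.card (Fin s ⊕ J) := by
    rw [Fintype.card_sum, Fintype.card_fin, hcardJ]
  rw [← himage] at hfinDer hle
  haveI := hfinDer
  obtain ⟨f, σ, hf0, hfdet⟩ := exists_minor_not_mem p (D := D) (L := FractionRing D)
    (show Function.Surjective (algebraMap (MvPolynomial (Fin s) R₀) D) from hφ)
    (polyE s δ) hE Z hZ (polyX s u) hx _ s hcard hle
  let E' : Fin s → Derivation ℤ (MvPolynomial (Fin s) R₀) (MvPolynomial (Fin s) R₀) := fun i' =>
    Derivation.mk' (polyE s δ (σ i')).toIntLinearMap (fun a c => by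
      show polyE s δ (σ i') (a * c) = a • polyE s δ (σ i') c + c • polyE s δ (σ i') a
      rw [hE (σ i') a c, smul_eq_mul, smul_eq_mul])
  refine ⟨f, E', fun j => hf0 j, ?_⟩
  intro hmem
  apply hfdet
  rw [IsScalarTower.algebraMap_apply (MvPolynomial (Fin s) R₀) D (FractionRing D)]
  have h0 : algebraMap (MvPolynomial (Fin s) R₀) D
      (Matrix.det (Matrix.of fun i' j => polyE s δ (σ i') (f j))) = 0 := hmem
  rw [h0, map_zero]

attribute [local instance] MvPolynomial.algebraMvPolynomial in
/-- the kernel of a presentation by `s` polynomial variables of a domain containing `R₀` has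
height at most `s`. -/
theorem height_ker_le' (R₀ D : Type u) [CommRing R₀] [IsDomain R₀] [IsNoetherianRing R₀]
    [CommRing D] [IsDomain D] [Algebra R₀ D]
    (hinj : Function.Injective (algebraMap R₀ D)) (s : ℕ)
    (φ : MvPolynomial (Fin s) R₀ →ₐ[R₀] D) :
    (RingHom.ker φ.toRingHom).height ≤ s := by
  classical
  haveI hprime : (RingHom.ker φ.toRingHom).IsPrime := RingHom.ker_isPrime _
  set P := RingHom.ker φ.toRingHom with hP
  let K₀ := FractionRing R₀
  -- the kernel is disjoint from the nonzero constants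
  have hdisj : Disjoint (((nonZeroDivisors R₀).map (MvPolynomial.C (σ := Fin s)) :
      Submonoid (MvPolynomial (Fin s) R₀)) : Set (MvPolynomial (Fin s) R₀)) (P : Set _) := by
    rw [Set.disjoint_left]
    rintro _ ⟨a, ha, rfl⟩ hmem
    have h1 : φ (MvPolynomial.C a) = 0 := hmem
    have h2 : φ (MvPolynomial.C a) = algebraMap R₀ D a := by
      rw [← MvPolynomial.algebraMap_eq]; exact φ.commutes a
    rw [h2] at h1
    have h3 : a = 0 := hinj (h1.trans (map_zero _).symm)
    exact (nonZeroDivisors.ne_zero ha) h3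
  have h1 := IsLocalization.height_map_of_disjoint (S := MvPolynomial (Fin s) K₀)
    ((nonZeroDivisors R₀).map (MvPolynomial.C (σ := Fin s))) P hdisj
  rw [← h1]
  have hne : P.map (algebraMap (MvPolynomial (Fin s) R₀) (MvPolynomial (Fin s) K₀)) ≠ ⊤ :=
    (IsLocalization.isPrime_of_isPrime_disjoint _ (MvPolynomial (Fin s) K₀) P hprime hdisj).ne_top
  have h2 := Ideal.height_le_ringKrullDim_of_ne_top hne
  rw [MvPolynomial.ringKrullDim_of_isNoetherianRing, Nat.card_fin,
    ringKrullDim_eq_zero_of_field, zero_add] at h2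
  exact_mod_cast h2

end Q4

end Groth.Agent.H5.GRC
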