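import Mathlib
import Groth.Prelude
import Groth.Agent.Lib.Helper5.CD.Q1
import Groth.Agent.S0543

set_option autoImplicit false
universe u

open TensorProduct IsLocalRing

namespace Groth.Agent.H5.GRC

section Q2

/-- **Theorem X, relative form**: if `R₀` is a Noetherian domain of characteristic `p` admitting a
`p`-family, then the generic formal fibre of a localisation of `R₀` at a prime is geometrically
regular as soon as it is regular. -/
theorem isGeometricallyRegular_formalFibre_of_hasPFamily
    (R₀ : Type u) [CommRing R₀] [IsDomain R₀] [IsNoetherianRing R₀] (p : ℕ) [hpp : Fact p.Prime]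
    [CharP R₀ p] (hfam : HasPFamily p R₀) (P₀ : Ideal R₀) [P₀.IsPrime]
    (hregF : IsRegularRing
      (EGA4.formalFibre (Localization.AtPrime P₀) (⊥ : Ideal (Localization.AtPrime P₀)))) :
    CAlg.IsGeometricallyRegular (⊥ : Ideal (Localization.AtPrime P₀)).ResidueField
      (EGA4.formalFibre (Localization.AtPrime P₀) (⊥ : Ideal (Localization.AtPrime P₀))) := by
  classical
  obtain ⟨I, hne, S, hdir, hfin, hInt⟩ := hfam
  haveI : IsNoetherianRing (Localization.AtPrime P₀) :=
    IsLocalization.isNoetherianRing P₀.primeCompl _ inferInstance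
  haveI : IsNoetherianRing
      (AdicCompletion (maximalIdeal (Localization.AtPrime P₀)) (Localization.AtPrime P₀)) :=
    Groth.Agent.S0543.result _ _
  letI algR : Algebra
      (AdicCompletion (maximalIdeal (Localization.AtPrime P₀)) (Localization.AtPrime P₀))
      (EGA4.formalFibre (Localization.AtPrime P₀) (⊥ : Ideal (Localization.AtPrime P₀))) :=
    Algebra.TensorProduct.rightAlgebra
  haveI hloc : IsLocalization (Algebra.algebraMapSubmonoid
      (AdicCompletion (maximalIdeal (Localization.AtPrime P₀)) (Localization.AtPrime P₀))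
      (nonZeroDivisors (Localization.AtPrime P₀)))
      (EGA4.formalFibre (Localization.AtPrime P₀) (⊥ : Ideal (Localization.AtPrime P₀))) :=
    IsLocalization.tensorRight
      (S := AdicCompletion (maximalIdeal (Localization.AtPrime P₀)) (Localization.AtPrime P₀))
      (A := (⊥ : Ideal (Localization.AtPrime P₀)).ResidueField)
      (nonZeroDivisors (Localization.AtPrime P₀))
  haveI hnF : IsNoetherianRing
      (EGA4.formalFibre (Localization.AtPrime P₀) (⊥ : Ideal (Localization.AtPrime P₀))) :=
    IsLocalization.isNoetherianRing (Algebra.algebraMapSubmonoid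
        (AdicCompletion (maximalIdeal (Localization.AtPrime P₀)) (Localization.AtPrime P₀))
        (nonZeroDivisors (Localization.AtPrime P₀))) _ inferInstance
  apply H5.NG.isGeometricallyRegular_of_forall_maximal
  intro m hm
  haveI : IsNoetherianRing (Localization.AtPrime m) :=
    IsLocalization.isNoetherianRing m.primeCompl _ inferInstance
  rw [H5.NG.isGeometricallyRegular_iff_isAdicFormallySmooth,
    Groth.Agent.H5.KF.isAdicFormallySmooth_iff_regular_and_injective]
  refine ⟨hregF.isRegularLocalRing_localization m, ?_⟩
  haveI : IsScalarTower R₀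
      (⊥ : Ideal (Localization.AtPrime P₀)).ResidueField (Localization.AtPrime m) :=
    inferInstance
  haveI : IsFractionRing R₀ (⊥ : Ideal (Localization.AtPrime P₀)).ResidueField :=
    isFractionRing_of_tower R₀ (Localization.AtPrime P₀) _
      P₀.primeCompl P₀.primeCompl_le_nonZeroDivisors
  have hInt' : (⨅ i, (Subfield.closure ((algebraMap R₀ (FractionRing R₀)) '' (S i : Set R₀)) :
      Set (FractionRing R₀))) = Set.range (fun x : FractionRing R₀ => x ^ p) := by
    rw [Set.iInf_eq_iInter, ← Subfield.coe_iInf]
    exact hInt
  refine injective_lTensor_mapBaseChange p S hdir hfin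
    (iInf_closure_transfer (FractionRing R₀) _ p S hInt') ?_
  intro δ hδ
  obtain ⟨δ₁, h₁L, h₁⟩ := exists_leibniz_localization (Q := Localization.AtPrime P₀)
    P₀.primeCompl δ hδ
  obtain ⟨δ', hL, h'⟩ := exists_leibniz_formalFibre (Localization.AtPrime P₀) m
    (Localization.AtPrime m) δ₁ h₁L
  refine ⟨δ', hL, fun a => ?_⟩
  rw [IsScalarTower.algebraMap_apply R₀
      (⊥ : Ideal (Localization.AtPrime P₀)).ResidueField (Localization.AtPrime m),
    IsScalarTower.algebraMap_apply R₀
      (⊥ : Ideal (Localization.AtPrime P₀)).ResidueField (Localization.AtPrime m),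
    IsScalarTower.algebraMap_apply R₀ (Localization.AtPrime P₀)
      (⊥ : Ideal (Localization.AtPrime P₀)).ResidueField, h', h₁,
    ← IsScalarTower.algebraMap_apply R₀ (Localization.AtPrime P₀)
      (⊥ : Ideal (Localization.AtPrime P₀)).ResidueField]

/-- variant: the localisation is regular. -/
theorem isGeometricallyRegular_formalFibre_of_hasPFamily_of_regular
    (R₀ : Type u) [CommRing R₀] [IsDomain R₀] [IsNoetherianRing R₀] (p : ℕ) [hpp : Fact p.Prime]
    [CharP R₀ p] (hfam : HasPFamily p R₀) (P₀ : Ideal R₀) [P₀.IsPrime]
    [IsRegularLocalRing (Localization.AtPrime P₀)] :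
    CAlg.IsGeometricallyRegular (⊥ : Ideal (Localization.AtPrime P₀)).ResidueField
      (EGA4.formalFibre (Localization.AtPrime P₀) (⊥ : Ideal (Localization.AtPrime P₀))) := by
  apply isGeometricallyRegular_formalFibre_of_hasPFamily R₀ p hfam P₀
  haveI : IsRegularLocalRing
      (AdicCompletion (maximalIdeal (Localization.AtPrime P₀)) (Localization.AtPrime P₀)) :=
    (Groth.Agent.S0548.result (Localization.AtPrime P₀)).mp inferInstance
  haveI : IsRegularRing
      (AdicCompletion (maximalIdeal (Localization.AtPrime P₀)) (Localization.AtPrime P₀)) :=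
    H5.NG.isRegularRing_of_isRegularLocalRing _
  letI algR : Algebra
      (AdicCompletion (maximalIdeal (Localization.AtPrime P₀)) (Localization.AtPrime P₀))
      (EGA4.formalFibre (Localization.AtPrime P₀) (⊥ : Ideal (Localization.AtPrime P₀))) :=
    Algebra.TensorProduct.rightAlgebra
  haveI hloc : IsLocalization (Algebra.algebraMapSubmonoid
      (AdicCompletion (maximalIdeal (Localization.AtPrime P₀)) (Localization.AtPrime P₀))
      (nonZeroDivisors (Localization.AtPrime P₀)))
      (EGA4.formalFibre (Localization.AtPrime P₀) (⊥ : Ideal (Localization.AtPrime P₀))) :=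
    IsLocalization.tensorRight
      (S := AdicCompletion (maximalIdeal (Localization.AtPrime P₀)) (Localization.AtPrime P₀))
      (A := (⊥ : Ideal (Localization.AtPrime P₀)).ResidueField)
      (nonZeroDivisors (Localization.AtPrime P₀))
  exact Groth.Agent.H1.Reg.isRegularRing_of_isLocalization
    (AdicCompletion (maximalIdeal (Localization.AtPrime P₀)) (Localization.AtPrime P₀))
    (Algebra.algebraMapSubmonoid
      (AdicCompletion (maximalIdeal (Localization.AtPrime P₀)) (Localization.AtPrime P₀))
      (nonZeroDivisors (Localization.AtPrime P₀))) _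

end Q2

end Groth.Agent.H5.GRC
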