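import Mathlib
import Groth.Prelude
import Groth.Agent.Lib.Helper5.CD.N7
import Groth.Agent.Lib.Helper7.Reg1

set_option autoImplicit false
universe u

open IsLocalRing

namespace Groth.Agent.H5.GRC

section Q6
variable {T A : Type u} [CommRing T] [IsNoetherianRing T] [CommRing A] [Algebra T A] [IsRegularRing A]
  (P : Ideal T) [P.IsPrime] (Q : Ideal A) [Q.IsPrime] (hQP : Q.comap (algebraMap T A) = P)
  (s : ℕ) (hht : P.height ≤ s) (f : Fin s → T) (hf : ∀ j, f j ∈ P)
  (E : Fin s → Derivation ℤ A A)
  (hdet : Matrix.det (Matrix.of fun i j => E i (algebraMap T A (f j))) ∉ Q)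

include hQP hht hf hdet in
/-- **Jacobian criterion along an extension**: if `s ≥ ht P` elements of the prime `P` of `T` have
a Jacobian determinant (for derivations of the regular ring `A`) outside the prime `Q` of `A` lying
over `P`, they generate `P A_Q`. -/
theorem map_map_eq_span_of_jacobian :
    (P.map (algebraMap T A)).map (algebraMap A (Localization.AtPrime Q)) =
      Ideal.span (Set.range fun j =>
        algebraMap A (Localization.AtPrime Q) (algebraMap T A (f j))) := by
  classical
  set 𝔞 : Ideal A := P.map (algebraMap T A) with h𝔞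
  have h𝔞Q : 𝔞 ≤ Q := by
    rw [h𝔞, Ideal.map_le_iff_le_comap, hQP]
  have hf𝔞 : ∀ j, algebraMap T A (f j) ∈ 𝔞 := fun j => Ideal.mem_map_of_mem _ (hf j)
  -- a minimal prime
  obtain ⟨𝔮, h𝔮min, h𝔮Q⟩ := Ideal.exists_minimalPrimes_le h𝔞Q
  haveI h𝔮prime : 𝔮.IsPrime := h𝔮min.1.1
  have h𝔞𝔮 : 𝔞 ≤ 𝔮 := h𝔮min.1.2
  have hcomap : 𝔮.comap (algebraMap T A) = P := by
    apply le_antisymm
    · rw [← hQP]; exact Ideal.comap_mono h𝔮Q
    · rw [← Ideal.map_le_iff_le_comap]; exact h𝔞𝔮
  haveI : 𝔮.LiesOver P := ⟨hcomap.symm⟩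
  -- its height
  have hht𝔮 : 𝔮.height ≤ s := by
    have h1 := Ideal.height_le_height_add_of_liesOver P 𝔮
    have h2 : (𝔮.map (Ideal.Quotient.mk (P.map (algebraMap T A)))).height = 0 := by
      have h3 : 𝔮 ∈ Ideal.comap (Ideal.Quotient.mk 𝔞) '' minimalPrimes (A ⧸ 𝔞) := by
        rw [← Ideal.minimalPrimes_eq_comap]; exact h𝔮min
      obtain ⟨𝔮', h𝔮', rfl⟩ := h3
      haveI : 𝔮'.IsPrime := h𝔮'.1.1
      rw [Ideal.map_comap_of_surjective _ Ideal.Quotient.mk_surjective, Ideal.height_eq_zero_iff]
      exact h𝔮'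
    rw [h2, add_zero] at h1
    exact h1.trans hht
  have hdet𝔮 : Matrix.det (Matrix.of fun i j => E i (algebraMap T A (f j))) ∉ 𝔮 :=
    fun h => hdet (h𝔮Q h)
  have hspan𝔮 := map_eq_span_of_jacobian 𝔮 s hht𝔮 (fun j => algebraMap T A (f j))
    (fun j => h𝔞𝔮 (hf𝔞 j)) E hdet𝔮
  -- the ideal generated in `A_Q` is prime
  haveI : IsRegularLocalRing (Localization.AtPrime Q) :=
    IsRegularRing.isRegularLocalRing_localization Q
  choose D' hD' using fun i => exists_derivation_localization (Q := Localization.AtPrime Q)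
    Q.primeCompl (E i)
  let F : Fin s → Localization.AtPrime Q := fun j =>
    algebraMap A (Localization.AtPrime Q) (algebraMap T A (f j))
  have hF : ∀ j, F j ∈ maximalIdeal (Localization.AtPrime Q) := fun j =>
    (IsLocalization.AtPrime.to_map_mem_maximal_iff (Localization.AtPrime Q) Q _).mpr
      (h𝔞Q (hf𝔞 j))
  have hdet' : IsUnit (Matrix.det (Matrix.of (fun i j : Fin s => D' i (F j)))) := by
    have h1 : (Matrix.of (fun i j : Fin s => D' i (F j))) =
        (algebraMap A (Localization.AtPrime Q)).mapMatrix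
          (Matrix.of fun i j => E i (algebraMap T A (f j))) := by
      ext i j
      simp only [Matrix.of_apply, RingHom.mapMatrix_apply, Matrix.map_apply]
      exact hD' i _
    rw [h1, ← RingHom.map_det]
    exact IsLocalization.map_units (Localization.AtPrime Q)
      (⟨_, hdet⟩ : Q.primeCompl)
  obtain ⟨hreg, -⟩ := Groth.Agent.H1.RegDer.regular_of_derivations (Localization.AtPrime Q) s F hF
    D' hdet'
  haveI : IsDomain (Localization.AtPrime Q ⧸ Ideal.span (Set.range F)) :=
    Groth.Agent.H7.Reg.isDomain _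
  have hI'prime : (Ideal.span (Set.range F)).IsPrime :=
    (Ideal.Quotient.isDomain_iff_prime _).mp inferInstance
  -- the span of the `f j` in `A`
  set If : Ideal A := Ideal.span (Set.range fun j => algebraMap T A (f j)) with hIf
  have hIfmap : ∀ (P' : Ideal A) [P'.IsPrime], If.map (algebraMap A (Localization.AtPrime P')) =
      Ideal.span (Set.range fun j => algebraMap A (Localization.AtPrime P')
        (algebraMap T A (f j))) := by
    intro P' _
    rw [hIf, Ideal.map_span, ← Set.range_comp]
    rfl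
  have hIf𝔞 : If ≤ 𝔞 := by
    rw [hIf, Ideal.span_le]
    rintro _ ⟨j, rfl⟩
    exact hf𝔞 j
  -- `𝔮 A_Q` is contained in the prime generated by the `f j`
  have h𝔮le : 𝔮.map (algebraMap A (Localization.AtPrime Q)) ≤ Ideal.span (Set.range F) := by
    rw [Ideal.map_le_iff_le_comap]
    intro a ha
    have h1 : algebraMap A (Localization.AtPrime 𝔮) a ∈
        If.map (algebraMap A (Localization.AtPrime 𝔮)) := by
      rw [hIfmap 𝔮, ← hspan𝔮]
      exact Ideal.mem_map_of_mem _ ha
    obtain ⟨t, ht, hta⟩ := (IsLocalization.algebraMap_mem_map_algebraMap_iff 𝔮.primeCompl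
      (Localization.AtPrime 𝔮) If a).mp h1
    have h2 : algebraMap A (Localization.AtPrime Q) (t * a) ∈ Ideal.span (Set.range F) := by
      have := Ideal.mem_map_of_mem (algebraMap A (Localization.AtPrime Q)) hta
      rwa [hIfmap Q] at this
    rw [map_mul] at h2
    rcases hI'prime.mem_or_mem h2 with h3 | h3
    · exfalso
      apply ht
      have h4 : algebraMap A (Localization.AtPrime Q) t ∈
          𝔮.map (algebraMap A (Localization.AtPrime Q)) := by
        have h5 : Ideal.span (Set.range F) ≤ 𝔮.map (algebraMap A (Localization.AtPrime Q)) := by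
          rw [Ideal.span_le]
          rintro _ ⟨j, rfl⟩
          exact Ideal.mem_map_of_mem _ (h𝔞𝔮 (hf𝔞 j))
        exact h5 h3
      have hdisj : Disjoint (Q.primeCompl : Set A) (𝔮 : Set A) := by
        rw [Set.disjoint_left]
        intro x hx hx𝔮
        exact hx (h𝔮Q hx𝔮)
      have h6 := IsLocalization.under_map_of_isPrime_disjoint Q.primeCompl
        (Localization.AtPrime Q) h𝔮prime hdisj
      have h7 : t ∈ (𝔮.map (algebraMap A (Localization.AtPrime Q))).under A := h4
      rw [h6] at h7
      exact h7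
    · exact h3
  apply le_antisymm
  · exact (Ideal.map_mono h𝔞𝔮).trans h𝔮le
  · rw [Ideal.span_le]
    rintro _ ⟨j, rfl⟩
    exact Ideal.mem_map_of_mem _ (hf𝔞 j)

include hQP hht hf hdet in
/-- **regularity of the quotient along an extension**. -/
theorem isRegularLocalRing_quotient_map_of_jacobian
    [(Q.map (Ideal.Quotient.mk (P.map (algebraMap T A)))).IsPrime] :
    IsRegularLocalRing
      (Localization.AtPrime (Q.map (Ideal.Quotient.mk (P.map (algebraMap T A))))) := by
  have h𝔞Q : P.map (algebraMap T A) ≤ Q := by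
    rw [Ideal.map_le_iff_le_comap, hQP]
  exact regular_of_jacobian_int (P.map (algebraMap T A)) Q h𝔞Q s E
    (fun j => algebraMap T A (f j)) (fun j => Ideal.mem_map_of_mem _ (hf j))
    (map_map_eq_span_of_jacobian P Q hQP s hht f hf E hdet) hdet

end Q6

end Groth.Agent.H5.GRC
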