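import Mathlib
import Groth.Prelude
import Groth.Agent.Lib.Helper5.CD.K5
import Groth.Agent.Lib.Helper1.RegRing

set_option autoImplicit false
universe u

open IsLocalRing

namespace Groth.Agent.H5.GRC

section Q7

/-- derivations extend to adic completions. -/
theorem exists_derivation_completion {A : Type u} [CommRing A] (I : Ideal A)
    (E : Derivation ℤ A A) :
    ∃ E' : Derivation ℤ (AdicCompletion I A) (AdicCompletion I A),
      ∀ a, E' (algebraMap A (AdicCompletion I A) a) = algebraMap A (AdicCompletion I A) (E a) := by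
  obtain ⟨δ', hL, h'⟩ := exists_leibniz_completion I (E : A →ₗ[ℤ] A).toAddMonoidHom (fun a c => by
    show E (a * c) = a * E c + c * E a
    rw [Derivation.leibniz, smul_eq_mul, smul_eq_mul])
  refine ⟨Derivation.mk' δ'.toIntLinearMap (fun a c => ?_), fun a => h' a⟩
  show δ' (a * c) = a • δ' c + c • δ' a
  rw [hL, smul_eq_mul, smul_eq_mul]

/-- a localisation is regular as soon as the local rings at the primes avoiding the submonoid
are regular. -/
theorem isRegularRing_of_isLocalization_of_forall (R : Type u) [CommRing R] [IsNoetherianRing R]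
    (M : Submonoid R) (R' : Type u) [CommRing R'] [Algebra R R'] [IsLocalization M R']
    (h : ∀ (Q : Ideal R) [Q.IsPrime], Disjoint (M : Set R) (Q : Set R) →
      IsRegularLocalRing (Localization.AtPrime Q)) :
    IsRegularRing R' := by
  haveI : IsNoetherianRing R' := IsLocalization.isNoetherianRing M R' inferInstance
  rw [isRegularRing_iff]
  intro q hq
  haveI : IsLocalization.AtPrime (Localization.AtPrime q) (q.comap (algebraMap R R')) :=
    IsLocalization.isLocalization_isLocalization_atPrime_isLocalization M (Localization.AtPrime q) q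
  have hdisj : Disjoint (M : Set R) ((q.comap (algebraMap R R') : Ideal R) : Set R) := by
    rw [Set.disjoint_left]
    intro x hxM hxq
    have h1 : IsUnit (algebraMap R R' x) := IsLocalization.map_units R' ⟨x, hxM⟩
    exact hq.ne_top (Ideal.eq_top_of_isUnit_mem _ hxq h1)
  haveI := h (q.comap (algebraMap R R')) hdisj
  exact IsRegularLocalRing.of_ringEquiv
    (IsLocalization.algEquiv (q.comap (algebraMap R R')).primeCompl
      (Localization.AtPrime (q.comap (algebraMap R R'))) (Localization.AtPrime q)).toRingEquiv

/-- transport of regularity of a local ring along a ring isomorphism. -/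
theorem isRegularLocalRing_atPrime_of_ringEquiv {X Y : Type u} [CommRing X] [CommRing Y]
    (e : X ≃+* Y) (Q : Ideal Y) [Q.IsPrime] (Q' : Ideal X) [Q'.IsPrime]
    (hQ : Q' = Q.comap (e : X →+* Y)) (h : IsRegularLocalRing (Localization.AtPrime Q')) :
    IsRegularLocalRing (Localization.AtPrime Q) := by
  subst hQ
  have H : (Q.comap (e : X →+* Y)).primeCompl.map e.toMonoidHom = Q.primeCompl := by
    ext x
    constructor
    · rintro ⟨y, hy, rfl⟩
      exact hy
    · intro hx
      refine ⟨e.symm x, ?_, e.apply_symm_apply x⟩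
      show e.symm x ∉ Q.comap (e : X →+* Y)
      intro h'
      apply hx
      have : e (e.symm x) ∈ Q := h'
      rwa [e.apply_symm_apply] at this
  exact IsRegularLocalRing.of_ringEquiv (IsLocalization.ringEquivOfRingEquiv
    (Localization.AtPrime (Q.comap (e : X →+* Y))) (Localization.AtPrime Q) e H)

/-- transport of regularity of a local ring along a surjection with prescribed kernel. -/
theorem isRegularLocalRing_atPrime_of_surjective {A Y : Type u} [CommRing A] [CommRing Y]
    (ψ : A →+* Y) (hψ : Function.Surjective ψ) (𝔞 : Ideal A) (h𝔞 : RingHom.ker ψ = 𝔞)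
    (Q : Ideal Y) [Q.IsPrime] [((Q.comap ψ).map (Ideal.Quotient.mk 𝔞)).IsPrime]
    (h : IsRegularLocalRing (Localization.AtPrime ((Q.comap ψ).map (Ideal.Quotient.mk 𝔞)))) :
    IsRegularLocalRing (Localization.AtPrime Q) := by
  subst h𝔞
  let e : (A ⧸ RingHom.ker ψ) ≃+* Y := RingHom.quotientKerEquivOfSurjective hψ
  refine isRegularLocalRing_atPrime_of_ringEquiv e Q _ ?_ h
  ext x
  obtain ⟨a, rfl⟩ := Ideal.Quotient.mk_surjective x
  rw [Ideal.mem_comap]
  have he : (e : (A ⧸ RingHom.ker ψ) →+* Y) (Ideal.Quotient.mk _ a) = ψ a := rfl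
  rw [he]
  constructor
  · intro hmem
    rw [Ideal.mem_map_iff_of_surjective _ Ideal.Quotient.mk_surjective] at hmem
    obtain ⟨a', ha', haa'⟩ := hmem
    have h1 : ψ a' = ψ a := by
      have := congrArg e haa'
      exact this
    rw [← h1]
    exact ha'
  · intro hmem
    exact Ideal.mem_map_of_mem _ hmem

end Q7

end Groth.Agent.H5.GRC
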