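import Mathlib
import Groth.Prelude
import Groth.Agent.Lib.Helper5.CD.Q6
import Groth.Agent.Lib.Helper5.CD.Q7
import Groth.Agent.Lib.Helper5.CD.Q2
import Groth.Agent.Lib.Helper1.ComplQuot
import Groth.Agent.S0548

set_option autoImplicit false
universe u

open IsLocalRing

namespace Groth.Agent.H5.GRC

section Q8

/-- the kernel of the map induced on localisations by a surjection onto a domain. -/
theorem ker_localRingHom_of_surjective {T D : Type u} [CommRing T] [CommRing D] [IsDomain D]
    (φ : T →+* D) (𝔫 : Ideal D) [𝔫.IsPrime] :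
    RingHom.ker (Localization.localRingHom (𝔫.comap φ) 𝔫 φ rfl) =
      (RingHom.ker φ).map (algebraMap T (Localization.AtPrime (𝔫.comap φ))) := by
  haveI hPprime : (RingHom.ker φ).IsPrime := RingHom.ker_isPrime φ
  have hle : RingHom.ker φ ≤ 𝔫.comap φ := by
    intro a ha
    rw [Ideal.mem_comap, (RingHom.mem_ker).mp ha]
    exact zero_mem _
  ext x
  obtain ⟨⟨a, t⟩, rfl⟩ := IsLocalization.mk'_surjective (𝔫.comap φ).primeCompl x
  rw [RingHom.mem_ker, Localization.localRingHom_mk', IsLocalization.mk'_eq_zero_iff,
    IsLocalization.mk'_mem_map_algebraMap_iff]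
  constructor
  · rintro ⟨m, hm⟩
    have hm0 : (m : D) ≠ 0 := fun h0 => m.2 (h0 ▸ zero_mem _)
    have h1 : φ a = 0 := (mul_eq_zero.mp hm).resolve_left hm0
    exact ⟨1, Submonoid.one_mem _, by rw [one_mul]; exact h1⟩
  · rintro ⟨m, hm, hma⟩
    have h1 : m ∉ RingHom.ker φ := fun h => hm (hle h)
    have h2 : a ∈ RingHom.ker φ := (hPprime.mem_or_mem hma).resolve_left h1
    exact ⟨1, by rw [(RingHom.mem_ker).mp h2, mul_zero]⟩

set_option maxHeartbeats 1000000 in
/-- **regular generic formal fibres from a Jacobian**: let `D` be a domain, quotient of the regular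
ring `T` by a prime of height at most `s` containing `s` elements whose Jacobian determinant (for
`s` derivations of `T`) does not vanish on `D`.  Then the generic formal fibre of every
localisation of `D` at a prime is a regular ring. -/
theorem isRegularRing_formalFibre_of_jacobian
    {T D : Type u} [CommRing T] [IsRegularRing T] [CommRing D] [IsDomain D]
    (φ : T →+* D) (hφ : Function.Surjective φ)
    (s : ℕ) (hht : (RingHom.ker φ).height ≤ s) (f : Fin s → T) (hf : ∀ j, f j ∈ RingHom.ker φ)
    (E : Fin s → Derivation ℤ T T)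
    (hdet : Matrix.det (Matrix.of fun i j => E i (f j)) ∉ RingHom.ker φ)
    (𝔫 : Ideal D) [𝔫.IsPrime] :
    IsRegularRing
      (EGA4.formalFibre (Localization.AtPrime 𝔫) (⊥ : Ideal (Localization.AtPrime 𝔫))) := by
  classical
  haveI hPprime : (RingHom.ker φ).IsPrime := RingHom.ker_isPrime φ
  haveI : IsNoetherianRing D := isNoetherianRing_of_surjective T D φ hφ
  haveI : IsNoetherianRing (Localization.AtPrime 𝔫) :=
    IsLocalization.isNoetherianRing 𝔫.primeCompl _ inferInstance
  haveI : IsNoetherianRing (Localization.AtPrime (𝔫.comap φ)) :=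
    IsLocalization.isNoetherianRing (𝔫.comap φ).primeCompl _ inferInstance
  haveI : IsRegularLocalRing (Localization.AtPrime (𝔫.comap φ)) :=
    IsRegularRing.isRegularLocalRing_localization (𝔫.comap φ)
  let g : Localization.AtPrime (𝔫.comap φ) →+* Localization.AtPrime 𝔫 :=
    Localization.localRingHom (𝔫.comap φ) 𝔫 φ rfl
  have hg : Function.Surjective g := RingHom.surjective_localRingHom_of_surjective φ hφ 𝔫
  haveI : IsRegularLocalRing (AdicCompletion (maximalIdeal (Localization.AtPrime (𝔫.comap φ)))
      (Localization.AtPrime (𝔫.comap φ))) :=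
    (Groth.Agent.S0548.result (Localization.AtPrime (𝔫.comap φ))).mp inferInstance
  haveI : IsRegularRing (AdicCompletion (maximalIdeal (Localization.AtPrime (𝔫.comap φ)))
      (Localization.AtPrime (𝔫.comap φ))) :=
    H5.NG.isRegularRing_of_isRegularLocalRing _
  haveI : IsNoetherianRing
      (AdicCompletion (maximalIdeal (Localization.AtPrime 𝔫)) (Localization.AtPrime 𝔫)) :=
    Groth.Agent.S0543.result _ _
  have hmax : maximalIdeal (Localization.AtPrime 𝔫) =
      (maximalIdeal (Localization.AtPrime (𝔫.comap φ))).map g :=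
    (IsLocalRing.map_maximalIdeal_of_surjective g hg).symm
  let ψ := Groth.Agent.H1.ComplQuot.compMap g (maximalIdeal (Localization.AtPrime (𝔫.comap φ)))
    (maximalIdeal (Localization.AtPrime 𝔫)) hmax
  have hψ : Function.Surjective ψ :=
    Groth.Agent.H1.ComplQuot.compMap_surjective g _ _ hg hmax
  have hker : RingHom.ker ψ = (RingHom.ker φ).map (algebraMap T
      (AdicCompletion (maximalIdeal (Localization.AtPrime (𝔫.comap φ)))
        (Localization.AtPrime (𝔫.comap φ)))) := by
    rw [Groth.Agent.H1.ComplQuot.ker_compMap g _ _ hg hmax, ker_localRingHom_of_surjective φ 𝔫,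
      Ideal.map_map]
    rfl
  -- derivations
  choose E1 hE1 using fun i => exists_derivation_localization
    (Q := Localization.AtPrime (𝔫.comap φ)) (𝔫.comap φ).primeCompl (E i)
  choose E2 hE2 using fun i => exists_derivation_completion
    (maximalIdeal (Localization.AtPrime (𝔫.comap φ))) (E1 i)
  have halg : ∀ t : T, algebraMap T (AdicCompletion
      (maximalIdeal (Localization.AtPrime (𝔫.comap φ))) (Localization.AtPrime (𝔫.comap φ))) t =
      algebraMap (Localization.AtPrime (𝔫.comap φ)) _
        (algebraMap T (Localization.AtPrime (𝔫.comap φ)) t) := fun t => rfl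
  have hE2' : ∀ i t, E2 i (algebraMap T _ t) = algebraMap T _ (E i t) := by
    intro i t
    rw [halg, hE2, hE1, ← halg]
  -- the formal fibre as a localisation
  letI algR : Algebra
      (AdicCompletion (maximalIdeal (Localization.AtPrime 𝔫)) (Localization.AtPrime 𝔫))
      (EGA4.formalFibre (Localization.AtPrime 𝔫) (⊥ : Ideal (Localization.AtPrime 𝔫))) :=
    Algebra.TensorProduct.rightAlgebra
  haveI hloc : IsLocalization (Algebra.algebraMapSubmonoid
      (AdicCompletion (maximalIdeal (Localization.AtPrime 𝔫)) (Localization.AtPrime 𝔫))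
      (nonZeroDivisors (Localization.AtPrime 𝔫)))
      (EGA4.formalFibre (Localization.AtPrime 𝔫) (⊥ : Ideal (Localization.AtPrime 𝔫))) :=
    IsLocalization.tensorRight
      (S := AdicCompletion (maximalIdeal (Localization.AtPrime 𝔫)) (Localization.AtPrime 𝔫))
      (A := (⊥ : Ideal (Localization.AtPrime 𝔫)).ResidueField)
      (nonZeroDivisors (Localization.AtPrime 𝔫))
  apply isRegularRing_of_isLocalization_of_forall
    (AdicCompletion (maximalIdeal (Localization.AtPrime 𝔫)) (Localization.AtPrime 𝔫))
    (Algebra.algebraMapSubmonoid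
      (AdicCompletion (maximalIdeal (Localization.AtPrime 𝔫)) (Localization.AtPrime 𝔫))
      (nonZeroDivisors (Localization.AtPrime 𝔫)))
  intro Q' _ hdisj
  -- `Q'` lies over the generic point
  have hQ'B : ∀ x : Localization.AtPrime 𝔫, algebraMap (Localization.AtPrime 𝔫)
      (AdicCompletion (maximalIdeal (Localization.AtPrime 𝔫)) (Localization.AtPrime 𝔫)) x ∈ Q' →
      x = 0 := by
    intro x hx
    by_contra hx0
    have h1 : x ∈ nonZeroDivisors (Localization.AtPrime 𝔫) := mem_nonZeroDivisors_of_ne_zero hx0
    exact (Set.disjoint_left.mp hdisj) ⟨x, h1, rfl⟩ hx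
  have hinjD : Function.Injective (algebraMap D (Localization.AtPrime 𝔫)) :=
    IsLocalization.injective _ 𝔫.primeCompl_le_nonZeroDivisors
  have hQT : (Q'.comap ψ).comap (algebraMap T _) = RingHom.ker φ := by
    ext t
    rw [Ideal.mem_comap, Ideal.mem_comap, RingHom.mem_ker, halg,
      Groth.Agent.H1.ComplQuot.compMap_of]
    have h1 : g (algebraMap T (Localization.AtPrime (𝔫.comap φ)) t) =
        algebraMap D (Localization.AtPrime 𝔫) (φ t) := Localization.localRingHom_to_map _ _ _ _ _
    rw [h1]
    constructor
    · intro h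
      exact hinjD ((hQ'B _ h).trans (map_zero _).symm)
    · intro h
      rw [h, map_zero, map_zero]
      exact zero_mem _
  have hdetQ : Matrix.det (Matrix.of fun i j => E2 i (algebraMap T _ (f j))) ∉ Q'.comap ψ := by
    have h1 : (Matrix.of fun i j => E2 i (algebraMap T _ (f j))) =
        (algebraMap T (AdicCompletion (maximalIdeal (Localization.AtPrime (𝔫.comap φ)))
          (Localization.AtPrime (𝔫.comap φ)))).mapMatrix (Matrix.of fun i j => E i (f j)) := by
      apply Matrix.ext
      intro i j
      simp only [Matrix.of_apply, RingHom.mapMatrix_apply, Matrix.map_apply]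
      exact hE2' i (f j)
    rw [h1, ← RingHom.map_det]
    intro hmem
    apply hdet
    rw [← hQT]
    exact hmem
  haveI : ((Q'.comap ψ).map (Ideal.Quotient.mk ((RingHom.ker φ).map (algebraMap T
      (AdicCompletion (maximalIdeal (Localization.AtPrime (𝔫.comap φ)))
        (Localization.AtPrime (𝔫.comap φ))))))).IsPrime := by
    apply Ideal.map_isPrime_of_surjective Ideal.Quotient.mk_surjective
    rw [Ideal.mk_ker, Ideal.map_le_iff_le_comap, hQT]
  have hreg := isRegularLocalRing_quotient_map_of_jacobian (RingHom.ker φ) (Q'.comap ψ) hQT s hht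
    f hf E2 hdetQ
  exact isRegularLocalRing_atPrime_of_surjective ψ hψ _ hker Q' hreg

end Q8

end Groth.Agent.H5.GRC
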