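import Mathlib
import Groth.Prelude
import Groth.Agent.Lib.Helper5.CD.Q4
import Groth.Agent.Lib.Helper5.CD.Q8
import Groth.Agent.Lib.Helper3.CA.GRingGeneric

set_option autoImplicit false
universe u

open TensorProduct IsLocalRing

namespace Groth.Agent.H5.GRC

section Q9a

open Groth.Agent.H3.GRingGeneric Groth.Agent.H3.RegHomBC Groth.Agent.H8.NHB

variable (R : Type u) [CommRing R] [IsNoetherianRing R]

/-- a formal fibre of `R_p` is geometrically regular as soon as the generic formal fibre of the
corresponding local quotient is (single-prime version of helper3's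
`GRingGeneric.isGeomReg_fiber_of_generic`). -/
theorem isGeomReg_fiber_of_generic_single (p : Ideal R) [p.IsPrime]
    (q' : Ideal (Localization.AtPrime p)) [q'.IsPrime]
    (q : Ideal R) [hqprime : q.IsPrime]
    (hq : q = q'.comap (algebraMap R (Localization.AtPrime p)))
    (P : Ideal (R ⧸ q)) [hPprime : P.IsPrime] (hP : P = p.map (Ideal.Quotient.mk q))
    (H : CAlg.IsGeometricallyRegular (⊥ : Ideal (Localization.AtPrime P)).ResidueField
          (EGA4.formalFibre (Localization.AtPrime P) (⊥ : Ideal (Localization.AtPrime P)))) :
    CAlg.IsGeometricallyRegular q'.ResidueField (q'.Fiber (EGA4.Cpl (Localization.AtPrime p))) := by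
  have hqp : q ≤ p := by
    have h1 : q' ≤ maximalIdeal (Localization.AtPrime p) := le_maximalIdeal (Ideal.IsPrime.ne_top ‹_›)
    have h2 : q ≤ (maximalIdeal (Localization.AtPrime p)).under R := by
      rw [hq]
      exact Ideal.comap_mono (f := algebraMap R (Localization.AtPrime p)) h1
    rwa [Localization.AtPrime.under_maximalIdeal] at h2
  have hIJ : p = P.comap (Ideal.Quotient.mk q) := by
    rw [hP, Ideal.comap_map_of_surjective _ Ideal.Quotient.mk_surjective, ← RingHom.ker_eq_comap_bot,
      Ideal.mk_ker, sup_eq_left.mpr hqp]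
  letI : Algebra (Localization.AtPrime p) (Localization.AtPrime P) :=
    (Localization.localRingHom p P (Ideal.Quotient.mk q) hIJ).toAlgebra
  have hs : Function.Surjective (algebraMap (Localization.AtPrime p) (Localization.AtPrime P)) :=
    surjective_localRingHom R q P p hIJ
  obtain ⟨Φ⟩ := nonempty_cplTensorEquiv (Localization.AtPrime p) (Localization.AtPrime P) hs
  have h1 := H
  haveI : IsDomain (R ⧸ q) := inferInstance
  haveI : IsDomain (Localization.AtPrime P) := inferInstance
  haveI : (⊥ : Ideal (Localization.AtPrime P)).IsPrime := inferInstance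
  letI : CommRing (Localization.AtPrime P ⊗[Localization.AtPrime p] EGA4.Cpl (Localization.AtPrime p)) := inferInstance
  letI : Algebra (Localization.AtPrime P) (Localization.AtPrime P ⊗[Localization.AtPrime p] EGA4.Cpl (Localization.AtPrime p)) := inferInstance
  have h2 : CAlg.IsGeometricallyRegular (⊥ : Ideal (Localization.AtPrime P)).ResidueField
      ((⊥ : Ideal (Localization.AtPrime P)).Fiber
        (Localization.AtPrime P ⊗[Localization.AtPrime p] EGA4.Cpl (Localization.AtPrime p))) :=
    Groth.Agent.H3.QFFormal.isGeomReg_fibre_of_algEquiv _ _ _ Φ.symm _ h1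
  have h3 := isGeomReg_fiber_under_of_surjective (Localization.AtPrime p) (Localization.AtPrime P)
    (EGA4.Cpl (Localization.AtPrime p)) hs ⊥ h2
  refine cast_ideal ?_ h3
  -- the kernel of `R_p → (R/q)_P` is `q'`
  have hinj : Function.Injective (algebraMap (R ⧸ q) (Localization.AtPrime P)) :=
    IsLocalization.injective _ P.primeCompl_le_nonZeroDivisors
  have h4 : ((⊥ : Ideal (Localization.AtPrime P)).under (Localization.AtPrime p)).comap
      (algebraMap R (Localization.AtPrime p)) = q := by
    ext r
    simp only [Ideal.mem_comap, Ideal.under_def, Ideal.mem_bot]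
    show Localization.localRingHom p P (Ideal.Quotient.mk q) hIJ
      (algebraMap R (Localization.AtPrime p) r) = 0 ↔ _
    rw [Localization.localRingHom_to_map, map_eq_zero_iff _ hinj, Ideal.Quotient.eq_zero_iff_mem]
  have h4' : Ideal.under R ((⊥ : Ideal (Localization.AtPrime P)).under (Localization.AtPrime p)) = q :=
    h4
  rw [← IsLocalization.map_under p.primeCompl (Localization.AtPrime p)
    ((⊥ : Ideal (Localization.AtPrime P)).under (Localization.AtPrime p)), h4', hq]
  exact IsLocalization.map_under p.primeCompl (Localization.AtPrime p) q'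

end Q9a

section Q9b

set_option maxHeartbeats 1000000 in
/-- **generic formal fibres, algebraic case**: let `R₀` be a regular domain of characteristic `p`
with a `p`-family, and `D` a domain of finite type over `R₀`, containing `R₀`, whose fraction field
is finite over that of `R₀`.  Then the generic formal fibre of every localisation of `D` at a prime
is geometrically regular. -/
theorem isGeometricallyRegular_formalFibre_of_finite_fractionRing
    (R₀ : Type u) [CommRing R₀] [IsDomain R₀] [IsRegularRing R₀] (p : ℕ) [hpp : Fact p.Prime]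
    [CharP R₀ p] (hfam : HasPFamily p R₀)
    (D : Type u) [CommRing D] [IsDomain D] [Algebra R₀ D] [Algebra.FiniteType R₀ D]
    (hinj : Function.Injective (algebraMap R₀ D))
    [Algebra (FractionRing R₀) (FractionRing D)]
    [IsScalarTower R₀ (FractionRing R₀) (FractionRing D)]
    [FiniteDimensional (FractionRing R₀) (FractionRing D)]
    (𝔫 : Ideal D) [𝔫.IsPrime] :
    CAlg.IsGeometricallyRegular (⊥ : Ideal (Localization.AtPrime 𝔫)).ResidueField
      (EGA4.formalFibre (Localization.AtPrime 𝔫) (⊥ : Ideal (Localization.AtPrime 𝔫))) := by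
  classical
  obtain ⟨s, φ, hφ⟩ := Algebra.FiniteType.iff_quotient_mvPolynomial''.mp
    (inferInstance : Algebra.FiniteType R₀ D)
  haveI : Algebra.Smooth R₀ (MvPolynomial (Fin s) R₀) := ⟨inferInstance, inferInstance⟩
  haveI : IsRegularRing (MvPolynomial (Fin s) R₀) :=
    Groth.Agent.H5.RegHom.isRegularRing_of_smooth R₀ (MvPolynomial (Fin s) R₀)
  have hht := height_ker_le' R₀ D hinj s φ
  obtain ⟨f, E', hf, hdet⟩ := exists_jacobian_data R₀ p hfam D hinj s φ hφ
  have hreg := isRegularRing_formalFibre_of_jacobian φ.toRingHom hφ s hht f hf E' hdet 𝔫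
  haveI : CharP D p := charP_of_injective_ringHom hinj p
  haveI : IsNoetherianRing D := isNoetherianRing_of_surjective _ D φ.toRingHom hφ
  have hfamD := hasPFamily_of_finiteType p R₀ hfam D hinj
  exact isGeometricallyRegular_formalFibre_of_hasPFamily D p hfamD 𝔫 hreg

end Q9b

end Groth.Agent.H5.GRC
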