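import Mathlib
import Groth.Prelude
import Groth.Agent.Lib.Helper5.CD.Q9
import Groth.Agent.Lib.Helper5.CD.K9

set_option autoImplicit false
universe u

open TensorProduct IsLocalRing Polynomial

namespace Groth.Agent.H5.GRC

section F1

/-- the fraction field of a finite type algebraic domain over `R₀` is finite over the fraction field
of `R₀`. -/
theorem finiteDimensional_fractionRing_of_isAlgebraic
    (R₀ D : Type u) [CommRing R₀] [IsDomain R₀] [CommRing D] [IsDomain D] [Algebra R₀ D]
    [Algebra.FiniteType R₀ D] [Algebra.IsAlgebraic R₀ D]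
    (K₀ L : Type u) [Field K₀] [Field L] [Algebra R₀ K₀] [IsFractionRing R₀ K₀] [Algebra D L]
    [IsFractionRing D L] [Algebra K₀ L] [Algebra R₀ L] [IsScalarTower R₀ K₀ L]
    [IsScalarTower R₀ D L] : FiniteDimensional K₀ L := by
  classical
  obtain ⟨t, ht⟩ := (Algebra.FiniteType.out : (⊤ : Subalgebra R₀ D).FG)
  have hfin : ((algebraMap D L) '' (t : Set D)).Finite := (Finset.finite_toSet t).image _
  have hint : ∀ x ∈ (algebraMap D L) '' (t : Set D), IsIntegral K₀ x := by
    rintro _ ⟨d, -, rfl⟩
    have h1 : IsAlgebraic R₀ d := Algebra.IsAlgebraic.isAlgebraic d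
    have h2 : IsAlgebraic R₀ (algebraMap D L d) :=
      h1.algebraMap
    have h3 : IsAlgebraic K₀ (algebraMap D L d) :=
      h2.extendScalars (IsFractionRing.injective R₀ K₀)
    exact isAlgebraic_iff_isIntegral.mp h3
  set 𝒜 : Subalgebra K₀ L := Algebra.adjoin K₀ ((algebraMap D L) '' (t : Set D)) with h𝒜
  haveI hfin𝒜 : Module.Finite K₀ 𝒜 := Algebra.finite_adjoin_of_finite_of_isIntegral hfin hint
  have hD : ∀ d : D, algebraMap D L d ∈ 𝒜 := by
    intro d
    have hd : d ∈ Algebra.adjoin R₀ (t : Set D) := by rw [ht]; exact Algebra.mem_top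
    induction hd using Algebra.adjoin_induction with
    | mem x hx => exact Algebra.subset_adjoin ⟨x, hx, rfl⟩
    | algebraMap r =>
      rw [← IsScalarTower.algebraMap_apply R₀ D L, IsScalarTower.algebraMap_apply R₀ K₀ L]
      exact Subalgebra.algebraMap_mem 𝒜 _
    | add x y _ _ hx hy => rw [map_add]; exact add_mem hx hy
    | mul x y _ _ hx hy => rw [map_mul]; exact mul_mem hx hy
  haveI : Algebra.IsIntegral K₀ 𝒜 := Algebra.IsIntegral.of_finite K₀ 𝒜
  have hfield : IsField 𝒜 :=
    isField_of_isIntegral_of_isField' (Field.toIsField K₀)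
  have htop : 𝒜 = ⊤ := by
    rw [eq_top_iff]
    intro z _
    obtain ⟨a, b, hb, rfl⟩ := IsFractionRing.div_surjective (A := D) z
    have hb0 : algebraMap D L b ≠ 0 := by
      intro h0
      have : b = 0 := (IsFractionRing.injective D L) (h0.trans (map_zero _).symm)
      exact (nonZeroDivisors.ne_zero hb) this
    have hb0' : (⟨algebraMap D L b, hD b⟩ : 𝒜) ≠ 0 := fun h => hb0 (congrArg Subtype.val h)
    obtain ⟨c, hc⟩ := hfield.mul_inv_cancel hb0'
    have hc' : algebraMap D L b * (c : L) = 1 := congrArg Subtype.val hc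
    have hinv : (algebraMap D L b)⁻¹ = (c : L) := inv_eq_of_mul_eq_one_right hc'
    rw [div_eq_mul_inv, hinv]
    exact mul_mem (hD a) c.2
  have h1 : Module.Finite K₀ (⊤ : Subalgebra K₀ L) := htop ▸ hfin𝒜
  exact Module.Finite.equiv (Subalgebra.topEquiv (R := K₀) (A := L)).toLinearEquiv

end F1

section Q10

attribute [local instance] FractionRing.liftAlgebra

/-- the quotient of `A[x]` by a nonzero prime lying over `0` is algebraic over `A`. -/
theorem isAlgebraic_polynomial_quotient (A : Type u) [CommRing A] [IsDomain A]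
    (r : Ideal (Polynomial A)) [r.IsPrime] (hr0 : r ≠ ⊥) :
    Algebra.IsAlgebraic A (Polynomial A ⧸ r) := by
  classical
  obtain ⟨g, hgr, hg0⟩ := Submodule.exists_mem_ne_zero_of_ne_bot hr0
  have hx : IsAlgebraic A (Ideal.Quotient.mk r (X : Polynomial A)) := by
    refine ⟨g, hg0, ?_⟩
    have h1 := Polynomial.aeval_algHom_apply (Ideal.Quotient.mkₐ A r) (X : Polynomial A) g
    rw [Polynomial.aeval_X_left_apply] at h1
    have h2 : Ideal.Quotient.mkₐ A r (X : Polynomial A) = Ideal.Quotient.mk r X := rfl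
    rw [h2] at h1
    rw [h1]
    exact Ideal.Quotient.eq_zero_iff_mem.mpr hgr
  have hadj : (Algebra.adjoin A {Ideal.Quotient.mk r (X : Polynomial A)}).IsAlgebraic :=
    Algebra.isAlgebraic_adjoin_singleton_iff.mpr hx
  have htop : Algebra.adjoin A {Ideal.Quotient.mk r (X : Polynomial A)} = ⊤ := by
    have h1 : (Algebra.adjoin A {(X : Polynomial A)}).map (Ideal.Quotient.mkₐ A r) =
        Algebra.adjoin A {Ideal.Quotient.mk r (X : Polynomial A)} := by
      rw [AlgHom.map_adjoin, Set.image_singleton]
      rfl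
    rw [← h1, Polynomial.adjoin_X, Algebra.map_top, AlgHom.range_eq_top]
    exact Ideal.Quotient.mkₐ_surjective A r
  refine ⟨fun d => hadj d ?_⟩
  rw [htop]
  exact Algebra.mem_top

set_option maxHeartbeats 1000000 in
/-- **S9281**: formal fibres of `A[x]_q` at nonzero primes lying over `0`, for a complete
Noetherian local domain `A` of characteristic `p`. -/
theorem isGeometricallyRegular_formalFibre_polynomial (p : ℕ) [hpp : Fact p.Prime]
    (A : Type u) [CommRing A] [IsDomain A] [IsLocalRing A] [IsNoetherianRing A]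
    [IsAdicComplete (IsLocalRing.maximalIdeal A) A] [CharP A p]
    (q : Ideal (Polynomial A)) [q.IsPrime]
    (r : Ideal (Polynomial A)) [r.IsPrime] (hr0 : r ≠ ⊥) (hrq : r ≤ q)
    (hr : Ideal.comap (Polynomial.C : A →+* Polynomial A) r = ⊥)
    (R : Ideal (Localization.AtPrime q)) [R.IsPrime]
    (hR : Ideal.comap (algebraMap (Polynomial A) (Localization.AtPrime q)) R = r) :
    CAlg.IsGeometricallyRegular R.ResidueField (EGA4.formalFibre (Localization.AtPrime q) R) := by
  classical
  obtain ⟨Λ, instΛ, n, φ₀, hΛ, hinj₀, hfin₀, -⟩ := Groth.Agent.H5.NN.cohen_structure_domain A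
  rcases hΛ with hΛ | hΛ
  · letI instF : Field Λ := hΛ.toField
    letI : Algebra (MvPowerSeries (Fin n) Λ) A := φ₀.toAlgebra
    haveI : Module.Finite (MvPowerSeries (Fin n) Λ) A := hfin₀
    haveI : IsDomain (MvPowerSeries (Fin n) Λ) := NoZeroDivisors.to_isDomain _
    haveI : IsRegularLocalRing (MvPowerSeries (Fin n) Λ) :=
      Groth.Agent.H6.PSCot.isRegularLocalRing_mvPowerSeries n
    haveI : IsRegularRing (MvPowerSeries (Fin n) Λ) := H5.NG.isRegularRing_of_isRegularLocalRing _
    haveI : CharP (MvPowerSeries (Fin n) Λ) p := φ₀.charP hinj₀ p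
    haveI : CharP Λ p :=
      (algebraMap Λ (MvPowerSeries (Fin n) Λ)).charP
        (algebraMap Λ (MvPowerSeries (Fin n) Λ)).injective p
    have hfam := hasPFamily_mvPowerSeries Λ p n
    -- the quotient domain
    haveI : Algebra.IsIntegral (MvPowerSeries (Fin n) Λ) A := Algebra.IsIntegral.of_finite _ _
    haveI : Algebra.IsAlgebraic A (Polynomial A ⧸ r) := isAlgebraic_polynomial_quotient A r hr0
    haveI : Algebra.IsAlgebraic (MvPowerSeries (Fin n) Λ) (Polynomial A ⧸ r) :=
      Algebra.IsIntegral.trans_isAlgebraic (MvPowerSeries (Fin n) Λ) A (Polynomial A ⧸ r)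
    haveI : Algebra.FiniteType (MvPowerSeries (Fin n) Λ) (Polynomial A) :=
      Algebra.FiniteType.trans (inferInstance : Algebra.FiniteType (MvPowerSeries (Fin n) Λ) A)
        (inferInstance : Algebra.FiniteType A (Polynomial A))
    haveI : Algebra.FiniteType (MvPowerSeries (Fin n) Λ) (Polynomial A ⧸ r) :=
      Algebra.FiniteType.of_surjective (Ideal.Quotient.mkₐ (MvPowerSeries (Fin n) Λ) r)
        (Ideal.Quotient.mkₐ_surjective _ r)
    have hinjA : Function.Injective (algebraMap A (Polynomial A ⧸ r)) := by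
      rw [injective_iff_map_eq_zero]
      intro a ha
      have h1 : (C a : Polynomial A) ∈ r := Ideal.Quotient.eq_zero_iff_mem.mp ha
      have h2 : a ∈ Ideal.comap (Polynomial.C : A →+* Polynomial A) r := h1
      rw [hr] at h2
      exact h2
    have hinj : Function.Injective (algebraMap (MvPowerSeries (Fin n) Λ) (Polynomial A ⧸ r)) := by
      rw [IsScalarTower.algebraMap_eq (MvPowerSeries (Fin n) Λ) A (Polynomial A ⧸ r)]
      exact hinjA.comp hinj₀
    haveI : FaithfulSMul (MvPowerSeries (Fin n) Λ) (Polynomial A ⧸ r) :=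
      (faithfulSMul_iff_algebraMap_injective _ _).mpr hinj
    haveI : IsScalarTower (MvPowerSeries (Fin n) Λ) (FractionRing (MvPowerSeries (Fin n) Λ))
        (FractionRing (Polynomial A ⧸ r)) := inferInstance
    haveI : FiniteDimensional (FractionRing (MvPowerSeries (Fin n) Λ))
        (FractionRing (Polynomial A ⧸ r)) :=
      finiteDimensional_fractionRing_of_isAlgebraic (MvPowerSeries (Fin n) Λ) (Polynomial A ⧸ r)
        _ _
    haveI h𝔫 : (q.map (Ideal.Quotient.mk r)).IsPrime := by
      apply Ideal.map_isPrime_of_surjective Ideal.Quotient.mk_surjective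
      rw [Ideal.mk_ker]; exact hrq
    have hGFF := isGeometricallyRegular_formalFibre_of_finite_fractionRing
      (MvPowerSeries (Fin n) Λ) p hfam (Polynomial A ⧸ r) hinj (q.map (Ideal.Quotient.mk r))
    exact isGeomReg_fiber_of_generic_single (Polynomial A) q R r hR.symm
      (q.map (Ideal.Quotient.mk r)) rfl hGFF
  · exfalso
    haveI : CharZero Λ := charZero_of_isCohenRing Λ hΛ
    haveI : CharZero (MvPowerSeries (Fin n) Λ) :=
      charZero_of_injective_algebraMap (R := Λ) (MvPowerSeries.C_injective (σ := Fin n) (R := Λ))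
    haveI : CharZero A := charZero_of_injective_ringHom hinj₀
    have h0 : p = 0 := CharP.eq A (inferInstance : CharP A p) (CharP.ofCharZero A)
    exact hpp.out.ne_zero h0

end Q10

end Groth.Agent.H5.GRC
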