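import Mathlib
import Groth.Prelude
import Groth.Agent.Lib.Helper5.CD.Q2
import Groth.Agent.Lib.Helper5.CD.N6

set_option autoImplicit false
universe u

open TensorProduct IsLocalRing

namespace Groth.Agent.H5.GRC

section Q3

/-- **generic formal fibres of `k[[x]][y]`** (`char k = p`): for every prime `P`, the generic formal
fibre of the localisation at `P` is geometrically regular. -/
theorem isGeometricallyRegular_formalFibre_mvPolynomial_mvPowerSeries (p : ℕ) [Fact p.Prime]
    (k : Type u) [Field k] [CharP k p] (n m : ℕ)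
    [IsDomain (MvPolynomial (Fin m) (MvPowerSeries (Fin n) k))]
    (P : Ideal (MvPolynomial (Fin m) (MvPowerSeries (Fin n) k))) [P.IsPrime] :
    CAlg.IsGeometricallyRegular (@Ideal.ResidueField (Localization.AtPrime P) _ ⊥ _)
      (EGA4.formalFibre (Localization.AtPrime P) (⊥ : Ideal (Localization.AtPrime P))) := by
  haveI : IsDomain (MvPowerSeries (Fin n) k) := NoZeroDivisors.to_isDomain _
  haveI : IsRegularLocalRing (MvPowerSeries (Fin n) k) :=
    Groth.Agent.H6.PSCot.isRegularLocalRing_mvPowerSeries n
  haveI : CharP (MvPowerSeries (Fin n) k) p :=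
    charP_of_injective_algebraMap (algebraMap k (MvPowerSeries (Fin n) k)).injective p
  haveI : CharP (MvPolynomial (Fin m) (MvPowerSeries (Fin n) k)) p :=
    charP_of_injective_algebraMap
      (MvPolynomial.C_injective (Fin m) (MvPowerSeries (Fin n) k)) p
  have h1 := hasPFamily_mvPowerSeries k p n
  have h2 := hasPFamily_of_finiteType p (MvPowerSeries (Fin n) k) h1
    (MvPolynomial (Fin m) (MvPowerSeries (Fin n) k))
    (MvPolynomial.C_injective (Fin m) (MvPowerSeries (Fin n) k))
  haveI : IsRegularRing (MvPowerSeries (Fin n) k) := H5.NG.isRegularRing_of_isRegularLocalRing _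
  haveI : Algebra.Smooth (MvPowerSeries (Fin n) k)
      (MvPolynomial (Fin m) (MvPowerSeries (Fin n) k)) := ⟨inferInstance, inferInstance⟩
  haveI : IsRegularRing (MvPolynomial (Fin m) (MvPowerSeries (Fin n) k)) :=
    Groth.Agent.H5.RegHom.isRegularRing_of_smooth (MvPowerSeries (Fin n) k)
      (MvPolynomial (Fin m) (MvPowerSeries (Fin n) k))
  haveI : IsRegularLocalRing (Localization.AtPrime P) :=
    IsRegularRing.isRegularLocalRing_localization P
  exact isGeometricallyRegular_formalFibre_of_hasPFamily_of_regular _ p h2 P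

end Q3

end Groth.Agent.H5.GRC
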