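import Mathlib
import Groth.Prelude

set_option autoImplicit false
universe u

open Polynomial

namespace Groth.Agent.H5.GRC

section R1
variable (R₀ : Type u) [CommRing R₀] [IsDomain R₀]

attribute [local instance] Polynomial.algebra Polynomial.isLocalization in
/-- a prime of `R₀[X]` lying over `0` has height at most one. -/
theorem height_le_one_of_comap_C_eq_bot [IsNoetherianRing R₀] (r : Ideal R₀[X]) [hprime : r.IsPrime]
    (hr : r.comap (C : R₀ →+* R₀[X]) = ⊥) : r.height ≤ 1 := by
  classical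
  let K₀ := FractionRing R₀
  have hdisj : Disjoint (((nonZeroDivisors R₀).map (C : R₀ →+* R₀[X]) :
      Submonoid R₀[X]) : Set R₀[X]) (r : Set _) := by
    rw [Set.disjoint_left]
    rintro _ ⟨a, ha, rfl⟩ hmem
    have h2 : a ∈ r.comap (C : R₀ →+* R₀[X]) := hmem
    rw [hr] at h2
    exact (nonZeroDivisors.ne_zero ha) h2
  have h1 := IsLocalization.height_map_of_disjoint (S := K₀[X])
    ((nonZeroDivisors R₀).map (C : R₀ →+* R₀[X])) r hdisj
  rw [← h1]
  have hne : r.map (algebraMap R₀[X] K₀[X]) ≠ ⊤ :=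
    (IsLocalization.isPrime_of_isPrime_disjoint _ K₀[X] r hprime hdisj).ne_top
  have h2 := Ideal.height_le_ringKrullDim_of_ne_top hne
  rw [Polynomial.ringKrullDim_of_isNoetherianRing, ringKrullDim_eq_zero_of_field, zero_add] at h2
  exact_mod_cast h2

/-- in characteristic zero, a nonzero prime of `R₀[X]` lying over `0` contains an element whose
derivative is outside. -/
theorem exists_mem_derivative_not_mem [CharZero R₀] (r : Ideal R₀[X])
    (hr0 : r ≠ ⊥) (hr : r.comap (C : R₀ →+* R₀[X]) = ⊥) :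
    ∃ h ∈ r, derivative h ∉ r := by
  classical
  have hex : ∃ n, ∃ h ∈ r, h ≠ 0 ∧ h.natDegree = n := by
    obtain ⟨g, hgr, hg0⟩ := Submodule.exists_mem_ne_zero_of_ne_bot hr0
    exact ⟨_, g, hgr, hg0, rfl⟩
  obtain ⟨h, hhr, hh0, hdeg⟩ := Nat.find_spec hex
  refine ⟨h, hhr, fun hmem => ?_⟩
  have hpos : h.natDegree ≠ 0 := by
    intro hd
    rw [natDegree_eq_zero] at hd
    obtain ⟨a, rfl⟩ := hd
    have h2 : a ∈ r.comap (C : R₀ →+* R₀[X]) := hhr
    rw [hr] at h2
    apply hh0
    rw [(Ideal.mem_bot.mp h2), map_zero]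
  have hder0 : derivative h ≠ 0 := by
    intro h0
    exact hpos (Polynomial.derivative_eq_zero.mp h0)
  have hlt : (derivative h).natDegree < h.natDegree := natDegree_derivative_lt hpos
  have := Nat.find_min hex (m := (derivative h).natDegree) (by rw [← hdeg]; exact hlt)
  exact this ⟨derivative h, hmem, hder0, rfl⟩

end R1

end Groth.Agent.H5.GRC
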