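import Mathlib
import Groth.Prelude
import Groth.Agent.Lib.Helper5.CD.R1
import Groth.Agent.Lib.Helper5.CD.Q10
import Groth.Agent.Lib.Helper5.CD.J1

set_option autoImplicit false
universe u

open TensorProduct IsLocalRing Polynomial

namespace Groth.Agent.H5.GRC

section R2
variable (R₀ : Type u) [CommRing R₀] [IsDomain R₀] [IsRegularRing R₀]
  (r₀ : Ideal R₀[X]) [hr₀prime : r₀.IsPrime] (hr : r₀.comap (C : R₀ →+* R₀[X]) = ⊥)

theorem isRegularRing_polynomial : IsRegularRing R₀[X] := by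
  haveI : Algebra.Smooth R₀ R₀[X] := ⟨inferInstance, inferInstance⟩
  exact Groth.Agent.H5.RegHom.isRegularRing_of_smooth R₀ R₀[X]

include hr in
theorem injective_algebraMap_polynomial_quotient :
    Function.Injective (algebraMap R₀ (R₀[X] ⧸ r₀)) := by
  rw [injective_iff_map_eq_zero]
  intro a ha
  have h1 : (C a : R₀[X]) ∈ r₀ := Ideal.Quotient.eq_zero_iff_mem.mp ha
  have h2 : a ∈ Ideal.comap (C : R₀ →+* R₀[X]) r₀ := h1
  rw [hr] at h2
  exact h2

/-- the generic formal fibre of a localisation of `R₀[X] ⧸ r₀` is regular when `r₀ = 0`. -/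
theorem isRegularRing_formalFibre_polynomial_quotient_bot (h0 : r₀ = ⊥)
    (𝔫 : Ideal (R₀[X] ⧸ r₀)) [𝔫.IsPrime] :
    IsRegularRing (EGA4.formalFibre (Localization.AtPrime 𝔫)
      (⊥ : Ideal (Localization.AtPrime 𝔫))) := by
  haveI := isRegularRing_polynomial R₀
  refine isRegularRing_formalFibre_of_jacobian (Ideal.Quotient.mk r₀)
    Ideal.Quotient.mk_surjective 0 ?_ (fun i => Fin.elim0 i) (fun i => Fin.elim0 i)
    (fun i => Fin.elim0 i) ?_ 𝔫
  · rw [Ideal.mk_ker, h0, Ideal.height_bot]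
    exact le_refl _
  · rw [Matrix.det_isEmpty, Ideal.mk_ker]
    exact fun h => hr₀prime.ne_top ((Ideal.eq_top_iff_one _).mpr h)

include hr in
/-- the generic formal fibre of a localisation of `R₀[X] ⧸ r₀` is regular in characteristic
zero. -/
theorem isRegularRing_formalFibre_polynomial_quotient_charZero [CharZero R₀]
    (𝔫 : Ideal (R₀[X] ⧸ r₀)) [𝔫.IsPrime] :
    IsRegularRing (EGA4.formalFibre (Localization.AtPrime 𝔫)
      (⊥ : Ideal (Localization.AtPrime 𝔫))) := by
  by_cases h0 : r₀ = ⊥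
  · exact isRegularRing_formalFibre_polynomial_quotient_bot R₀ r₀ h0 𝔫
  haveI := isRegularRing_polynomial R₀
  obtain ⟨h, hh, hder⟩ := exists_mem_derivative_not_mem R₀ r₀ h0 hr
  refine isRegularRing_formalFibre_of_jacobian (Ideal.Quotient.mk r₀)
    Ideal.Quotient.mk_surjective 1 ?_ (fun _ => h) ?_
    (fun _ => (Polynomial.derivative' : Derivation R₀ R₀[X] R₀[X]).restrictScalars ℤ) ?_ 𝔫
  · rw [Ideal.mk_ker]
    exact_mod_cast height_le_one_of_comap_C_eq_bot R₀ r₀ hr
  · intro _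
    rw [Ideal.mk_ker]; exact hh
  · rw [Matrix.det_fin_one, Ideal.mk_ker]
    exact hder

include hr in
/-- **generic formal fibres of `R₀[X] ⧸ r₀`, characteristic zero**. -/
theorem isGeometricallyRegular_formalFibre_polynomial_quotient_charZero [CharZero R₀]
    (𝔫 : Ideal (R₀[X] ⧸ r₀)) [𝔫.IsPrime] :
    CAlg.IsGeometricallyRegular (@Ideal.ResidueField (Localization.AtPrime 𝔫) _ ⊥ _)
      (EGA4.formalFibre (Localization.AtPrime 𝔫) (⊥ : Ideal (Localization.AtPrime 𝔫))) := by
  haveI := isRegularRing_formalFibre_polynomial_quotient_charZero R₀ r₀ hr 𝔫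
  have hinj := injective_algebraMap_polynomial_quotient R₀ r₀ hr
  haveI : CharZero (R₀[X] ⧸ r₀) := charZero_of_injective_algebraMap hinj
  haveI : CharZero (Localization.AtPrime 𝔫) :=
    charZero_of_injective_algebraMap (R := R₀[X] ⧸ r₀)
      (IsLocalization.injective (Localization.AtPrime 𝔫) 𝔫.primeCompl_le_nonZeroDivisors)
  haveI : CharZero (@Ideal.ResidueField (Localization.AtPrime 𝔫) _ ⊥ _) :=
    charZero_of_injective_algebraMap
      (IsFractionRing.injective (Localization.AtPrime 𝔫)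
        (@Ideal.ResidueField (Localization.AtPrime 𝔫) _ ⊥ _))
  exact Groth.Agent.H5.CD.isGeometricallyRegular_of_charZero _ _

attribute [local instance] FractionRing.liftAlgebra in
include hr in
/-- **generic formal fibres of `R₀[X] ⧸ r₀`, characteristic `p`**. -/
theorem isGeometricallyRegular_formalFibre_polynomial_quotient_charP (p : ℕ) [hpp : Fact p.Prime]
    [CharP R₀ p] (hfam : HasPFamily p R₀)
    (𝔫 : Ideal (R₀[X] ⧸ r₀)) [𝔫.IsPrime] :
    CAlg.IsGeometricallyRegular (@Ideal.ResidueField (Localization.AtPrime 𝔫) _ ⊥ _)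
      (EGA4.formalFibre (Localization.AtPrime 𝔫) (⊥ : Ideal (Localization.AtPrime 𝔫))) := by
  have hinj := injective_algebraMap_polynomial_quotient R₀ r₀ hr
  haveI : Algebra.FiniteType R₀ (R₀[X] ⧸ r₀) :=
    Algebra.FiniteType.of_surjective (Ideal.Quotient.mkₐ R₀ r₀) (Ideal.Quotient.mkₐ_surjective _ r₀)
  by_cases h0 : r₀ = ⊥
  · have hreg := isRegularRing_formalFibre_polynomial_quotient_bot R₀ r₀ h0 𝔫
    haveI : CharP (R₀[X] ⧸ r₀) p := charP_of_injective_ringHom hinj p
    haveI : IsNoetherianRing (R₀[X] ⧸ r₀) := inferInstance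
    have hfamD := hasPFamily_of_finiteType p R₀ hfam (R₀[X] ⧸ r₀) hinj
    exact isGeometricallyRegular_formalFibre_of_hasPFamily (R₀[X] ⧸ r₀) p hfamD 𝔫 hreg
  · haveI : Algebra.IsAlgebraic R₀ (R₀[X] ⧸ r₀) := isAlgebraic_polynomial_quotient R₀ r₀ h0
    haveI : FaithfulSMul R₀ (R₀[X] ⧸ r₀) := (faithfulSMul_iff_algebraMap_injective _ _).mpr hinj
    haveI : IsScalarTower R₀ (FractionRing R₀) (FractionRing (R₀[X] ⧸ r₀)) := inferInstance
    haveI : FiniteDimensional (FractionRing R₀) (FractionRing (R₀[X] ⧸ r₀)) :=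
      finiteDimensional_fractionRing_of_isAlgebraic R₀ (R₀[X] ⧸ r₀) _ _
    exact isGeometricallyRegular_formalFibre_of_finite_fractionRing R₀ p hfam (R₀[X] ⧸ r₀) hinj 𝔫

end R2

end Groth.Agent.H5.GRC
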