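import Mathlib
import Groth.Prelude
import Groth.Agent.Lib.Helper5.CD.R2

set_option autoImplicit false
universe u

open TensorProduct IsLocalRing Polynomial

namespace Groth.Agent.H5.GRC

section R3a

set_option maxHeartbeats 1000000 in
/-- **transfer to a quotient of `R₀[X]`**: if `D` is a domain finite over (the image of) `R₀[X]`,
with `R₀ → D` injective, the generic formal fibres of the localisations of `D` are geometrically
regular as soon as those of the quotients of `R₀[X]` by primes lying over `0` are. -/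
theorem isGeometricallyRegular_formalFibre_of_finite_polynomial
    (R₀ : Type u) [CommRing R₀] [IsDomain R₀] [IsNoetherianRing R₀]
    (H : ∀ (r₀ : Ideal R₀[X]) [r₀.IsPrime], r₀.comap (C : R₀ →+* R₀[X]) = ⊥ →
      ∀ (𝔫 : Ideal (R₀[X] ⧸ r₀)) [𝔫.IsPrime],
        CAlg.IsGeometricallyRegular (@Ideal.ResidueField (Localization.AtPrime 𝔫) _ ⊥ _)
          (EGA4.formalFibre (Localization.AtPrime 𝔫) (⊥ : Ideal (Localization.AtPrime 𝔫))))
    (D : Type u) [CommRing D] [IsDomain D] (θ : R₀[X] →+* D) (hfin : θ.Finite)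
    (hinj : Function.Injective (θ.comp (C : R₀ →+* R₀[X])))
    (𝔫 : Ideal D) [𝔫.IsPrime] :
    CAlg.IsGeometricallyRegular (@Ideal.ResidueField (Localization.AtPrime 𝔫) _ ⊥ _)
      (EGA4.formalFibre (Localization.AtPrime 𝔫) (⊥ : Ideal (Localization.AtPrime 𝔫))) := by
  classical
  letI : Algebra R₀[X] D := θ.toAlgebra
  haveI : Module.Finite R₀[X] D := hfin
  haveI : IsNoetherianRing D := IsNoetherianRing.of_finite R₀[X] D
  set r₀ : Ideal R₀[X] := RingHom.ker (algebraMap R₀[X] D) with hr₀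
  haveI hr₀prime : r₀.IsPrime := RingHom.ker_isPrime _
  have hr₀C : r₀.comap (C : R₀ →+* R₀[X]) = ⊥ := by
    rw [eq_bot_iff]
    intro a ha
    have h1 : θ (C a) = 0 := ha
    exact hinj (h1.trans (map_zero _).symm)
  set 𝔫₀ : Ideal R₀[X] := 𝔫.under R₀[X] with h𝔫₀
  have hr₀𝔫₀ : r₀ ≤ 𝔫₀ := by
    intro a ha
    show algebraMap R₀[X] D a ∈ 𝔫
    rw [(RingHom.mem_ker).mp ha]
    exact zero_mem _
  have hdisj : Disjoint (𝔫₀.primeCompl : Set R₀[X]) (r₀ : Set R₀[X]) := by
    rw [Set.disjoint_left]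
    intro x hx hxr
    exact hx (hr₀𝔫₀ hxr)
  set Q : Ideal (Localization.AtPrime 𝔫₀) :=
    r₀.map (algebraMap R₀[X] (Localization.AtPrime 𝔫₀)) with hQdef
  haveI hQprime : Q.IsPrime :=
    IsLocalization.isPrime_of_isPrime_disjoint 𝔫₀.primeCompl _ r₀ hr₀prime hdisj
  have hQr₀ : Q.comap (algebraMap R₀[X] (Localization.AtPrime 𝔫₀)) = r₀ :=
    IsLocalization.under_map_of_isPrime_disjoint 𝔫₀.primeCompl _ hr₀prime hdisj
  have hinjD : Function.Injective (algebraMap D (Localization.AtPrime 𝔫)) :=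
    IsLocalization.injective _ 𝔫.primeCompl_le_nonZeroDivisors
  have hQ : Ideal.comap (algebraMap R₀[X] (Localization.AtPrime (𝔫.under R₀[X]))) Q =
      Ideal.comap (algebraMap R₀[X] (Localization.AtPrime 𝔫))
        (⊥ : Ideal (Localization.AtPrime 𝔫)) := by
    rw [hQr₀]
    ext a
    rw [Ideal.mem_comap, Ideal.mem_bot, IsScalarTower.algebraMap_apply R₀[X] D
      (Localization.AtPrime 𝔫), map_eq_zero_iff _ hinjD]
    rfl
  haveI hPprime : (𝔫₀.map (Ideal.Quotient.mk r₀)).IsPrime := by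
    apply Ideal.map_isPrime_of_surjective Ideal.Quotient.mk_surjective
    rw [Ideal.mk_ker]; exact hr₀𝔫₀
  have H₀ := H r₀ hr₀C (𝔫₀.map (Ideal.Quotient.mk r₀))
  have h := isGeomReg_fiber_of_generic_single R₀[X] 𝔫₀ Q r₀ hQr₀.symm
    (𝔫₀.map (Ideal.Quotient.mk r₀)) rfl H₀
  exact Groth.Agent.H3.QFFormal.main_pt R₀[X] D 𝔫 (⊥ : Ideal (Localization.AtPrime 𝔫)) Q hQ h

end R3a

end Groth.Agent.H5.GRC
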