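import Mathlib
import Groth.Prelude
import Groth.Agent.Lib.Helper5.CD.R3
import Groth.Agent.Lib.Helper5.CA.CF2

set_option autoImplicit false
universe u

open TensorProduct IsLocalRing Polynomial

namespace Groth.Agent.H5.GRC

section R4a

/-- if `A` is finite over `R₀` and `D` is generated by the image of `A` and an element `x`, then
`D` is finite over `R₀[X]` (acting through `X ↦ x`). -/
theorem finite_eval₂RingHom {R₀ A D : Type u} [CommRing R₀] [CommRing A] [CommRing D]
    (φ₀ : R₀ →+* A) (hφ₀ : φ₀.Finite) (ι : A →+* D) (x : D)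
    (hgen : ∀ d : D, ∃ g : A[X], d = eval₂ ι x g) :
    (Polynomial.eval₂RingHom (ι.comp φ₀) x).Finite := by
  classical
  letI := φ₀.toAlgebra
  haveI : Module.Finite R₀ A := hφ₀
  obtain ⟨s, hs⟩ := (Module.Finite.fg_top : (⊤ : Submodule R₀ A).FG)
  letI : Algebra R₀[X] D := (Polynomial.eval₂RingHom (ι.comp φ₀) x).toAlgebra
  show Module.Finite R₀[X] D
  have hsmul : ∀ (q : R₀[X]) (d : D), q • d = eval₂ (ι.comp φ₀) x q * d := fun q d => by
    rw [Algebra.smul_def]; rfl
  set N : Submodule R₀[X] D := Submodule.span R₀[X] (ι '' (s : Set A)) with hN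
  have hkey : ∀ (a : A) (j : ℕ), ι a * x ^ j ∈ N := by
    intro a j
    have ha : a ∈ Submodule.span R₀ (s : Set A) := by rw [hs]; exact Submodule.mem_top
    induction ha using Submodule.span_induction with
    | mem y hy =>
      have h1 : ι y * x ^ j = (X ^ j : R₀[X]) • ι y := by
        rw [hsmul, eval₂_X_pow, mul_comm]
      rw [h1]
      exact Submodule.smul_mem _ _ (Submodule.subset_span ⟨y, hy, rfl⟩)
    | zero => rw [map_zero, zero_mul]; exact zero_mem _
    | add y z _ _ hy hz => rw [map_add, add_mul]; exact add_mem hy hz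
    | smul ρ y _ hy =>
      have h1 : ι (ρ • y) * x ^ j = (C ρ : R₀[X]) • (ι y * x ^ j) := by
        rw [hsmul, eval₂_C, Algebra.smul_def, map_mul, mul_assoc]
        rfl
      rw [h1]
      exact Submodule.smul_mem _ _ hy
  refine ⟨⟨s.image ι, ?_⟩⟩
  rw [Finset.coe_image, eq_top_iff]
  intro d _
  obtain ⟨g, rfl⟩ := hgen d
  rw [eval₂_eq_sum_range]
  exact Submodule.sum_mem _ (fun j _ => hkey _ j)

end R4a

section R4b

set_option maxHeartbeats 1000000 in
/-- **generic formal fibres of quotients of `R[X]`**, `R` a complete Noetherian local ring. -/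
theorem isGeometricallyRegular_formalFibre_polynomial_quotient_of_complete
    (R : Type u) [CommRing R] [IsLocalRing R] [IsNoetherianRing R]
    [IsAdicComplete (maximalIdeal R) R]
    (r : Ideal R[X]) [hrprime : r.IsPrime] (𝔫 : Ideal (R[X] ⧸ r)) [𝔫.IsPrime] :
    CAlg.IsGeometricallyRegular (@Ideal.ResidueField (Localization.AtPrime 𝔫) _ ⊥ _)
      (EGA4.formalFibre (Localization.AtPrime 𝔫) (⊥ : Ideal (Localization.AtPrime 𝔫))) := by
  classical
  set P₀ : Ideal R := r.comap (C : R →+* R[X]) with hP₀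
  haveI : P₀.IsPrime := Ideal.comap_isPrime _ _
  haveI : IsLocalRing (R ⧸ P₀) :=
    IsLocalRing.of_surjective' (Ideal.Quotient.mk P₀) Ideal.Quotient.mk_surjective
  haveI : IsAdicComplete (maximalIdeal (R ⧸ P₀)) (R ⧸ P₀) :=
    Groth.Agent.H6.isAdicComplete_quotient P₀
  let ι : (R ⧸ P₀) →+* (R[X] ⧸ r) := Ideal.quotientMap r (C : R →+* R[X]) le_rfl
  have hι : Function.Injective ι := Ideal.quotientMap_injective
  have hgen : ∀ d : R[X] ⧸ r, ∃ g : (R ⧸ P₀)[X],
      d = eval₂ ι (Ideal.Quotient.mk r (X : R[X])) g := by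
    intro d
    obtain ⟨g, rfl⟩ := Ideal.Quotient.mk_surjective d
    refine ⟨g.map (Ideal.Quotient.mk P₀), ?_⟩
    rw [eval₂_map]
    have h1 : ι.comp (Ideal.Quotient.mk P₀) = (Ideal.Quotient.mk r).comp (C : R →+* R[X]) := by
      ext c; rfl
    rw [h1, ← hom_eval₂, eval₂_C_X]
  obtain ⟨Λ, instΛ, n, φ₀, hΛ, hinj₀, hfin₀, -⟩ :=
    Groth.Agent.H5.NN.cohen_structure_domain (R ⧸ P₀)
  have hθfin := finite_eval₂RingHom φ₀ hfin₀ ι (Ideal.Quotient.mk r (X : R[X])) hgen
  have hθinj : Function.Injective ((Polynomial.eval₂RingHom (ι.comp φ₀)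
      (Ideal.Quotient.mk r (X : R[X]))).comp (C : _ →+* (MvPowerSeries (Fin n) Λ)[X])) := by
    have h1 : (Polynomial.eval₂RingHom (ι.comp φ₀)
        (Ideal.Quotient.mk r (X : R[X]))).comp (C : _ →+* (MvPowerSeries (Fin n) Λ)[X]) =
        ι.comp φ₀ := by
      ext c
      simp
    rw [h1]
    exact hι.comp hinj₀
  rcases hΛ with hΛ | hΛ
  · letI instF : Field Λ := hΛ.toField
    haveI : IsDomain (MvPowerSeries (Fin n) Λ) := NoZeroDivisors.to_isDomain _
    haveI : IsRegularLocalRing (MvPowerSeries (Fin n) Λ) :=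
      Groth.Agent.H6.PSCot.isRegularLocalRing_mvPowerSeries n
    haveI : IsRegularRing (MvPowerSeries (Fin n) Λ) := H5.NG.isRegularRing_of_isRegularLocalRing _
    obtain ⟨p, hp⟩ := CharP.exists Λ
    rcases CharP.char_is_prime_or_zero Λ p with hpp | rfl
    · haveI := hp
      haveI : Fact p.Prime := ⟨hpp⟩
      haveI : CharP (MvPowerSeries (Fin n) Λ) p :=
        charP_of_injective_algebraMap (algebraMap Λ (MvPowerSeries (Fin n) Λ)).injective p
      have hfam := hasPFamily_mvPowerSeries Λ p n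
      exact isGeometricallyRegular_formalFibre_of_finite_polynomial (MvPowerSeries (Fin n) Λ)
        (fun r₀ _ hr₀ 𝔫₀ _ => isGeometricallyRegular_formalFibre_polynomial_quotient_charP
          (MvPowerSeries (Fin n) Λ) r₀ hr₀ p hfam 𝔫₀) (R[X] ⧸ r) _ hθfin hθinj 𝔫
    · haveI := hp
      haveI : CharZero Λ := CharP.charP_to_charZero Λ
      haveI : CharZero (MvPowerSeries (Fin n) Λ) :=
        charZero_of_injective_algebraMap (algebraMap Λ (MvPowerSeries (Fin n) Λ)).injective
      exact isGeometricallyRegular_formalFibre_of_finite_polynomial (MvPowerSeries (Fin n) Λ)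
        (fun r₀ _ hr₀ 𝔫₀ _ => isGeometricallyRegular_formalFibre_polynomial_quotient_charZero
          (MvPowerSeries (Fin n) Λ) r₀ hr₀ 𝔫₀) (R[X] ⧸ r) _ hθfin hθinj 𝔫
  · haveI : CharZero Λ := charZero_of_isCohenRing Λ hΛ
    obtain ⟨hdom, hdvr, -, p, hp, hm⟩ := hΛ
    haveI : IsDomain (MvPowerSeries (Fin n) Λ) := NoZeroDivisors.to_isDomain _
    haveI : IsRegularLocalRing (MvPowerSeries (Fin n) Λ) :=
      Groth.Agent.H5.CF.isRegularLocalRing_mvPowerSeries_dvr Λ hm n
    haveI : IsRegularRing (MvPowerSeries (Fin n) Λ) := H5.NG.isRegularRing_of_isRegularLocalRing _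
    haveI : CharZero (MvPowerSeries (Fin n) Λ) :=
      charZero_of_injective_algebraMap (R := Λ) (MvPowerSeries.C_injective (σ := Fin n) (R := Λ))
    exact isGeometricallyRegular_formalFibre_of_finite_polynomial (MvPowerSeries (Fin n) Λ)
      (fun r₀ _ hr₀ 𝔫₀ _ => isGeometricallyRegular_formalFibre_polynomial_quotient_charZero
        (MvPowerSeries (Fin n) Λ) r₀ hr₀ 𝔫₀) (R[X] ⧸ r) _ hθfin hθinj 𝔫

end R4b

end Groth.Agent.H5.GRC
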