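import Mathlib
import Groth.Prelude
import Groth.Agent.Lib.Helper5.CD.R4
import Groth.Agent.Lib.Helper5.CD.M2
import Groth.Agent.Lib.Helper3.CA.FFDesc
import Groth.Agent.Lib.Helper3.CA.RegHomLocal
import Groth.Agent.Lib.Helper3.CA.RegHomLoc

set_option autoImplicit false
universe u

open TensorProduct IsLocalRing Polynomial

namespace Groth.Agent.H5.GRC

section R5a

/-- the G-ring property is invariant under ring isomorphisms. -/
theorem isGRing_of_ringEquiv {R R' : Type u} [CommRing R] [CommRing R'] (e : R ≃+* R')
    (h : CAlg.IsGRing R) : CAlg.IsGRing R' := by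
  haveI : IsNoetherianRing R := h.1
  haveI : IsNoetherianRing R' := isNoetherianRing_of_ringEquiv R e
  apply Groth.Agent.H3.GRing.isGRing_of_local R'
  intro P hP
  refine ⟨R, inferInstance, h, P.comap (e : R →+* R'), Ideal.comap_isPrime _ _, ?_⟩
  have H : (P.comap (e : R →+* R')).primeCompl.map e.toMonoidHom = P.primeCompl := by
    ext x
    constructor
    · rintro ⟨y, hy, rfl⟩
      exact hy
    · intro hx
      refine ⟨e.symm x, ?_, e.apply_symm_apply x⟩
      show e.symm x ∉ P.comap (e : R →+* R')
      intro h'
      apply hx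
      have : e (e.symm x) ∈ P := h'
      rwa [e.apply_symm_apply] at this
  exact ⟨IsLocalization.ringEquivOfRingEquiv (Localization.AtPrime (P.comap (e : R →+* R')))
    (Localization.AtPrime P) e H⟩

/-- a quotient of a G-ring is a G-ring. -/
theorem isGRing_quotient {R : Type u} [CommRing R] (h : CAlg.IsGRing R) (I : Ideal R) :
    CAlg.IsGRing (R ⧸ I) := by
  haveI : IsNoetherianRing R := h.1
  refine ⟨inferInstance, fun P _ => ?_⟩
  exact Groth.Agent.H3.GRingGeneric.isRegularHom_cpl_quot_loc R I P
    (P.comap (Ideal.Quotient.mk I)) rfl (h.2 _)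

/-- polynomial rings over complete Noetherian local rings are G-rings. -/
theorem isGRing_polynomial_of_complete (R : Type u) [CommRing R] [IsLocalRing R]
    [IsNoetherianRing R] [IsAdicComplete (maximalIdeal R) R] : CAlg.IsGRing R[X] := by
  rw [Groth.Agent.H3.GRingGeneric.main R[X]]
  intro q _ P _
  exact isGeometricallyRegular_formalFibre_polynomial_quotient_of_complete R q P

end R5a

end Groth.Agent.H5.GRC
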