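import Mathlib
import Groth.Prelude
import Groth.Agent.Lib.Helper5.CD.R5
import Groth.Agent.Lib.Helper6.CanCompl3

set_option autoImplicit false
universe u

open TensorProduct IsLocalRing Polynomial

namespace Groth.Agent.H5.GRC

section R6

theorem isRegularHom_cpl_of_ideal_eq {B : Type u} [CommRing B] (Q' Q : Ideal B) [Q'.IsPrime]
    [Q.IsPrime] (h : Q' = Q)
    (hreg : CAlg.IsRegularHom (Localization.AtPrime Q')
      (AdicCompletion (maximalIdeal (Localization.AtPrime Q')) (Localization.AtPrime Q'))) :
    CAlg.IsRegularHom (Localization.AtPrime Q)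
      (AdicCompletion (maximalIdeal (Localization.AtPrime Q)) (Localization.AtPrime Q)) := by
  subst h
  exact hreg

attribute [local instance] Localization.AtPrime.algebraOfLiesOver in
set_option maxHeartbeats 1000000 in
/-- the polynomial ring over a Noetherian local ring with regular completion map is a G-ring. -/
theorem isGRing_polynomial_of_isRegularHom_cpl (R : Type u) [CommRing R] [IsLocalRing R]
    [IsNoetherianRing R]
    (hR : CAlg.IsRegularHom R (AdicCompletion (maximalIdeal R) R)) : CAlg.IsGRing R[X] := by
  classical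
  have hfg : (maximalIdeal R).FG := IsNoetherian.noetherian _
  haveI : IsNoetherianRing (AdicCompletion (maximalIdeal R) R) := Groth.Agent.S0543.result R _
  haveI := AdicCompletion.algebraMap_isLocalHom_of_fg (R := R) hfg
  haveI : Module.Flat R (AdicCompletion (maximalIdeal R) R) := hR.1
  haveI : Module.FaithfullyFlat R (AdicCompletion (maximalIdeal R) R) :=
    Module.FaithfullyFlat.of_flat_of_isLocalHom
  haveI : IsAdicComplete (maximalIdeal (AdicCompletion (maximalIdeal R) R))
      (AdicCompletion (maximalIdeal R) R) := Groth.Agent.H6.CanCompl.isAdicComplete_completion R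
  have hGhat : CAlg.IsGRing (AdicCompletion (maximalIdeal R) R)[X] :=
    isGRing_polynomial_of_complete _
  -- the base change
  let e : (R[X] ⊗[R] AdicCompletion (maximalIdeal R) R) ≃+* (AdicCompletion (maximalIdeal R) R)[X] :=
    ((Algebra.TensorProduct.comm R R[X] (AdicCompletion (maximalIdeal R) R)).trans
      (polyEquivTensor R (AdicCompletion (maximalIdeal R) R)).symm).toRingEquiv
  have hGΛ : CAlg.IsGRing (R[X] ⊗[R] AdicCompletion (maximalIdeal R) R) :=
    isGRing_of_ringEquiv e.symm hGhat
  haveI : IsNoetherianRing (R[X] ⊗[R] AdicCompletion (maximalIdeal R) R) := hGΛ.1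
  have hbc : CAlg.IsRegularHom R[X] (R[X] ⊗[R] AdicCompletion (maximalIdeal R) R) :=
    Groth.Agent.H3.RegHomBC.isRegularHom_baseChange_of_isNoetherianRing R
      (AdicCompletion (maximalIdeal R) R) R[X] hR
  haveI : Module.FaithfullyFlat R[X] (R[X] ⊗[R] AdicCompletion (maximalIdeal R) R) :=
    inferInstance
  refine ⟨inferInstance, fun q _ => ?_⟩
  obtain ⟨q', hq'prime, hq'over⟩ := Ideal.exists_isPrime_liesOver_of_faithfullyFlat
    (B := R[X] ⊗[R] AdicCompletion (maximalIdeal R) R) q
  haveI := hq'prime
  have hloc := Groth.Agent.H3.RegHomLocal.isRegularHom_localRingHom R[X]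
    (R[X] ⊗[R] AdicCompletion (maximalIdeal R) R) hbc q'
  have hΛ := hGΛ.2 q'
  haveI : IsNoetherianRing (Localization.AtPrime (q'.under R[X])) :=
    IsLocalization.isNoetherianRing (q'.under R[X]).primeCompl _ inferInstance
  haveI : IsNoetherianRing (Localization.AtPrime q') :=
    IsLocalization.isNoetherianRing q'.primeCompl _ inferInstance
  haveI : IsLocalHom (algebraMap (Localization.AtPrime (q'.under R[X]))
      (Localization.AtPrime q')) :=
    Localization.isLocalHom_localRingHom _ _ _ _
  have h1 := Groth.Agent.H3.FFDesc.isRegularHom_cpl_of_isRegularHom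
    (Localization.AtPrime (q'.under R[X])) (Localization.AtPrime q') hloc hΛ
  exact isRegularHom_cpl_of_ideal_eq (q'.under R[X]) q hq'over.over.symm h1

end R6

end Groth.Agent.H5.GRC
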