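import Mathlib
import Groth.Prelude
import Groth.Agent.Lib.Helper5.CD.R6

set_option autoImplicit false
universe u

open TensorProduct IsLocalRing Polynomial

namespace Groth.Agent.H5.GRC

section R7

attribute [local instance] Polynomial.algebra Polynomial.isLocalization in
set_option maxHeartbeats 1000000 in
/-- **the polynomial ring over a G-ring is a G-ring**. -/
theorem isGRing_polynomial (R : Type u) [CommRing R] (h : CAlg.IsGRing R) : CAlg.IsGRing R[X] := by
  classical
  haveI : IsNoetherianRing R := h.1
  apply Groth.Agent.H3.GRing.isGRing_of_local R[X]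
  intro q hq
  set P₀ : Ideal R := q.comap (C : R →+* R[X]) with hP₀
  haveI : P₀.IsPrime := Ideal.comap_isPrime _ _
  haveI : IsNoetherianRing (Localization.AtPrime P₀) :=
    IsLocalization.isNoetherianRing P₀.primeCompl _ inferInstance
  have hG : CAlg.IsGRing (Localization.AtPrime P₀)[X] :=
    isGRing_polynomial_of_isRegularHom_cpl (Localization.AtPrime P₀) (h.2 P₀)
  have hdisj : Disjoint ((P₀.primeCompl.map (C : R →+* R[X]) : Submonoid R[X]) : Set R[X])
      (q : Set R[X]) := by
    rw [Set.disjoint_left]
    rintro _ ⟨a, ha, rfl⟩ hmem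
    exact ha hmem
  set q'' : Ideal (Localization.AtPrime P₀)[X] :=
    q.map (algebraMap R[X] (Localization.AtPrime P₀)[X]) with hq''
  haveI hq''prime : q''.IsPrime :=
    IsLocalization.isPrime_of_isPrime_disjoint (P₀.primeCompl.map (C : R →+* R[X])) _ q hq hdisj
  have hcomap : q''.comap (algebraMap R[X] (Localization.AtPrime P₀)[X]) = q :=
    IsLocalization.under_map_of_isPrime_disjoint (P₀.primeCompl.map (C : R →+* R[X])) _ hq hdisj
  refine ⟨(Localization.AtPrime P₀)[X], inferInstance, hG, q'', hq''prime, ?_⟩
  have h2 : IsLocalization.AtPrime (Localization.AtPrime q'')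
      (q''.comap (algebraMap R[X] (Localization.AtPrime P₀)[X])) :=
    IsLocalization.isLocalization_isLocalization_atPrime_isLocalization
      (P₀.primeCompl.map (C : R →+* R[X])) (Localization.AtPrime q'') q''
  have h3 : IsLocalization q.primeCompl (Localization.AtPrime q'') := by
    have hpc : (q''.comap (algebraMap R[X] (Localization.AtPrime P₀)[X])).primeCompl =
        q.primeCompl := by
      ext a
      show a ∉ q''.comap _ ↔ a ∉ q
      rw [hcomap]
    change IsLocalization _ _ at h2
    rw [hpc] at h2
    exact h2
  exact ⟨(IsLocalization.algEquiv q.primeCompl (Localization.AtPrime q'')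
    (Localization.AtPrime q)).toRingEquiv⟩

/-- polynomial rings in finitely many variables over a G-ring are G-rings. -/
theorem isGRing_mvPolynomial (R : Type u) [CommRing R] (h : CAlg.IsGRing R) (n : ℕ) :
    CAlg.IsGRing (MvPolynomial (Fin n) R) := by
  induction n with
  | zero => exact isGRing_of_ringEquiv (MvPolynomial.isEmptyRingEquiv R (Fin 0)).symm h
  | succ n ih =>
    exact isGRing_of_ringEquiv (MvPolynomial.finSuccEquiv R n).symm.toRingEquiv
      (isGRing_polynomial _ ih)

/-- **an algebra of finite type over a G-ring is a G-ring**. -/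
theorem isGRing_of_finiteType (R : Type u) [CommRing R] (hR : CAlg.IsGRing R) (S : Type u)
    [CommRing S] [Algebra R S] [Algebra.FiniteType R S] : CAlg.IsGRing S := by
  obtain ⟨n, ψ, hψ⟩ := Algebra.FiniteType.iff_quotient_mvPolynomial''.mp
    (inferInstance : Algebra.FiniteType R S)
  have h1 := isGRing_quotient (isGRing_mvPolynomial R hR n) (RingHom.ker ψ.toRingHom)
  exact isGRing_of_ringEquiv (RingHom.quotientKerEquivOfSurjective (f := ψ.toRingHom) hψ) h1

end R7

end Groth.Agent.H5.GRC
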