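import Groth.Agent.Lib.Helper5.CD.T9
import Groth.Agent.Lib.Helper5.CD.M1
import Groth.Agent.Lib.Helper5.CD.M3
import Groth.Agent.Lib.Helper6.RegHomFS2
import Groth.Agent.Lib.Helper5.CA.NG23
import Groth.Agent.Lib.Helper8.Hens.Noeth
import Groth.Agent.Lib.Helper8.Hens.FormallyEtale
import Groth.Agent.Lib.Helper8.Hens.Strict

/-!
# Cancellation of regular homomorphisms along a formally unramified map; strict henselization of
a local G-ring is a G-ring (Stacks 07QR).
-/

universe u

open IsLocalRing TensorProduct

namespace Groth.Agent.H5.GRC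

namespace U1

attribute [local instance] Localization.AtPrime.algebraOfLiesOver

/-- **Cancellation**: if `A → C` is regular and factors through a formally unramified `A → B`
(all rings Noetherian), then `B → C` is regular. -/
theorem isRegularHom_of_formallyUnramified (A B C : Type u) [CommRing A] [CommRing B]
    [CommRing C] [Algebra A B] [Algebra B C] [Algebra A C] [IsScalarTower A B C]
    [IsNoetherianRing A] [IsNoetherianRing B] [IsNoetherianRing C]
    [Algebra.FormallyUnramified A B] (h : CAlg.IsRegularHom A C) : CAlg.IsRegularHom B C := by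
  refine Groth.Agent.H6.RegHomFS.bwd B C (fun r _ => ?_)
  have h1 := Groth.Agent.H6.RegHomFS.fwd A C h r
  haveI : (r.under B).LiesOver (r.under A) := ⟨by rw [Ideal.under_under]⟩
  haveI : Algebra.FormallyUnramified A (Localization.AtPrime (r.under B)) :=
    haveI : Algebra.FormallyUnramified B (Localization.AtPrime (r.under B)) :=
      Algebra.FormallyUnramified.of_isLocalization (r.under B).primeCompl
    Algebra.FormallyUnramified.comp A B _
  haveI : Algebra.FormallyUnramified (Localization.AtPrime (r.under A))
      (Localization.AtPrime (r.under B)) :=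
    Algebra.FormallyUnramified.of_restrictScalars A _ _
  exact _root_.H5.NG.isAdicFormallySmooth_of_formallyUnramified
    (Localization.AtPrime (r.under A)) (Localization.AtPrime (r.under B)) (Localization.AtPrime r)
    _ h1

set_option maxHeartbeats 1000000 in
/-- If `A → Â` is regular, `A → B` is a flat local homomorphism and `A → B̂` is formally smooth,
then `A → B̂` is regular. -/
theorem isRegularHom_cpl_of_isAdicFormallySmooth_cpl (A B : Type u) [CommRing A] [CommRing B]
    [IsNoetherianRing A] [IsNoetherianRing B] [IsLocalRing A] [IsLocalRing B] [Algebra A B]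
    [IsLocalHom (algebraMap A B)] [Module.Flat A B]
    (hA : CAlg.IsRegularHom A (EGA4.Cpl A))
    (hfs : CAlgX.IsAdicFormallySmooth A (EGA4.Cpl B) (maximalIdeal (EGA4.Cpl B))) :
    CAlg.IsRegularHom A (EGA4.Cpl B) := by
  classical
  haveI hNB : IsNoetherianRing (EGA4.Cpl B) := Groth.Agent.S0543.result B _
  haveI hNA : IsNoetherianRing (EGA4.Cpl A) := Groth.Agent.S0543.result A _
  have fgA : (maximalIdeal A).FG := IsNoetherian.noetherian _
  have fgB : (maximalIdeal B).FG := IsNoetherian.noetherian _
  haveI : IsScalarTower A B (EGA4.Cpl B) := Groth.Agent.H3.CplMap.isScalarTower_cpl A B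
  haveI : Module.Flat B (EGA4.Cpl B) := AdicCompletion.flat_of_isNoetherian _
  haveI := AdicCompletion.algebraMap_isLocalHom_of_fg (R := B) fgB
  haveI : Module.FaithfullyFlat B (EGA4.Cpl B) := Module.FaithfullyFlat.of_flat_of_isLocalHom
  obtain ⟨algAB, htow, hff⟩ := Groth.Agent.H3.CplMap.exists_cpl_tower A B
  haveI := htow
  haveI := hff
  haveI : IsAdicComplete (maximalIdeal (EGA4.Cpl A)) (EGA4.Cpl A) :=
    Groth.Agent.H6.CanCompl.isAdicComplete_completion A
  haveI : IsAdicComplete (maximalIdeal (EGA4.Cpl B)) (EGA4.Cpl B) :=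
    Groth.Agent.H6.CanCompl.isAdicComplete_completion B
  have hle : (maximalIdeal A).map (algebraMap A (EGA4.Cpl B)) ≤ maximalIdeal (EGA4.Cpl B) := by
    rw [IsScalarTower.algebraMap_eq A B (EGA4.Cpl B), ← Ideal.map_map,
      AdicCompletion.maximalIdeal_eq_map]
    exact Ideal.map_mono (Groth.Agent.H3.CplMap.map_maximalIdeal_le A B)
  have hfs2 : CAlgX.IsAdicFormallySmooth (EGA4.Cpl A) (EGA4.Cpl B)
      (maximalIdeal (EGA4.Cpl B)) :=
    (Groth.Agent.H5.AdicFS.isAdicFormallySmooth_base_completion_iff (maximalIdeal A) fgA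
      (T := EGA4.Cpl B) (maximalIdeal (EGA4.Cpl B)) ⟨1, by rw [pow_one]; exact hle⟩).mp hfs
  haveI : IsLocalHom (algebraMap (EGA4.Cpl A) (EGA4.Cpl B)) := by
    refine ((IsLocalRing.local_hom_TFAE _).out 0 2).mpr ?_
    rw [AdicCompletion.maximalIdeal_eq_map, Ideal.map_map, ← IsScalarTower.algebraMap_eq]
    exact hle
  have h1 : CAlg.IsRegularHom (EGA4.Cpl A) (EGA4.Cpl B) :=
    isRegularHom_of_isAdicFormallySmooth_of_complete _ _ hfs2
  exact Groth.Agent.S9294.result A (EGA4.Cpl A) (EGA4.Cpl B) hA h1
      (fun p _ => Groth.Agent.H3.RegHomBC.isNoetherianRing_fiber A (EGA4.Cpl B) p)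

/-- A Noetherian local ring `B` that is formally étale, flat and local over a Noetherian local
ring `A` with regular completion map is a G-ring. -/
theorem isGRing_of_formallyEtale (A B : Type u) [CommRing A] [CommRing B]
    [IsNoetherianRing A] [IsNoetherianRing B] [IsLocalRing A] [IsLocalRing B] [Algebra A B]
    [IsLocalHom (algebraMap A B)] [Module.Flat A B] [Algebra.FormallyEtale A B]
    (hA : CAlg.IsRegularHom A (EGA4.Cpl A)) : CAlg.IsGRing B := by
  have fgB : (maximalIdeal B).FG := IsNoetherian.noetherian _
  haveI hNB : IsNoetherianRing (EGA4.Cpl B) := Groth.Agent.S0543.result B _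
  haveI : IsScalarTower A B (EGA4.Cpl B) := Groth.Agent.H3.CplMap.isScalarTower_cpl A B
  haveI : Algebra.FormallySmooth A B :=
    (Algebra.FormallyEtale.iff_formallyUnramified_and_formallySmooth.mp inferInstance).2
  haveI : Algebra.FormallyUnramified A B :=
    (Algebra.FormallyEtale.iff_formallyUnramified_and_formallySmooth.mp inferInstance).1
  have h0 : CAlgX.IsAdicFormallySmooth A B (maximalIdeal B) :=
    Groth.Agent.H5.GR.isAdicFormallySmooth_of_formallySmooth A B _
  have h1 : CAlgX.IsAdicFormallySmooth A (EGA4.Cpl B) (maximalIdeal (EGA4.Cpl B)) := by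
    have := isAdicFormallySmooth_adicCompletion (maximalIdeal B) fgB h0
    rwa [AdicCompletion.maximalIdeal_eq_map]
  have h2 : CAlg.IsRegularHom A (EGA4.Cpl B) :=
    isRegularHom_cpl_of_isAdicFormallySmooth_cpl A B hA h1
  exact isGRing_of_isRegularHom_cpl B (isRegularHom_of_formallyUnramified A B (EGA4.Cpl B) h2)

/-- **Stacks 07QR**: the strict henselization of a Noetherian local G-ring is a G-ring. -/
theorem isGRing_of_isStrictHenselization {R S : Type u} [CommRing R] [IsLocalRing R]
    [IsNoetherianRing R] (hR : CAlg.IsGRing R) [CommRing S] [IsLocalRing S] [Algebra R S]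
    [IsLocalHom (algebraMap R S)] [Hensel.IsStrictHenselization R S] : CAlg.IsGRing S := by
  haveI : IsNoetherianRing S :=
    (Groth.Agent.H8.Hens.isNoetherianRing_iff_of_isStrictHenselization (R := R) S).mp inferInstance
  haveI : Module.Flat R S := Groth.Agent.H8.Hens.flat_of_isStrictHenselization (R := R) S
  haveI : Algebra.FormallyEtale R S := Groth.Agent.H8.Hens.formallyEtale_of_isStrictHenselization (R := R) S
  exact isGRing_of_formallyEtale R S (isRegularHom_cpl_of_isGRing R hR)

end U1

end Groth.Agent.H5.GRC
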