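import Groth.Agent.Lib.Helper5.CD.U1
import Groth.Agent.Lib.Helper3.CA.ExcellentLoc
import Groth.Agent.Lib.Helper8.PairHens.NoethPair

/-!
# Noetherian flat formally étale algebras over a G-ring are G-rings; henselization of a pair.
-/

universe u

open IsLocalRing TensorProduct

namespace Groth.Agent.H5.GRC

namespace U2

attribute [local instance] Localization.AtPrime.algebraOfLiesOver

/-- **Ind-étale ascent of the G-ring property**: a Noetherian algebra `B` which is flat and
formally étale over a G-ring `A` is a G-ring. -/
theorem isGRing_of_flat_of_formallyEtale (A B : Type u) [CommRing A] [CommRing B] [Algebra A B]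
    [IsNoetherianRing B] [Module.Flat A B] [Algebra.FormallyEtale A B] (hA : CAlg.IsGRing A) :
    CAlg.IsGRing B := by
  haveI : IsNoetherianRing A := hA.1
  refine ⟨inferInstance, fun q _ => ?_⟩
  set p : Ideal A := q.under A with hp
  haveI : IsNoetherianRing (Localization.AtPrime p) :=
    IsLocalization.isNoetherianRing p.primeCompl _ inferInstance
  haveI : IsNoetherianRing (Localization.AtPrime q) :=
    IsLocalization.isNoetherianRing q.primeCompl _ inferInstance
  haveI : IsLocalHom (algebraMap (Localization.AtPrime p) (Localization.AtPrime q)) := by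
    change IsLocalHom (Localization.localRingHom p q (algebraMap A B) Ideal.LiesOver.over)
    infer_instance
  haveI : Module.Flat A (Localization.AtPrime q) := Module.Flat.trans A B _
  haveI : Module.Flat (Localization.AtPrime p) (Localization.AtPrime q) :=
    (Module.flat_iff_of_isLocalization (Localization.AtPrime p) p.primeCompl
      (Localization.AtPrime q)).mpr inferInstance
  haveI : Algebra.FormallyEtale A (Localization.AtPrime q) :=
    Algebra.FormallyEtale.comp A B _
  haveI : Algebra.FormallyEtale (Localization.AtPrime p) (Localization.AtPrime q) :=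
    Algebra.FormallyEtale.localization_base p.primeCompl
  exact isRegularHom_cpl_of_isGRing _
    (U1.isGRing_of_formallyEtale (Localization.AtPrime p) (Localization.AtPrime q) (hA.2 p))

section PairH

open Groth.Agent.H8.PairHens

variable {R K : Type u} [CommRing R] [CommRing K] [Algebra R K]

section Glue

variable {B : Type u} [CommRing B] [Algebra R B] (g : ∀ i : EtPt R K, i.Loc →ₐ[R] B)
  (hg : ∀ (i j : EtPt R K) (h : i ≤ j) (x : i.Loc), g j (EtPt.trans h x) = g i x)

/-- Glue a compatible family of maps out of the stages (ring map). -/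
noncomputable def glueR : H R K →+* B :=
  Ring.DirectLimit.lift _ _ B (fun i => (g i).toRingHom) (fun i j hij x => hg i j hij x)

theorem glueR_of (i : EtPt R K) (x : i.Loc) : glueR g hg (H.of i x) = g i x :=
  Ring.DirectLimit.lift_of _ _ _ _ _

/-- Glue a compatible family of algebra maps out of the stages. -/
noncomputable def glue : H R K →ₐ[R] B :=
  { glueR g hg with
    commutes' := fun r => by
      show glueR g hg (algebraMap R (H R K) r) = _
      rw [H.algebraMap_eq (Classical.arbitrary _) r, glueR_of]
      exact (g _).commutes r }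

theorem glue_of (i : EtPt R K) (x : i.Loc) : glue g hg (H.of i x) = g i x :=
  glueR_of g hg i x

end Glue

theorem algHom_ext' {B : Type u} [Semiring B] [Algebra R B] {g₁ g₂ : H R K →ₐ[R] B}
    (h : ∀ i : EtPt R K, g₁.comp (H.ofₐ i) = g₂.comp (H.ofₐ i)) : g₁ = g₂ := by
  ext z
  obtain ⟨i, x, rfl⟩ := H.exists_of z
  exact congrArg (fun w => w x) (h i)

/-- the constructed `K`-henselization is formally étale. -/
theorem formallyEtale_H : Algebra.FormallyEtale R (H R K) := by
  rw [Algebra.FormallyEtale.iff_comp_bijective]
  intro B _ _ I hI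
  constructor
  · intro g₁ g₂ h
    apply algHom_ext'
    intro i
    apply (Algebra.FormallyEtale.comp_bijective R i.Loc I hI).1
    show (Ideal.Quotient.mkₐ R I).comp (g₁.comp (H.ofₐ i)) =
      (Ideal.Quotient.mkₐ R I).comp (g₂.comp (H.ofₐ i))
    rw [← AlgHom.comp_assoc, ← AlgHom.comp_assoc]
    exact congrArg (fun w => w.comp (H.ofₐ i)) h
  · intro f
    have hex : ∀ i : EtPt R K, ∃ gi : i.Loc →ₐ[R] B,
        (Ideal.Quotient.mkₐ R I).comp gi = f.comp (H.ofₐ i) := fun i =>
      (Algebra.FormallyEtale.comp_bijective R i.Loc I hI).2 _
    choose g hgf using hex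
    have hg : ∀ (i j : EtPt R K) (h : i ≤ j) (x : i.Loc), g j (EtPt.trans h x) = g i x := by
      intro i j h x
      have : (g j).comp (EtPt.trans h) = g i := by
        apply (Algebra.FormallyEtale.comp_bijective R i.Loc I hI).1
        show (Ideal.Quotient.mkₐ R I).comp ((g j).comp (EtPt.trans h)) =
          (Ideal.Quotient.mkₐ R I).comp (g i)
        rw [← AlgHom.comp_assoc, hgf, hgf]
        ext y
        simp only [AlgHom.coe_comp, Function.comp_apply, H.ofₐ_apply, H.of_trans]
      exact congrArg (fun w => w x) this
    refine ⟨glue g hg, ?_⟩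
    apply algHom_ext'
    intro i
    rw [← hgf i]
    ext x
    simp only [AlgHom.coe_comp, Function.comp_apply, H.ofₐ_apply, glue_of]

end PairH

/-- a henselization of a pair is formally étale over the base. -/
theorem formallyEtale_of_isPairHenselization {A : Type u} [CommRing A] {I : Ideal A}
    {B : Type u} [CommRing B] [Algebra A B] (hB : Hens2.IsPairHenselization A I B) :
    Algebra.FormallyEtale A B :=
  haveI : Algebra.FormallyEtale A (Groth.Agent.H8.PairHens.Hp A I) := formallyEtale_H
  Algebra.FormallyEtale.of_equiv (Groth.Agent.H8.PairHens.algEquiv hB)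

/-- **Stacks 0AH3**: the henselization of a pair `(A, I)` with `A` a G-ring is a G-ring. -/
theorem isGRing_of_isPairHenselization (A : Type u) [CommRing A] (hA : CAlg.IsGRing A)
    (I : Ideal A) (B : Type u) [CommRing B] [Algebra A B]
    (hB : Hens2.IsPairHenselization A I B) : CAlg.IsGRing B := by
  haveI : IsNoetherianRing A := hA.1
  obtain ⟨hN, hF, -⟩ := Groth.Agent.H8.PairHens.NoethPair.main A I B hB
  haveI := hN
  haveI := hF
  haveI := formallyEtale_of_isPairHenselization hB
  exact isGRing_of_flat_of_formallyEtale A B hA

end U2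

end Groth.Agent.H5.GRC
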